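import Cfsg.Agent.SuzukiZ.Bound
import Cfsg.Agent.Char.InvolutionCount

/-!
# The exponent of `q` is odd
-/

set_option autoImplicit false
set_option linter.unusedSectionVars false

namespace Cfsg.Agent.SuzukiZ

open Subgroup MulAction RankOne CharExt
open scoped Classical ComplexConjugate

universe u v

variable {G : Type u} {Ω : Type v} [Group G] [Finite G] [MulAction G Ω] [Finite Ω]
variable {a : Ω} {t : G} {U : Subgroup G}

/-- A real element with no fixed point is strongly real. -/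
theorem Setup.sr_of_fpf_real (h : Setup G a t U) {x g : G} (hf : ∀ c : Ω, x • c ≠ c)
    (hg : g * x * g⁻¹ = x⁻¹) : SR x := by
  haveI := h.faithful
  have hx2 : x * x ≠ 1 := by
    intro e
    obtain ⟨p, hp⟩ := exists_fix_invol h.rankOne e
    exact hf p hp
  obtain ⟨k, m, hm, hkm⟩ : ∃ k m : ℕ, Odd m ∧ orderOf g = 2 ^ k * m :=
    Nat.exists_eq_two_pow_mul_odd (orderOf_pos g).ne'
  set s := g ^ m with hs
  have hpow : ∀ i : ℕ, g ^ (2 * i) * x * (g ^ (2 * i))⁻¹ = x := by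
    intro i
    induction i with
    | zero => simp
    | succ i ih =>
      rw [show 2 * (i + 1) = 2 + 2 * i by ring, pow_add]
      calc g ^ 2 * g ^ (2 * i) * x * (g ^ 2 * g ^ (2 * i))⁻¹
          = g * (g * (g ^ (2 * i) * x * (g ^ (2 * i))⁻¹) * g⁻¹) * g⁻¹ := by group
        _ = x := by
          rw [ih, hg]
          calc g * x⁻¹ * g⁻¹ = (g * x * g⁻¹)⁻¹ := by group
            _ = x := by rw [hg, inv_inv]
  have hsx : s * x * s⁻¹ = x⁻¹ := by
    obtain ⟨i, hi⟩ := hm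
    rw [hs, hi, pow_succ']
    calc g * g ^ (2 * i) * x * (g * g ^ (2 * i))⁻¹
        = g * (g ^ (2 * i) * x * (g ^ (2 * i))⁻¹) * g⁻¹ := by group
      _ = x⁻¹ := by rw [hpow, hg]
  have hs2 : s ^ (2 ^ k) = 1 := by
    rw [hs, ← pow_mul, mul_comm, ← hkm, pow_orderOf_eq_one]
  have hs1 : s ≠ 1 := by
    intro e
    rw [e, one_mul, inv_one, mul_one] at hsx
    exact hx2 (by nth_rewrite 2 [hsx]; exact mul_inv_cancel x)
  obtain ⟨j, hjk, hj⟩ := (Nat.dvd_prime_pow Nat.prime_two).1 (orderOf_dvd_of_pow_eq_one hs2)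
  rcases j with _ | _ | j
  · exact absurd (orderOf_eq_one_iff.1 (hj.trans (pow_zero 2))) hs1
  · have hss : s * s = 1 := by
      rw [← sq, ← pow_one (2 : ℕ), ← hj, pow_orderOf_eq_one]
    exact ⟨hx2, s, hs1, hss, by nth_rewrite 2 [← inv_eq_self_of_sq hss]; exact hsx⟩
  · exfalso
    set r := s ^ (2 ^ (j + 1)) with hr
    have hr1 : r ≠ 1 := by
      refine pow_ne_one_of_lt_orderOf (by positivity) ?_
      rw [hj]
      exact Nat.pow_lt_pow_right (by norm_num) (by omega)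
    have hr2 : r * r = 1 := by
      rw [hr, ← pow_add, ← two_mul, ← pow_succ', ← hj, pow_orderOf_eq_one]
    have hrx : r * x = x * r := by
      have h1 := hpow (m * 2 ^ j)
      rw [show g ^ (2 * (m * 2 ^ j)) = r by rw [hr, hs, ← pow_mul]; congr 1; ring] at h1
      exact mul_inv_eq_iff_eq_mul.1 h1
    obtain ⟨p, hp⟩ := exists_fix_invol h.rankOne hr2
    exact hf p (fix_of_commute h.rankOne hr1 hr2 hrx hp)

theorem Setup.real_cases (h : Setup G a t U) (hQ : Nat.card U = q G a ^ 2) {x : G}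
    (hx : IsConj x x⁻¹) : x * x = 1 ∨ SR x := by
  haveI := h.faithful
  obtain ⟨g, hg⟩ := isConj_iff.1 hx
  by_cases hf : ∀ c : Ω, x • c ≠ c
  · exact Or.inr (h.sr_of_fpf_real hf hg)
  push Not at hf
  obtain ⟨p, hp⟩ := hf
  obtain ⟨k, hk⟩ := h.exists_to_a p
  have hka : (k * x * k⁻¹) • a = a := by rw [← hk]; exact Setup.conj_fix hp
  rcases h.stab_cases hka with hU | ⟨u, -, d, hd, hd1, e⟩
  · refine Or.inl ?_
    by_cases hy1 : k * x * k⁻¹ = 1
    · rw [conj_eq_one_iff] at hy1; rw [hy1, one_mul]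
    set y := k * x * k⁻¹ with hy
    have hg' : (k * g * k⁻¹) * y * (k * g * k⁻¹)⁻¹ = y⁻¹ := by
      calc _ = k * (g * x * g⁻¹) * k⁻¹ := by rw [hy]; group
        _ = y⁻¹ := by rw [hg, hy]; group
    have hga : (k * g * k⁻¹) • a = a := by
      refine (h.U_fix_iff (U.inv_mem hU) (fun e => hy1 (inv_eq_one.1 e))).1 ?_
      rw [← hg']
      exact Setup.conj_fix (Q_fix h.rankOne hU)
    have h2 := (h.real_of_stab hQ hga hka hg').2
    rw [hy, conj_mul, conj_eq_one_iff] at h2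
    exact h2
  · refine Or.inr ?_
    rw [← sr_conj_iff (g := u⁻¹ * k),
      show u⁻¹ * k * x * (u⁻¹ * k)⁻¹ = u⁻¹ * (k * x * k⁻¹) * u by group, e,
      show u⁻¹ * (u * d * u⁻¹) * u = d by group]
    exact h.sr_D hd hd1

theorem Setup.card_real_classes_le (h : Setup G a t U) (hQ : Nat.card U = q G a ^ 2) :
    Nat.card {C : ConjClasses G // ∀ g : G, ConjClasses.mk g = C → IsConj g g⁻¹} ≤
      q G a + 1 := by
  obtain ⟨s₀, hs₀U, hs₀1, hs₀2⟩ := exists_involution_Q h.rankOne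
  letI := Fintype.ofFinite G
  haveI : Finite (ConjClasses G) := Finite.of_surjective _ ConjClasses.mk_surjective
  set F : Option (Option (Ia G a)) → ConjClasses G := fun o => o.elim (ConjClasses.mk 1)
    fun o' => o'.elim (ConjClasses.mk s₀) fun s => ConjClasses.mk ((s : G) * t) with hF
  have hsub : ∀ C : {C : ConjClasses G // ∀ g : G, ConjClasses.mk g = C → IsConj g g⁻¹},
      ∃ o, F o = C.1 := by
    rintro ⟨C, hC⟩
    obtain ⟨x, rfl⟩ := ConjClasses.mk_surjective C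
    rcases h.real_cases hQ (hC x rfl) with e | e
    · by_cases hx1 : x = 1
      · exact ⟨none, congrArg ConjClasses.mk hx1.symm⟩
      · refine ⟨some none, ConjClasses.mk_eq_mk_iff_isConj.2 (isConj_iff.2 ?_)⟩
        exact conj_invol h.rankOne hs₀1 hs₀2 hx1 e
    · obtain ⟨g, s, hs, hgx⟩ := h.sr_rep e
      exact ⟨some (some ⟨s, hs⟩), ConjClasses.mk_eq_mk_iff_isConj.2 (isConj_iff.2 ⟨g, hgx⟩).symm⟩
  choose o ho using hsub
  refine le_trans (Nat.card_le_card_of_injective o fun C C' e => Subtype.ext ?_) ?_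
  · rw [← ho C, ← ho C', e]
  · rw [Finite.card_option, Finite.card_option]
    rfl

theorem Setup.card_invol (h : Setup G a t U) :
    Nat.card {x : G // orderOf x = 2} = (Nat.card U + 1) * (q G a - 1) := by
  haveI := h.faithful
  choose g hg using h.exists_to_a
  have hmem : ∀ (p : Ω) (s : Ia G a), orderOf ((g p)⁻¹ * (s : G) * g p) = 2 := by
    intro p s
    refine orderOf_eq_prime ?_ ?_
    · rw [sq]
      simpa using (conj_invol_props (g p)⁻¹ s.2.2).2
    · simpa using (conj_invol_props (g p)⁻¹ s.2.2).1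
  let f : Ω × Ia G a → {x : G // orderOf x = 2} := fun p => ⟨_, hmem p.1 p.2⟩
  have hfix : ∀ (p : Ω) (s : Ia G a), ((g p)⁻¹ * (s : G) * g p) • p = p := fun p s => by
    rw [mul_smul, mul_smul, hg, s.2.1, inv_smul_eq_iff, hg]
  rw [h.card_omega, show q G a - 1 = Nat.card (Ia G a) by simp [q], ← Nat.card_prod]
  refine (Nat.card_eq_of_bijective f ⟨?_, ?_⟩).symm
  · rintro ⟨p, s⟩ ⟨p', s'⟩ e
    have e' : (g p)⁻¹ * (s : G) * g p = (g p')⁻¹ * (s' : G) * g p' := congrArg Subtype.val e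
    have h2 := hmem p s
    have hne : (g p)⁻¹ * (s : G) * g p ≠ 1 := fun e'' => by
      rw [e'', orderOf_one] at h2; omega
    have hsq : (g p)⁻¹ * (s : G) * g p * ((g p)⁻¹ * (s : G) * g p) = 1 := by
      have := pow_orderOf_eq_one ((g p)⁻¹ * (s : G) * g p)
      rwa [h2, sq] at this
    obtain rfl : p = p' := fix_unique h.rankOne hne hsq (hfix p s) (by rw [e']; exact hfix p' s')
    rw [show s = s' from Subtype.ext (mul_left_cancel (mul_right_cancel e'))]
  · rintro ⟨x, hx⟩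
    have hx1 : x ≠ 1 := fun e => by rw [e, orderOf_one] at hx; omega
    have hx2 : x * x = 1 := by rw [← sq, ← hx, pow_orderOf_eq_one]
    obtain ⟨p, hp⟩ := exists_fix_invol h.rankOne hx2
    refine ⟨(p, ⟨g p * x * (g p)⁻¹, ?_⟩), Subtype.ext (by simp [f, mul_assoc])⟩
    exact ⟨(congrArg (fun c => (g p * x * (g p)⁻¹) • c) (hg p).symm).trans
      ((Setup.conj_fix hp).trans (hg p)), conj_invol_props _ ⟨hx1, hx2⟩⟩

/-- Four non-real irreducible characters limit their least degree. -/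
theorem Setup.degree_bound (h : Setup G a t U) [Fintype G] (hQ : Nat.card U = q G a ^ 2)
    (X : Finset (IrrCharacter G)) (hX : ∀ χ ∈ X, Char.conjIrr χ ≠ χ) (hX4 : 4 ≤ X.card) {L : ℕ}
    (hL : ∀ χ ∈ X, L * (q G a - 1) ≤ charDegree (χ : G → ℂ)) :
    2 * L ^ 2 < q G a ^ 2 := by
  set d : IrrCharacter G → ℝ := fun χ => (charDegree (χ : G → ℂ) : ℝ) with hd
  have hq := h.two_le_q
  set x₀ := (q G a : ℝ) with hx₀
  have hx4 : (4 : ℝ) ≤ x₀ := by rw [hx₀]; exact_mod_cast hq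
  set R := Finset.univ.filter (fun χ : IrrCharacter G => Char.conjIrr χ = χ) with hR
  have hRcard : (R.card : ℝ) ≤ x₀ + 1 := by
    have h1 := h.card_real_classes_le hQ
    rw [← Char.card_real_irr_eq_card_real_classes, Nat.card_eq_fintype_card,
      Fintype.card_subtype] at h1
    rw [show R = Finset.univ.filter (fun χ : IrrCharacter G => ∀ g, ((χ : G → ℂ) g).im = 0) from
      Finset.filter_congr fun χ _ => Char.conjIrr_eq_self_iff χ, hx₀]
    exact_mod_cast h1
  have hsum : ((x₀ ^ 2 + 1) * (x₀ - 1) + 1) ≤ ∑ χ ∈ R, d χ := by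
    have h1 := Char.card_involutions_le_sum (G := G)
    rw [h.card_invol, hQ] at h1
    push_cast [Nat.cast_sub (show 1 ≤ q G a by omega)] at h1
    have hT : Char.trivialIrr G ∈ R :=
      Finset.mem_filter.2 ⟨Finset.mem_univ _, Subtype.ext (funext fun g => by
        rw [Char.conjIrr_apply]; simp [Char.trivialIrr])⟩
    rw [← Finset.add_sum_erase _ _ hT]
    have hdT : d (Char.trivialIrr G) = 1 := by
      simp only [hd]
      rw [Char.charDegree_of_eq (show ((Char.trivialIrr G : IrrCharacter G) : G → ℂ) 1 =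
        ((1 : ℕ) : ℂ) by simp [Char.trivialIrr]), Nat.cast_one]
    rw [hdT]
    have h2 : (Finset.univ.filter fun χ : IrrCharacter G =>
        Char.conjIrr χ = χ ∧ χ ≠ Char.trivialIrr G) = R.erase (Char.trivialIrr G) := by
      ext χ; simp [hR, and_comm]
    rw [h2] at h1
    rw [← hx₀] at h1
    linarith
  have htot : ∑ χ, d χ ^ 2 = x₀ ^ 2 * (x₀ - 1) * (x₀ ^ 2 + 1) := by
    have h1 : ∑ χ, d χ ^ 2 = (Nat.card G : ℝ) := by
      have := Char.sum_irr_degree_sq (G := G)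
      simp only [fun χ : IrrCharacter G => (Char.irr_charDegree_spec χ.2).2] at this
      simp only [hd]
      exact_mod_cast this
    rw [h1, h.card_G, hQ]
    push_cast [Nat.cast_sub (show 1 ≤ q G a by omega)]
    rfl
  have hdisj : Disjoint R X := by
    rw [Finset.disjoint_left]
    exact fun χ h1 h2 => hX χ h2 (Finset.mem_filter.1 h1).2
  have hRX : ∑ χ ∈ R, d χ ^ 2 + 4 * ((L : ℝ) * (x₀ - 1)) ^ 2 ≤
      x₀ ^ 2 * (x₀ - 1) * (x₀ ^ 2 + 1) := by
    rw [← htot]
    refine le_trans (add_le_add le_rfl ?_) ((Finset.sum_union hdisj).symm.le.trans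
      (Finset.sum_le_sum_of_subset_of_nonneg (Finset.subset_univ _) fun χ _ _ => sq_nonneg _))
    have h4 : (4 : ℝ) ≤ X.card := by exact_mod_cast hX4
    calc 4 * ((L : ℝ) * (x₀ - 1)) ^ 2 ≤ (X.card : ℝ) * ((L : ℝ) * (x₀ - 1)) ^ 2 :=
          mul_le_mul_of_nonneg_right h4 (sq_nonneg _)
      _ = ∑ _χ ∈ X, ((L : ℝ) * (x₀ - 1)) ^ 2 := by rw [Finset.sum_const, nsmul_eq_mul]
      _ ≤ _ := Finset.sum_le_sum fun χ hχ => by
          refine pow_le_pow_left₀ (mul_nonneg (Nat.cast_nonneg _) (by linarith)) ?_ 2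
          have := hL χ hχ
          have h5 : ((L * (q G a - 1) : ℕ) : ℝ) ≤ d χ := Nat.cast_le.2 this
          push_cast [Nat.cast_sub (show 1 ≤ q G a by omega)] at h5
          exact h5
  have hcs := sq_sum_le_card_mul_sum_sq (s := R) (f := d)
  have hT0 : (0 : ℝ) ≤ (x₀ ^ 2 + 1) * (x₀ - 1) + 1 := by nlinarith
  have h6 : ((x₀ ^ 2 + 1) * (x₀ - 1) + 1) ^ 2 ≤
      (x₀ + 1) * (x₀ ^ 2 * (x₀ - 1) * (x₀ ^ 2 + 1) - 4 * ((L : ℝ) * (x₀ - 1)) ^ 2) := by
    refine (pow_le_pow_left₀ hT0 hsum 2).trans (hcs.trans ?_)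
    refine mul_le_mul hRcard (by linarith) (Finset.sum_nonneg fun χ _ => sq_nonneg _) (by linarith)
  have h7 : (2 * (L : ℝ) ^ 2) * (2 * (x₀ + 1) * (x₀ - 1) ^ 2) <
      x₀ ^ 2 * (2 * (x₀ + 1) * (x₀ - 1) ^ 2) := by
    have h8 : 0 < x₀ ^ 2 * ((x₀ - 2) ^ 2) := by
      have : (0 : ℝ) < x₀ - 2 := by linarith
      positivity
    linarith
  have h9 : 2 * (L : ℝ) ^ 2 < x₀ ^ 2 :=
    lt_of_mul_lt_mul_right h7 (mul_nonneg (by linarith) (sq_nonneg _))
  rw [hx₀] at h9
  exact_mod_cast h9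

theorem Setup.four_impossible {x₀ s c L m A : ℝ} (hs : 2 ≤ s) (hx : x₀ = 4 * s ^ 2)
    (hc : c * (x₀ + 1) = L) (hL0 : 0 < L) (hLq : 2 * L ^ 2 < x₀ ^ 2)
    (hk : x₀ + 1 - L ≤ (A - 1) / 2)
    (hineq : (c - round c) ^ 2 + 4 * |c * s - round (c * s)| ^ 2 + (1 / 4 - 1 / (4 * A)) + m ≤
      2 * |c * s - round (c * s)|) (hm : 0 ≤ m) : False := by
  have hx16 : 16 ≤ x₀ := by rw [hx]; nlinarith
  have hL34 : L < 3 / 4 * x₀ := by
    by_contra hle
    push Not at hle
    nlinarith [mul_le_mul hle hle (by linarith) (by linarith)]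
  have hA : x₀ / 2 < A := by linarith
  have hA0 : 0 < A := by linarith
  have hA4 : (0 : ℝ) < 1 / (4 * A) := by positivity
  set δ := |c * s - round (c * s)| with hδ
  have hrest : (c - round c) ^ 2 * (4 * A) ≤ 1 := by
    have h1 : (c - round c) ^ 2 ≤ 1 / (4 * A) := by nlinarith [sq_nonneg (4 * δ - 1)]
    rwa [le_div_iff₀ (by linarith)] at h1
  have hc0 : 0 < c := by
    by_contra hle
    push Not at hle
    nlinarith
  have hc34 : c < 3 / 4 := by
    by_contra hle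
    push Not at hle
    nlinarith
  have hc12 : c < 1 / 2 := by
    by_contra hle
    push Not at hle
    have hr : round c = 1 := by
      rw [round_eq, Int.floor_eq_iff]; push_cast; constructor <;> linarith
    rw [hr, Int.cast_one] at hrest
    have : 1 / 16 ≤ (c - 1) ^ 2 := by nlinarith
    nlinarith
  have hr0 : round c = 0 := by
    rw [round_eq, Int.floor_eq_iff]; push_cast; constructor <;> linarith
  rw [hr0, Int.cast_zero, sub_zero] at hrest hineq
  have hLs : L < 2 * s := by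
    by_contra hle
    push Not at hle
    have h1 : x₀ ≤ L ^ 2 := by rw [hx]; nlinarith
    have h2 : c ^ 2 * (2 * x₀) ≤ 1 := by nlinarith [sq_nonneg c]
    have h3 : L ^ 2 * (2 * x₀) ≤ (x₀ + 1) ^ 2 := by
      rw [← hc, mul_pow]
      nlinarith [sq_nonneg (x₀ + 1)]
    nlinarith
  have hA1 : x₀ + 1 < A := by rw [hx] at *; nlinarith
  have hcs : c * s < 1 / 2 := by
    have h1 : c * (x₀ + 1) * s < 2 * s * s := by rw [hc]; exact mul_lt_mul_of_pos_right hLs (by linarith)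
    rw [hx] at h1
    by_contra hle
    push Not at hle
    nlinarith
  have hr : round (c * s) = 0 := by
    rw [round_eq, Int.floor_eq_iff]; push_cast; constructor <;> nlinarith
  have hδeq : δ = c * s := by
    rw [hδ, hr, Int.cast_zero, sub_zero, abs_of_pos (by positivity)]
  rw [hδeq] at hineq
  have hfin : 1 / (4 * A) < 1 / (4 * (4 * s ^ 2 + 1)) := by
    apply one_div_lt_one_div_of_lt (by positivity)
    rw [hx] at hA1
    linarith
  have hid : 4 * (c * s) ^ 2 - 2 * (c * s) + 1 / 4 + c ^ 2 - 1 / (4 * (4 * s ^ 2 + 1)) =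
      (c * (4 * s ^ 2 + 1) - s) ^ 2 / (4 * s ^ 2 + 1) := by
    field_simp
    ring
  have : 0 ≤ (c * (4 * s ^ 2 + 1) - s) ^ 2 / (4 * s ^ 2 + 1) := by positivity
  nlinarith

set_option maxHeartbeats 800000 in
theorem Setup.odd_exponent (h : Setup G a t U) [Fintype G] {n : ℕ} (hn : q G a = 2 ^ n) :
    Odd n := by
  by_contra hev
  rw [Nat.not_odd_iff_even] at hev
  have hQ := h.card_U_sq
  letI : Fintype (stabilizer G a) := Fintype.ofFinite _
  haveI := h.ker_normal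
  have hq := h.two_le_q
  obtain ⟨s, hs0, hsdeg, hMs, hM4⟩ := h.big_family hQ hn hev
  set S := Finset.univ.filter (fun η : IrrCharacter (stabilizer G a) => ¬ KTriv (KerZ a U) η)
    with hS
  set E0 := Finset.univ.filter (fun η : IrrCharacter (stabilizer G a) =>
    ¬ KTriv (Ker a U) η ∧ KTriv (KerZ a U) η) with hE0
  choose! θ hθ0 hθ using fun η (hη : ¬ KTriv (Ker a U) η) => h.degree_dvd (η := η) hη
  have hq1 : (q G a : ℂ) - 1 ≠ 0 := by
    rw [sub_ne_zero]; exact_mod_cast (show q G a ≠ 1 by omega)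
  have hmemS : ∀ η, η ∈ S ↔ ¬ KTriv (KerZ a U) η := by simp [hS]
  have hS' : ∀ η ∈ S, ¬ KTriv (Ker a U) η ∧ θ η = s := by
    intro η hη
    have h1 : ¬ KTriv (Ker a U) η := fun e => (hmemS η).1 hη (h.kerZ_kTriv e)
    refine ⟨h1, ?_⟩
    exact_mod_cast mul_right_cancel₀ hq1 ((hθ η h1).symm.trans (hsdeg η ((hmemS η).1 hη)))
  have hc1 : E0.card = 1 := by
    have hc := h.card_kerZ_set
    rw [← hE0, hQ] at hc
    refine Nat.eq_of_mul_eq_mul_right (show 0 < (q G a - 1) * q G a by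
      exact Nat.mul_pos (by omega) (by omega)) ?_
    obtain ⟨m, hm⟩ : ∃ m, q G a = m + 1 := ⟨q G a - 1, by omega⟩
    rw [hm, Nat.add_sub_cancel] at hc ⊢
    linear_combination hc
  obtain ⟨η₀, hη₀⟩ := Finset.card_eq_one.1 hc1
  have hη₀' : ¬ KTriv (Ker a U) η₀ ∧ θ η₀ = 1 ∧ η₀ ∉ S := by
    obtain ⟨h1, h2⟩ : ¬ KTriv (Ker a U) η₀ ∧ KTriv (KerZ a U) η₀ :=
      (Finset.mem_filter.1 (hη₀ ▸ Finset.mem_singleton_self η₀ : η₀ ∈ E0)).2
    refine ⟨h1, ?_, fun e => (hmemS η₀).1 e h2⟩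
    exact_mod_cast mul_right_cancel₀ hq1
      ((hθ η₀ h1).symm.trans ((h.kerZ_degree h1 h2).trans (one_mul _).symm))
  have hconjS : ∀ η ∈ S, Char.conjIrr η ∈ S ∧ Char.conjIrr η ≠ η := fun η hη =>
    ⟨(hmemS _).2 fun e => (hmemS η).1 hη (h.conj_kTriv.1 e), h.conj_ne hQ ((hmemS η).1 hη)⟩
  have hdeg_eq : ∀ η ∈ S, (η : stabilizer G a → ℂ) 1 = (Char.conjIrr η : stabilizer G a → ℂ) 1 :=
    fun η hη => by rw [hsdeg η ((hmemS η).1 hη), hsdeg _ ((hmemS _).1 (hconjS η hη).1)]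
  -- the pair attached to a character and its conjugate
  have hpair : ∀ ζ ∈ S, ∃ P : IrrCharacter G, Char.conjIrr P ≠ P ∧
      indFun (stabilizer G a) ((ζ : stabilizer G a → ℂ) - (Char.conjIrr ζ : stabilizer G a → ℂ)) =
        (P : G → ℂ) - (Char.conjIrr P : G → ℂ) ∧
      (P : G → ℂ) 1 = (Char.conjIrr P : G → ℂ) 1 ∧
      (∀ g : G, (∀ c : Ω, g • c ≠ c) → (P : G → ℂ) g = (Char.conjIrr P : G → ℂ) g) ∧
      (∀ η, KTriv (Ker a U) η → coef (P : G → ℂ) η = 0 ∧
        coef (Char.conjIrr P : G → ℂ) η = 0) ∧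
      ∀ η, coef (P : G → ℂ) η - coef (Char.conjIrr P : G → ℂ) η =
        (if η = ζ then 1 else 0) - if η = Char.conjIrr ζ then 1 else 0 := by
    intro ζ hζ
    obtain ⟨P, N, hne, he, h1, hm, h0, hd⟩ := h.exists_pair (hS' ζ hζ).1
      (hS' _ (hconjS ζ hζ).1).1 (hconjS ζ hζ).2.symm (hdeg_eq ζ hζ)
    have hPN : Char.conjIrr P = N := by
      have hcj : (Char.conjIrr P : G → ℂ) - (Char.conjIrr N : G → ℂ) =
          (N : G → ℂ) - (P : G → ℂ) := by
        funext g
        have e1 := congrFun he g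
        rw [CharInd.indFun_apply] at e1
        simp only [Pi.sub_apply] at e1 ⊢
        rw [Char.conjIrr_apply, Char.conjIrr_apply, ← map_sub, ← e1, map_mul, map_inv₀,
          Complex.conj_natCast, map_sum]
        have hneg : ∀ y : G, conj (extendByZero (stabilizer G a)
            ((ζ : stabilizer G a → ℂ) - (Char.conjIrr ζ : stabilizer G a → ℂ)) y) =
            -extendByZero (stabilizer G a)
            ((ζ : stabilizer G a → ℂ) - (Char.conjIrr ζ : stabilizer G a → ℂ)) y := by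
          intro y
          by_cases hy : y ∈ stabilizer G a
          · rw [CharInd.extendByZero_mem _ _ hy, Pi.sub_apply, Char.conjIrr_apply, map_sub,
              Complex.conj_conj]
            ring
          · rw [CharInd.extendByZero_notMem _ _ hy, map_zero, neg_zero]
        simp only [hneg, Finset.sum_neg_distrib, mul_neg]
        rw [e1]; ring
      have h2 := congrArg (fun F => classInner F (N : G → ℂ)) hcj
      simp only [Char.classInner_sub_left, Char.classInner_irrCharacter, if_neg hne,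
        if_pos rfl, sub_zero] at h2
      by_contra hne'
      rw [if_neg hne'] at h2
      split_ifs at h2 <;> norm_num at h2
    subst hPN
    exact ⟨P, hne.symm, he, h1, hm, h0, hd⟩
  -- two pairs
  obtain ⟨ζ₁, hζ₁⟩ : S.Nonempty := Finset.card_pos.1 (by omega)
  obtain ⟨ζ₂, hζ₂, hζ₂n⟩ : ∃ η ∈ S, η ∉ ({ζ₁, Char.conjIrr ζ₁} : Finset _) := by
    by_contra hall
    push Not at hall
    have := (Finset.card_le_card hall).trans Finset.card_le_two
    omega
  simp only [Finset.mem_insert, Finset.mem_singleton, not_or] at hζ₂n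
  obtain ⟨P₁, hP₁, he₁, hr₁⟩ := hpair ζ₁ hζ₁
  obtain ⟨P₂, hP₂, he₂, hr₂⟩ := hpair ζ₂ hζ₂
  have hψc : ∀ ζ : IrrCharacter (stabilizer G a), IsClassFunction (stabilizer G a)
      ((ζ : stabilizer G a → ℂ) - (Char.conjIrr ζ : stabilizer G a → ℂ)) := fun ζ g k => by
    simp [Char.irr_isClassFunction ζ.2 g k, Char.irr_isClassFunction (Char.conjIrr ζ).2 g k]
  have hψU : ∀ ζ ∈ S, ∀ x : stabilizer G a, (x : G) ∉ (U : Set G) →
      ((ζ : stabilizer G a → ℂ) - (Char.conjIrr ζ : stabilizer G a → ℂ)) x = 0 := by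
    intro ζ hζ x hx
    rw [Pi.sub_apply, eq_zero_of_notMem (Ker a U) h.ker_cent (hS' ζ hζ).1 (x := x) hx,
      eq_zero_of_notMem (Ker a U) h.ker_cent (hS' _ (hconjS ζ hζ).1).1 (x := x) hx, sub_self]
  have horth : classInner ((P₁ : G → ℂ) - (Char.conjIrr P₁ : G → ℂ))
      ((P₂ : G → ℂ) - (Char.conjIrr P₂ : G → ℂ)) = 0 := by
    rw [← he₁, ← he₂, CharInd.classInner_indFun_ti _ (U : Set G) h.ker_ti (hψc ζ₂)
      (hψU ζ₁ hζ₁) (hψU ζ₂ hζ₂) (by rw [Pi.sub_apply, hdeg_eq ζ₁ hζ₁, sub_self])]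
    have e1 : ¬ ζ₁ = ζ₂ := fun e => hζ₂n.1 e.symm
    have e2 : ¬ Char.conjIrr ζ₁ = ζ₂ := fun e => hζ₂n.2 e.symm
    have e3 : ¬ ζ₁ = Char.conjIrr ζ₂ := fun e => e2 (by rw [e, Char.conjIrr_conjIrr])
    have e4 : ¬ Char.conjIrr ζ₁ = Char.conjIrr ζ₂ := fun e => e1 (by
      have := congrArg Char.conjIrr e
      rwa [Char.conjIrr_conjIrr, Char.conjIrr_conjIrr] at this)
    simp only [Char.classInner_sub_left, Char.classInner_sub_right, Char.classInner_irrCharacter,
      if_neg e1, if_neg e2, if_neg e3, if_neg e4, sub_self]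
  have hne12 : P₁ ≠ P₂ ∧ P₁ ≠ Char.conjIrr P₂ := by
    constructor
    · rintro rfl
      simp only [Char.classInner_sub_left, Char.classInner_sub_right, Char.classInner_irrCharacter,
        if_neg hP₁, if_neg hP₁.symm, if_pos rfl] at horth
      norm_num at horth
    · intro e
      rw [e, Char.conjIrr_conjIrr] at horth
      simp only [Char.classInner_sub_left, Char.classInner_sub_right, Char.classInner_irrCharacter,
        if_neg hP₂, if_neg hP₂.symm, if_pos rfl] at horth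
      norm_num at horth
  set X : Finset (IrrCharacter G) := {P₁, Char.conjIrr P₁, P₂, Char.conjIrr P₂} with hX
  have hinj : Function.Injective (Char.conjIrr (G := G)) :=
    Function.LeftInverse.injective Char.conjIrr_conjIrr
  have hX4 : X.card = 4 := by
    rw [hX, Finset.card_insert_of_notMem, Finset.card_insert_of_notMem, Finset.card_pair hP₂.symm]
    · simp only [Finset.mem_insert, Finset.mem_singleton, not_or]
      exact ⟨fun e => hne12.2 (by rw [← e, Char.conjIrr_conjIrr]), fun e => hne12.1 (hinj e)⟩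
    · simp only [Finset.mem_insert, Finset.mem_singleton, not_or]
      exact ⟨hP₁.symm, hne12.1, hne12.2⟩
  have hXreal : ∀ χ ∈ X, Char.conjIrr χ ≠ χ := by
    intro χ hχ
    simp only [hX, Finset.mem_insert, Finset.mem_singleton] at hχ
    rcases hχ with rfl | rfl | rfl | rfl
    · exact hP₁
    · exact fun e => hP₁ (hinj e)
    · exact hP₂
    · exact fun e => hP₂ (hinj e)
  -- the pair of least degree
  have hdC : ∀ χ : IrrCharacter G, (χ : G → ℂ) 1 = (charDegree (χ : G → ℂ) : ℂ) :=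
    fun χ => (Char.irr_charDegree_spec χ.2).2
  obtain ⟨ζ, hζ, P, hP, hr, hmin⟩ : ∃ ζ ∈ S, ∃ P : IrrCharacter G, Char.conjIrr P ≠ P ∧
      ((P : G → ℂ) 1 = (Char.conjIrr P : G → ℂ) 1 ∧
      (∀ g : G, (∀ c : Ω, g • c ≠ c) → (P : G → ℂ) g = (Char.conjIrr P : G → ℂ) g) ∧
      (∀ η, KTriv (Ker a U) η → coef (P : G → ℂ) η = 0 ∧
        coef (Char.conjIrr P : G → ℂ) η = 0) ∧
      ∀ η, coef (P : G → ℂ) η - coef (Char.conjIrr P : G → ℂ) η =
        (if η = ζ then 1 else 0) - if η = Char.conjIrr ζ then 1 else 0) ∧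
      ∀ χ ∈ X, charDegree (P : G → ℂ) ≤ charDegree (χ : G → ℂ) := by
    have hcd : ∀ χ : IrrCharacter G,
        (χ : G → ℂ) 1 = (Char.conjIrr χ : G → ℂ) 1 →
          charDegree (Char.conjIrr χ : G → ℂ) = charDegree (χ : G → ℂ) := fun χ e => by
      apply Nat.cast_injective (R := ℂ)
      rw [← hdC, ← hdC, e]
    have h1 := hcd P₁ hr₁.1
    have h2 := hcd P₂ hr₂.1
    rcases le_total (charDegree (P₁ : G → ℂ)) (charDegree (P₂ : G → ℂ)) with hle | hle
    · refine ⟨ζ₁, hζ₁, P₁, hP₁, hr₁, fun χ hχ => ?_⟩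
      simp only [hX, Finset.mem_insert, Finset.mem_singleton] at hχ
      rcases hχ with rfl | rfl | rfl | rfl <;> omega
    · refine ⟨ζ₂, hζ₂, P₂, hP₂, hr₂, fun χ hχ => ?_⟩
      simp only [hX, Finset.mem_insert, Finset.mem_singleton] at hχ
      rcases hχ with rfl | rfl | rfl | rfl <;> omega
  obtain ⟨hN, hNm, h0, hd⟩ := hr
  choose x hx using fun η => exists_int_coef (a := a) P η
  obtain ⟨L, hL0, hL, hmain⟩ := h.pair_ineq (hconjS ζ hζ).2.symm P (Char.conjIrr P) x θ hx hN hNm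
    h0 hd hθ S {η₀} s hS' (fun η hη => by rw [Finset.mem_singleton.1 hη]; exact hη₀'.1)
    (Finset.disjoint_singleton_right.2 hη₀'.2.2) hζ (hconjS ζ hζ).1
  have hLd : L * (q G a - 1) = charDegree (P : G → ℂ) := by
    have e := (hdC P).symm.trans hL
    apply Nat.cast_injective (R := ℂ)
    push_cast [Nat.cast_sub (show 1 ≤ q G a by omega)]
    exact e.symm
  have hLq := h.degree_bound hQ X hXreal hX4.ge (L := L) fun χ hχ => hLd ▸ hmin χ hχ
  obtain ⟨n', A, w, k, hk, hA, hprod, hbad, -⟩ := h.exists_torus_data P hL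
  simp only [Finset.sum_singleton, hη₀'.2.1, Nat.cast_one, mul_one, hQ] at hmain
  push_cast at hmain
  set x₀ := (q G a : ℝ) with hx₀
  set c := (L : ℝ) * (x₀ - 1) / (x₀ ^ 2 - 1) with hc
  set δ := |c * (s : ℝ) - round (c * (s : ℝ))| with hδ
  set m := fpfMass Ω (P : G → ℂ) with hm
  have hx4 : (4 : ℝ) ≤ x₀ := by rw [hx₀]; exact_mod_cast hq
  have hcL : c * (x₀ + 1) = L := by
    rw [hc, show x₀ ^ 2 - 1 = (x₀ - 1) * (x₀ + 1) by ring]
    have : x₀ - 1 ≠ 0 := by linarith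
    have : x₀ + 1 ≠ 0 := by linarith
    field_simp
  have hL0' : (0 : ℝ) < L := Nat.cast_pos.2 hL0
  have hκ : 0 < 2 * (L : ℝ) ^ 2 * (x₀ - 1) / ((x₀ ^ 2) ^ 2 - 1) := by
    apply div_pos
    · exact mul_pos (mul_pos two_pos (pow_pos hL0' 2)) (by linarith)
    · have h1 : (16 : ℝ) ≤ x₀ ^ 2 := by nlinarith
      nlinarith
  set κ := 2 * (L : ℝ) ^ 2 * (x₀ - 1) / ((x₀ ^ 2) ^ 2 - 1) with hκdef
  rw [show (c * (s : ℝ) - (round (c * (s : ℝ)) : ℝ)) ^ 2 = δ ^ 2 from (sq_abs _).symm] at hmain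
  have hw : ∀ i, (w i = 2 ∨ w i = 4) ∧ 1 ≤ k i ∧ A i = w i * k i + 1 ∧ 2 * k i + 1 ≤ A i := by
    intro i
    obtain ⟨hw, hk1, hAi, -, hw4⟩ := hA i
    have := hw4 hQ
    refine ⟨by omega, hk1, hAi, ?_⟩
    rcases hw with e | e | e <;> rw [hAi, e] <;> omega
  have hfrac : ∀ i, (1 / 5 : ℝ) ≤ (k i : ℝ) / (A i : ℝ) ∧
      (w i = 2 → (1 / 3 : ℝ) ≤ (k i : ℝ) / (A i : ℝ)) := by
    intro i
    obtain ⟨hwi, hk1, hAi, -⟩ := hw i
    have hk1' : (1 : ℝ) ≤ k i := by exact_mod_cast hk1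
    constructor
    · rw [le_div_iff₀ (by rw [hAi]; positivity), hAi]
      rcases hwi with e | e <;> rw [e] <;> push_cast <;> linarith
    · intro e
      rw [le_div_iff₀ (by rw [hAi]; positivity), hAi, e]
      push_cast; linarith
  set J := Finset.univ.filter (fun i => ¬ A i ∣ L) with hJ
  have hJm : ∑ i ∈ J, (k i : ℝ) / (A i : ℝ) ≤ m :=
    hbad J fun i hi => (Finset.mem_filter.1 hi).2
  have hgoodle : 2 * ∑ i ∈ Finset.univ \ J, k i + 1 ≤ L := by
    refine (prod_ge_sum _ A k fun i _ => (hw i).2.2.2).trans (Nat.le_of_dvd hL0 (hprod _ ?_))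
    intro i hi
    by_contra hni
    exact (Finset.mem_sdiff.1 hi).2 (Finset.mem_filter.2 ⟨Finset.mem_univ _, hni⟩)
  have hLlt : L < q G a := by nlinarith
  have hne : J.Nonempty := by
    by_contra he
    rw [Finset.not_nonempty_iff_eq_empty] at he
    rw [he, Finset.sdiff_empty] at hgoodle
    omega
  have hMR : (S.card : ℝ) * (s : ℝ) ^ 2 = x₀ := by rw [hx₀]; exact_mod_cast hMs
  have hrest0 : 0 ≤ (c - (round c : ℝ)) ^ 2 := sq_nonneg _
  have hMdvd : S.card ∣ 2 ^ n := hn ▸ hMs ▸ Dvd.intro _ rfl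
  obtain ⟨e, -, he⟩ := (Nat.dvd_prime_pow Nat.prime_two).1 hMdvd
  have he2 : 2 ≤ e := by
    by_contra hlt
    have : 2 ^ e ≤ 2 ^ 1 := Nat.pow_le_pow_right (by norm_num) (by omega)
    omega
  have hJ5 : (J.card : ℝ) * (1 / 5) ≤ m := by
    refine le_trans ?_ hJm
    rw [← nsmul_eq_mul, ← Finset.sum_const]
    exact Finset.sum_le_sum fun i _ => (hfrac i).1
  rcases Nat.lt_or_ge e 3 with he3 | he3
  · have heq : S.card = 4 := by rw [he, show e = 2 by omega]; norm_num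
    rw [heq] at hmain hMR
    push_cast at hmain hMR
    have hJ1 : J.card = 1 := by
      have h1 : 1 ≤ J.card := hne.card_pos
      by_contra hne1
      have h2 : (2 : ℝ) ≤ J.card := by exact_mod_cast (show 2 ≤ J.card by omega)
      nlinarith [sq_nonneg (4 * δ - 1)]
    obtain ⟨i, hi⟩ := Finset.card_eq_one.1 hJ1
    rw [hi, Finset.sum_singleton] at hJm
    obtain ⟨hwi, hk1, hAi, -⟩ := hw i
    rcases hwi with hwi | hwi
    · have := (hfrac i).2 hwi
      nlinarith [sq_nonneg (4 * δ - 1)]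
    have hsplit := Finset.sum_sdiff (Finset.subset_univ J) (f := k)
    have hJk : ∑ j ∈ J, k j = k i := by rw [hi, Finset.sum_singleton]
    have hki : k i ≤ ∑ j, k j := Finset.single_le_sum (fun j _ => Nat.zero_le _) (Finset.mem_univ i)
    have hk2 : q G a + 1 ≤ L + 2 * k i := by omega
    have hs2 : 2 ≤ s := by
      by_contra hlt
      have hs1 : s = 1 := by omega
      rw [heq, hs1, one_pow, mul_one, hn] at hMs
      have : n = 2 := Nat.pow_right_injective (le_refl 2) (hMs.symm.trans (by norm_num))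
      exact h.n_ne_two hQ hn this
    have hAR : (A i : ℝ) = 4 * (k i : ℝ) + 1 := by rw [hAi, hwi]; push_cast; ring
    have hid : (k i : ℝ) / (A i : ℝ) = 1 / 4 - 1 / (4 * (A i : ℝ)) := by
      rw [hAR]
      have : (4 * (k i : ℝ) + 1) ≠ 0 := by positivity
      field_simp
      ring
    rw [hid] at hJm
    have hLqR : 2 * (L : ℝ) ^ 2 < x₀ ^ 2 := by rw [hx₀]; exact_mod_cast hLq
    refine Setup.four_impossible (x₀ := x₀) (s := (s : ℝ)) (c := c) (L := (L : ℝ)) (A := (A i : ℝ))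
      (m := 0) (by exact_mod_cast hs2) hMR.symm hcL hL0' hLqR ?_ ?_ le_rfl
    · have : x₀ + 1 ≤ (L : ℝ) + 2 * (k i : ℝ) := by rw [hx₀]; exact_mod_cast hk2
      rw [hAR]; linarith
    · linarith
  · have h8 : (8 : ℝ) ≤ S.card := by
      have : 8 ≤ S.card := he ▸ le_trans (by norm_num) (Nat.pow_le_pow_right (by norm_num) he3)
      exact_mod_cast this
    have h1 : (1 : ℝ) ≤ J.card := by exact_mod_cast hne.card_pos
    nlinarith [sq_nonneg (8 * δ - 1), mul_le_mul_of_nonneg_right h8 (sq_nonneg δ)]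

end Cfsg.Agent.SuzukiZ
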