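import Cfsg.Agent.RankOne.Nilpotent
import Cfsg.Agent.PermB.ZassPrelude
import Cfsg.Agent.Suzuki2.Dimension

/-!
# Zassenhaus groups with a non-abelian 2-group as regular normal subgroup of a point stabiliser
-/

set_option autoImplicit false
set_option linter.unusedSectionVars false

namespace Cfsg.Agent.SuzukiZ

open Subgroup MulAction RankOne

variable {G Ω : Type*} [Group G] [Finite G] [MulAction G Ω] [Finite Ω]

/-- A Zassenhaus group whose point stabiliser has a regular normal non-abelian 2-subgroup. -/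
structure Setup (G : Type*) {Ω : Type*} [Group G] [MulAction G Ω] (a : Ω) (t : G)
    (U : Subgroup G) : Prop where
  z : PermB.ZData G Ω
  tsq : t * t = 1
  tne : t ≠ 1
  tmov : t • a ≠ a
  le : U ≤ stabilizer G a
  normal : ∀ h ∈ stabilizer G a, ∀ u ∈ U, h * u * h⁻¹ ∈ U
  reg : ∀ c d : Ω, c ≠ a → d ≠ a → ∃! u : U, (u : G) • c = d
  pgroup : IsPGroup 2 U
  noncomm : ∃ u ∈ U, ∃ v ∈ U, u * v ≠ v * u
  fix2 : ∃ g : G, g ≠ 1 ∧ ∃ c d : Ω, c ≠ d ∧ g • c = c ∧ g • d = d
  perfect : commutator G = ⊤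

variable {a : Ω} {t : G} {U : Subgroup G}

theorem Setup.faithful (h : Setup G a t U) : FaithfulSMul G Ω :=
  ⟨fun {g g'} e => by
    refine (inv_mul_eq_one.1 (h.z.faithful (g'⁻¹ * g) fun x => ?_)).symm
    rw [mul_smul, e x, inv_smul_smul]⟩

theorem Setup.card_omega (h : Setup G a t U) : Nat.card U + 1 = Nat.card Ω :=
  ((⟨h.le, h.normal, h.reg⟩ : PermB.IsKernel U a).card_add_one h.tmov)

theorem Setup.fix_eq_one (h : Setup G a t U) {u : G} (hu : u ∈ U) {c : Ω} (hc : c ≠ a)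
    (e : u • c = c) : u = 1 := by
  obtain ⟨w, -, huniq⟩ := h.reg c c hc hc
  exact congrArg Subtype.val ((huniq ⟨u, hu⟩ e).trans (huniq 1 (one_smul _ _)).symm)

theorem Setup.even_card (h : Setup G a t U) : Even (Nat.card U) := by
  haveI : Fact (Nat.Prime 2) := ⟨Nat.prime_two⟩
  rcases h.pgroup.card_eq_or_dvd with e | e
  · exfalso
    obtain ⟨u, hu, v, hv, hne⟩ := h.noncomm
    rw [Subgroup.card_eq_one] at e
    rw [e, Subgroup.mem_bot] at hu hv
    exact hne (by rw [hu, hv])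
  · exact even_iff_two_dvd.2 e

theorem Setup.odd_D (h : Setup G a t U) : Odd (Nat.card (D a t)) := by
  by_contra hev
  rw [Nat.not_odd_iff_even] at hev
  obtain ⟨d, hd⟩ := exists_prime_orderOf_dvd_card' (G := D a t) 2 (even_iff_two_dvd.1 hev)
  have hd2 : (d : G) * d = 1 := by
    have := pow_orderOf_eq_one d
    rw [hd, pow_two] at this
    exact congrArg Subtype.val this
  have hd1 : (d : G) ≠ 1 := fun e => by
    rw [show d = 1 from Subtype.ext e, orderOf_one] at hd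
    exact absurd hd (by norm_num)
  obtain ⟨h1, h2⟩ := h.z.card_fixedBy_involution hd2 hd1
  have hodd : Nat.card Ω % 2 = 1 := by
    rw [← h.card_omega]
    have := Nat.even_iff.1 h.even_card
    omega
  rw [hodd] at h2
  haveI : Nontrivial (fixedBy Ω (d : G)) :=
    ⟨⟨⟨a, d.2.1⟩, ⟨t • a, d.2.2⟩, fun e => h.tmov (congrArg Subtype.val e).symm⟩⟩
  have h3 := Finite.one_lt_card (α := fixedBy Ω (d : G))
  omega

theorem Setup.rankOne (h : Setup G a t U) : Cfsg.IsRankOneSetup G Ω a t U where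
  two_transitive := h.z.isMultiplyPretransitive
  mul_self := h.tsq
  ne_one := h.tne
  not_mem := h.tmov
  le := h.le
  conj_mem := h.normal
  inf_eq_bot := (Subgroup.eq_bot_iff_forall _).2 fun x hx =>
    h.fix_eq_one hx.1 h.tmov hx.2
  sup_eq := by
    refine le_antisymm (sup_le h.le inf_le_left) fun g hg => ?_
    obtain ⟨u, hu, -⟩ := h.reg (t • a) (g • t • a) h.tmov (fun e => h.tmov (by
      exact smul_left_cancel g (e.trans (show g • a = a from hg).symm)))
    have hd : (u : G)⁻¹ * g ∈ stabilizer G a ⊓ stabilizer G (t • a) :=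
      ⟨(stabilizer G a).mul_mem ((stabilizer G a).inv_mem (h.le u.2)) hg,
        show ((u : G)⁻¹ * g) • t • a = t • a by rw [mul_smul, ← hu, inv_smul_smul]⟩
    rw [← mul_inv_cancel_left (u : G) g]
    exact Subgroup.mul_mem_sup u.2 hd
  even_card := h.even_card
  odd_card := h.odd_D

/-- Elements of the two point stabiliser fixing a third point are trivial. -/
theorem Setup.D_fix (h : Setup G a t U) {d : G} (hd : d ∈ D a t) {c : Ω} (hca : c ≠ a)
    (hcb : c ≠ t • a) (e : d • c = c) : d = 1 :=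
  h.z.three d h.tmov.symm hcb.symm hca.symm hd.1 hd.2 e

theorem Setup.exists_D_ne_one (h : Setup G a t U) : ∃ d ∈ D a t, d ≠ 1 := by
  obtain ⟨g, hg, c, d, hcd, hc, hd⟩ := h.fix2
  obtain ⟨k, hk1, hk2⟩ := two_trans h.rankOne hcd h.tmov.symm
  refine ⟨k * g * k⁻¹, ⟨?_, ?_⟩, by simpa using hg⟩
  · show (k * g * k⁻¹) • a = a
    rw [← hk1, mul_smul, mul_smul, inv_smul_smul, hc]
  · show (k * g * k⁻¹) • t • a = t • a
    rw [← hk2, mul_smul, mul_smul, inv_smul_smul, hd]

theorem Setup.D_fpf (h : Setup G a t U) {d x : G} (hd : d ∈ D a t) (hd1 : d ≠ 1) (hx : x ∈ U)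
    (hc : d * x = x * d) : x = 1 := by
  by_contra hx1
  refine hd1 (h.D_fix hd (c := x • t • a) (fun e => h.tmov ?_) (fun e => ?_) ?_)
  · exact smul_left_cancel x (e.trans (Q_fix h.rankOne hx).symm)
  · exact hx1 (h.fix_eq_one hx h.tmov e)
  · rw [← mul_smul, hc, mul_smul, hd.2]

theorem Setup.h2 (h : Setup G a t U) :
    ∃ x y : G, x ≠ 1 ∧ y ≠ 1 ∧ x ≠ y ∧ x * x = 1 ∧ y * y = 1 ∧ x * y = y * x := by
  haveI : Fact (Nat.Prime 2) := ⟨Nat.prime_two⟩
  haveI : Nontrivial U := by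
    obtain ⟨u, hu, v, hv, hne⟩ := h.noncomm
    exact ⟨⟨⟨u * v, U.mul_mem hu hv⟩, ⟨v * u, U.mul_mem hv hu⟩,
      fun e => hne (congrArg Subtype.val e)⟩⟩
  haveI := h.pgroup.center_nontrivial
  obtain ⟨z, hz⟩ := exists_prime_orderOf_dvd_card' (G := Subgroup.center U) 2
    ((h.pgroup.to_subgroup _).card_eq_or_dvd.resolve_left
      fun e => (Finite.one_lt_card (α := Subgroup.center U)).ne' e)
  have hz1 : (z.1 : G) ≠ 1 := fun e => by
    rw [show z = 1 from Subtype.ext (Subtype.ext e), orderOf_one] at hz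
    exact absurd hz (by norm_num)
  have hz2 : (z.1 : G) * z.1 = 1 := by
    have := pow_orderOf_eq_one z
    rw [hz, pow_two] at this
    exact congrArg (fun x : Subgroup.center U => (x.1 : G)) this
  obtain ⟨d, hd, hd1⟩ := h.exists_D_ne_one
  refine ⟨z.1, d * z.1 * d⁻¹, hz1, by simpa using hz1, fun e => hz1 (h.D_fpf hd hd1 z.1.2 ?_),
    hz2, by rw [conj_mul, hz2, mul_one, mul_inv_cancel], ?_⟩
  · exact (mul_inv_eq_iff_eq_mul.1 e.symm)
  · exact (congrArg Subtype.val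
      (Subgroup.mem_center_iff.1 z.2 ⟨d * z.1 * d⁻¹, h.normal d hd.1 _ z.1.2⟩)).symm

/-- The two point stabiliser acts regularly on the involutions of `U`, so it is inverted by `t`. -/
theorem Setup.D_regular (h : Setup G a t U) {d : G} (hd : d ∈ D a t) {s : G} (hs : s ∈ Ia G a)
    (hc : d * s = s * d) : d = 1 := by
  by_contra hd1
  exact hs.2.1 (h.D_fpf hd hd1 (invol_mem_Q h.rankOne hs.2.2 hs.1) hc)

theorem Setup.D_eq_K (h : Setup G a t U) : ∀ d ∈ D a t, d ∈ K a t := by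
  classical
  have hS := h.rankOne
  obtain ⟨s, hs, hs1, hs2⟩ := exists_involution_Q hS
  have hsI : s ∈ Ia G a := ⟨hS.le hs, hs1, hs2⟩
  intro d hd
  obtain ⟨k, hk, e⟩ := K_transitive hS hsI (conj_mem_Ia hS hsI hd.1)
  have hkd : k * d ∈ D a t := (D a t).mul_mem hk.1 hd
  have h1 := h.D_regular hkd hsI (by
    calc k * d * s = k * (d * s * d⁻¹) * d := by group
      _ = k * (k⁻¹ * s * k) * d := by rw [e]
      _ = s * (k * d) := by group)
  rw [eq_inv_of_mul_eq_one_right h1]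
  exact K_inv hS hk

theorem Setup.D_conj_t (h : Setup G a t U) {d : G} (hd : d ∈ D a t) : t * d * t = d⁻¹ :=
  ((mem_K h.rankOne).1 (h.D_eq_K d hd)).2

theorem Setup.D_comm (h : Setup G a t U) {x y : G} (hx : x ∈ D a t) (hy : y ∈ D a t) :
    x * y = y * x := by
  have h1 := h.D_conj_t ((D a t).mul_mem hx hy)
  rw [← conj_mul_conj h.tsq, h.D_conj_t hx, h.D_conj_t hy, mul_inv_rev] at h1
  have := congrArg Inv.inv h1
  simpa using this.symm

theorem Setup.card_D (h : Setup G a t U) : Nat.card (D a t) = Nat.card (Ia G a) := by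
  rw [← card_K h.rankOne]
  exact Nat.card_congr (Equiv.subtypeEquivRight fun x =>
    ⟨fun hx => h.D_eq_K x hx, fun hx => hx.1⟩)

theorem Setup.conj_transitive (h : Setup G a t U) {u v : G} (hu : u ∈ Ia G a) (hv : v ∈ Ia G a) :
    ∃ d ∈ D a t, d * u * d⁻¹ = v := by
  obtain ⟨k, hk, e⟩ := K_transitive h.rankOne hu hv
  exact ⟨k⁻¹, (D a t).inv_mem hk.1, by rwa [inv_inv]⟩

theorem Setup.D_cyclic (h : Setup G a t U) : IsCyclic (D a t) := by
  classical
  haveI := h.faithful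
  obtain ⟨s, hs, hs1, hs2⟩ := exists_involution_Q h.rankOne
  let I : Subgroup G :=
    { carrier := {x | x ∈ U ∧ x * x = 1}
      one_mem' := ⟨U.one_mem, mul_one 1⟩
      mul_mem' := fun {x y} hx hy => ⟨U.mul_mem hx.1 hy.1, by
        by_cases hx1 : x = 1
        · rw [hx1, one_mul, hy.2]
        have hxI : x ∈ Ia G a := ⟨h.le hx.1, hx1, hx.2⟩
        have hc := Ia_central h.rankOne (by exact h.h2) hxI hy.1 (a := a) (Q := U)
        calc x * y * (x * y) = x * (y * x) * y := by group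
          _ = x * (x * y) * y := by rw [hc]
          _ = (x * x) * (y * y) := by group
          _ = 1 := by rw [hx.2, hy.2, mul_one]⟩
      inv_mem' := fun {x} hx => ⟨U.inv_mem hx.1, by rw [← mul_inv_rev, hx.2, inv_one]⟩ }
  haveI := h.faithful
  have hIc : ∀ x y : I, x * y = y * x := by
    rintro ⟨x, hxU, hx2⟩ ⟨y, hyU, hy2⟩
    refine Subtype.ext ?_
    by_cases hx1 : x = 1
    · simp [hx1]
    exact Ia_central h.rankOne h.h2 ⟨h.le hxU, hx1, hx2⟩ hyU
  letI : CommGroup I := { (inferInstance : Group I) with mul_comm := hIc }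
  have hconj : ∀ (d : D a t) (x : I), (d : G) * x.1 * (d : G)⁻¹ ∈ I := fun d x =>
    ⟨h.normal d.1 d.2.1 x.1 x.2.1, by rw [conj_mul, x.2.2, mul_one, mul_inv_cancel]⟩
  let ρ : D a t →* AddMonoid.End (Additive I) :=
    { toFun := fun d => MonoidHom.toAdditive
        { toFun := fun x => ⟨_, hconj d x⟩
          map_one' := Subtype.ext (by simp)
          map_mul' := fun x y => Subtype.ext (by simp [mul_assoc]) }
      map_one' := AddMonoidHom.ext fun x => congrArg Additive.ofMul (Subtype.ext (by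
        show (1 : G) * _ * (1 : G)⁻¹ = _
        simp; rfl))
      map_mul' := fun d d' => AddMonoidHom.ext fun x => congrArg Additive.ofMul (Subtype.ext (by
        show ((d * d' : D a t) : G) * _ * _ = (d : G) * ((d' : G) * _ * (d' : G)⁻¹) * (d : G)⁻¹
        simp [mul_assoc])) }
  set C := Subring.centralizer (Set.range ρ) with hC
  let u₀ : Additive I := Additive.ofMul ⟨s, hs, hs2⟩
  have htrans : ∀ x : Additive I, x ≠ 0 → ∃ d, ρ d u₀ = x := by
    intro x hx
    obtain ⟨d, hd, e⟩ := h.conj_transitive (u := s) (v := (Additive.toMul x).1)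
      ⟨h.le hs, hs1, hs2⟩ ⟨h.le (Additive.toMul x).2.1,
        fun e => hx (congrArg Additive.ofMul (Subtype.ext e : Additive.toMul x = 1)),
        (Additive.toMul x).2.2⟩
    exact ⟨⟨d, hd⟩, congrArg Additive.ofMul (Subtype.ext e)⟩
  have hmem : ∀ d, ρ d ∈ C := fun d => by
    rw [hC, Subring.mem_centralizer_iff]
    rintro _ ⟨d', rfl⟩
    rw [← map_mul, ← map_mul]
    exact congrArg ρ (Subtype.ext (h.D_comm d'.2 d.2))
  have hdet : ∀ f g : C, (f : AddMonoid.End (Additive I)) u₀ = (g : AddMonoid.End (Additive I)) u₀ →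
      f = g := by
    intro f g e
    refine Subtype.ext (DFunLike.ext _ _ fun x => ?_)
    by_cases hx : x = 0
    · subst hx; simp
    obtain ⟨d, rfl⟩ := htrans x hx
    have hc : ∀ f : C, (f : AddMonoid.End (Additive I)) (ρ d u₀) = ρ d ((f : AddMonoid.End (Additive I)) u₀) :=
      fun f => (DFunLike.congr_fun ((Subring.mem_centralizer_iff.1 f.2) (ρ d) ⟨d, rfl⟩) u₀).symm
    rw [hc, hc, e]
  have hpow : ∀ f : C, f ≠ 0 → ∃ d, f = ⟨ρ d, hmem d⟩ := by
    intro f hf
    obtain ⟨d, hd⟩ := htrans ((f : AddMonoid.End (Additive I)) u₀)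
      (fun e => hf (hdet f 0 (by rw [e]; rfl)))
    exact ⟨d, hdet _ _ hd.symm⟩
  haveI : Nontrivial C := ⟨⟨1, 0, fun e => hs1 (by
    have := congrArg (fun f : C => ((Additive.toMul ((f : AddMonoid.End (Additive I)) u₀)).1 : G)) e
    simpa [u₀] using this)⟩⟩
  haveI : NoZeroDivisors C := ⟨fun {f g} e => by
    by_contra hne
    simp only [not_or] at hne
    obtain ⟨d, rfl⟩ := hpow f hne.1
    refine hne.2 ?_
    have hinv : (⟨ρ d⁻¹, hmem d⁻¹⟩ : C) * ⟨ρ d, hmem d⟩ = 1 :=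
      Subtype.ext (by show ρ d⁻¹ * ρ d = 1; rw [← map_mul, inv_mul_cancel, map_one])
    calc g = (⟨ρ d⁻¹, hmem d⁻¹⟩ : C) * ⟨ρ d, hmem d⟩ * g := by rw [hinv, one_mul]
      _ = 0 := by rw [mul_assoc, e, mul_zero]⟩
  have hCc : ∀ f g : C, f * g = g * f := by
    intro f g
    by_cases hf : f = 0
    · rw [hf, zero_mul, mul_zero]
    obtain ⟨d, rfl⟩ := hpow f hf
    exact Subtype.ext ((Subring.mem_centralizer_iff.1 g.2) (ρ d) ⟨d, rfl⟩)
  letI : CommRing C := { (inferInstance : Ring C) with mul_comm := hCc }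
  haveI : IsDomain C := NoZeroDivisors.to_isDomain C
  let f : D a t →* C :=
    { toFun := fun d => ⟨ρ d, hmem d⟩
      map_one' := Subtype.ext (map_one ρ)
      map_mul' := fun d d' => Subtype.ext (map_mul ρ d d') }
  refine isCyclic_of_subgroup_isDomain f ?_
  intro d d' e
  have h1 := congrArg (fun f : C => ((Additive.toMul ((f : AddMonoid.End (Additive I)) u₀)).1 : G)) e
  have h1' : (d : G) * s * (d : G)⁻¹ = (d' : G) * s * (d' : G)⁻¹ := h1
  refine Subtype.ext (inv_mul_eq_one.1 (h.D_regular ((D a t).mul_mem ((D a t).inv_mem d'.2) d.2)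
    (s := s) ⟨h.le hs, hs1, hs2⟩ ?_)).symm
  calc (d' : G)⁻¹ * d * s = (d' : G)⁻¹ * ((d : G) * s * (d : G)⁻¹) * d := by group
    _ = _ := by rw [h1']; group

theorem Setup.exists_suzuki (h : Setup G a t U) :
    ∃ σ : MulAut U, Suzuki2.Data σ := by
  classical
  haveI := h.faithful
  obtain ⟨⟨g, hg⟩, hgen⟩ := h.D_cyclic.exists_generator
  have hgN : g ∈ Subgroup.normalizer (U : Set G) := by
    rw [Subgroup.mem_normalizer_iff]
    intro z
    refine ⟨fun hz => h.normal g hg.1 z hz, fun hz => ?_⟩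
    have := h.normal g⁻¹ ((stabilizer G a).inv_mem hg.1) _ hz
    simpa [mul_assoc] using this
  set σ : MulAut U := Subgroup.normalizerMonoidHom U ⟨g, hgN⟩ with hσ
  have hpow : ∀ (i : ℕ) (x : U), (((σ ^ i) x : U) : G) = g ^ i * x * (g ^ i)⁻¹ := by
    intro i x
    rw [hσ, ← map_pow]
    rfl
  have hinv : ∀ x : U, x ≠ 1 → x * x = 1 → (x : G) ∈ Ia G a := fun x h1 h2 =>
    ⟨h.le x.2, fun e => h1 (Subtype.ext e), congrArg Subtype.val h2⟩
  obtain ⟨s₁, hs₁, s₂, hs₂, hne, -⟩ := exists_two_Ia h.rankOne h.h2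
  refine ⟨σ, inferInstance, h.pgroup, ?_, ⟨⟨s₁, invol_mem_Q h.rankOne hs₁.2.2 hs₁.1⟩,
    ⟨s₂, invol_mem_Q h.rankOne hs₂.2.2 hs₂.1⟩, fun e => hne (congrArg Subtype.val e),
    fun e => hs₁.2.1 (congrArg Subtype.val e), Subtype.ext hs₁.2.2,
    fun e => hs₂.2.1 (congrArg Subtype.val e), Subtype.ext hs₂.2.2⟩,
    fun x y hx hx2 hy hy2 => ?_, fun i x hx hx2 e => ?_⟩
  · obtain ⟨u, hu, v, hv, huv⟩ := h.noncomm
    exact ⟨⟨u, hu⟩, ⟨v, hv⟩, fun e => huv (congrArg Subtype.val e)⟩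
  · obtain ⟨d, hd, e⟩ := h.conj_transitive (hinv x hx hx2) (hinv y hy hy2)
    obtain ⟨i, hi⟩ : (⟨d, hd⟩ : D a t) ∈ Submonoid.powers (⟨g, hg⟩ : D a t) :=
      mem_powers_iff_mem_zpowers.2 (hgen _)
    refine ⟨i, Subtype.ext ?_⟩
    rw [hpow, show g ^ i = d from by simpa using congrArg Subtype.val hi, e]
  · have h1 := congrArg Subtype.val e
    rw [hpow] at h1
    have hgi := h.D_regular ((D a t).pow_mem hg i) (hinv x hx hx2) (mul_inv_eq_iff_eq_mul.1 h1)
    refine DFunLike.ext _ _ fun y => Subtype.ext ?_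
    rw [hpow, hgi]
    simp

theorem Setup.mem_center_iff (h : Setup G a t U) {x : U} :
    x ∈ Subgroup.center U ↔ (x : G) * x = 1 := by
  obtain ⟨σ, hd⟩ := h.exists_suzuki
  exact ⟨fun hx => congrArg Subtype.val (Suzuki2.center_sq hd x hx),
    fun hx => Subgroup.mem_center_iff.2 fun y =>
      (Suzuki2.invol_central hd (x := x) (Subtype.ext hx) y).symm⟩

theorem Setup.card_center (h : Setup G a t U) :
    Nat.card (Subgroup.center U) = Nat.card (Ia G a) + 1 := by
  classical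
  rw [← Finite.card_option]
  refine (Nat.card_eq_of_bijective
    (fun o : Option (Ia G a) => o.elim (1 : Subgroup.center U) fun s =>
      ⟨⟨s.1, invol_mem_Q h.rankOne s.2.2.2 s.2.1⟩, h.mem_center_iff.2 s.2.2.2⟩) ⟨?_, ?_⟩).symm
  · rintro (_ | x) (_ | y) e
    · rfl
    · exact absurd (congrArg (fun w : Subgroup.center U => (w.1 : G)) e).symm y.2.2.1
    · exact absurd (congrArg (fun w : Subgroup.center U => (w.1 : G)) e) x.2.2.1
    · exact congrArg some (Subtype.ext (congrArg (fun w : Subgroup.center U => (w.1 : G)) e))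
  · rintro ⟨x, hx⟩
    by_cases hx1 : x = 1
    · exact ⟨none, Subtype.ext hx1.symm⟩
    · exact ⟨some ⟨x.1, h.le x.2, fun e => hx1 (Subtype.ext e), h.mem_center_iff.1 hx⟩, rfl⟩

theorem Setup.sq_mem (h : Setup G a t U) {x : G} (hx : x ∈ U) : x * x * (x * x) = 1 := by
  obtain ⟨σ, hd⟩ := h.exists_suzuki
  exact h.mem_center_iff.1 ((Suzuki2.sq_comm_central hd).1 ⟨x, hx⟩)

theorem Setup.comm_mem (h : Setup G a t U) {x y : G} (hx : x ∈ U) (hy : y ∈ U) :
    x⁻¹ * y⁻¹ * x * y * (x⁻¹ * y⁻¹ * x * y) = 1 := by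
  obtain ⟨σ, hd⟩ := h.exists_suzuki
  exact h.mem_center_iff.1 ((Suzuki2.sq_comm_central hd).2 ⟨x, hx⟩ ⟨y, hy⟩)

/-- The number of involutions fixing a point, plus one. -/
noncomputable def q (G : Type*) {Ω : Type*} [Group G] [MulAction G Ω] (a : Ω) : ℕ :=
  Nat.card (Ia G a) + 1

theorem Setup.card_D_eq (h : Setup G a t U) : Nat.card (D a t) + 1 = q G a := by
  rw [h.card_D]; rfl

theorem Setup.card_U (h : Setup G a t U) :
    Nat.card U = q G a ^ 2 ∨ Nat.card U = q G a ^ 3 := by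
  obtain ⟨σ, hd⟩ := h.exists_suzuki
  rw [q, ← h.card_center]
  exact Suzuki2.card_eq hd

theorem Setup.exists_q_eq (h : Setup G a t U) : ∃ n, 2 ≤ n ∧ q G a = 2 ^ n := by
  haveI : Fact (Nat.Prime 2) := ⟨Nat.prime_two⟩
  obtain ⟨n, hn⟩ := IsPGroup.iff_card.1 (h.pgroup.to_subgroup (Subgroup.center U))
  rw [h.card_center] at hn
  refine ⟨n, ?_, hn⟩
  obtain ⟨s₁, hs₁, s₂, hs₂, hne, -⟩ := exists_two_Ia h.rankOne h.h2
  haveI : Nontrivial (Ia G a) := ⟨⟨⟨s₁, hs₁⟩, ⟨s₂, hs₂⟩, fun e => hne (congrArg Subtype.val e)⟩⟩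
  have := Finite.one_lt_card (α := Ia G a)
  by_contra hlt
  have hn2 : n = 0 ∨ n = 1 := by omega
  rcases hn2 with rfl | rfl
  · rw [pow_zero] at hn; omega
  · rw [pow_one] at hn; omega

theorem Setup.card_stab (h : Setup G a t U) :
    Nat.card (stabilizer G a) = Nat.card U * (q G a - 1) := by
  rw [RankOne.card_stab h.rankOne, ← h.card_D_eq, Nat.add_sub_cancel]

theorem Setup.card_G (h : Setup G a t U) :
    Nat.card G = Nat.card U * (q G a - 1) * (Nat.card U + 1) := by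
  rw [RankOne.card_group h.rankOne, ← h.card_D_eq, Nat.add_sub_cancel]

theorem Setup.cent_invol (h : Setup G a t U) {s g : G} (hs : s ∈ Ia G a) (hc : s * g = g * s) :
    g ∈ U := by
  haveI := h.faithful
  have hga : g • a = a := fix_of_commute h.rankOne hs.2.1 hs.2.2 hc hs.1
  obtain ⟨x, hx, d, hd, rfl⟩ := decomp h.rankOne hga
  have hsx := Ia_central h.rankOne h.h2 hs hx
  have hd1 := h.D_regular hd hs (by
    calc d * s = x⁻¹ * (x * d * s) := by group
      _ = x⁻¹ * (s * (x * d)) := by rw [hc]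
      _ = x⁻¹ * (s * x) * d := by group
      _ = s * d := by rw [hsx]; group)
  rw [hd1, mul_one]
  exact hx

/-- An element of `G_a` fixing a second point is conjugate into `D` under `U`. -/
theorem Setup.stab_cases (h : Setup G a t U) {g : G} (hg : g • a = a) :
    g ∈ U ∨ ∃ u ∈ U, ∃ d ∈ D a t, d ≠ 1 ∧ g = u * d * u⁻¹ := by
  obtain ⟨x, hx, d, hd, rfl⟩ := decomp h.rankOne hg
  by_cases hd1 : d = 1
  · left; rw [hd1, mul_one]; exact hx
  right
  -- the map `u ↦ u d u⁻¹ d⁻¹` of `U` is bijective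
  let f : U → U := fun u => ⟨u * d * u⁻¹ * d⁻¹, by
    have := h.normal d hd.1 _ (U.inv_mem u.2)
    have h2 := U.mul_mem u.2 this
    convert h2 using 1; simp [mul_assoc]⟩
  have hf : Function.Injective f := by
    intro u v e
    have e' : (u : G) * d * (u : G)⁻¹ * d⁻¹ = (v : G) * d * (v : G)⁻¹ * d⁻¹ := congrArg Subtype.val e
    have h1 := h.D_fpf hd hd1 (U.mul_mem (U.inv_mem v.2) u.2) (by
      calc d * ((v : G)⁻¹ * u) = (v : G)⁻¹ * ((v : G) * d * (v : G)⁻¹ * d⁻¹) * d * u := by group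
        _ = _ := by rw [← e']; group)
    exact Subtype.ext (inv_mul_eq_one.1 h1).symm
  obtain ⟨u, hu⟩ := (Finite.injective_iff_surjective.1 hf) ⟨x, hx⟩
  have hu' : (u : G) * d * (u : G)⁻¹ * d⁻¹ = x := congrArg Subtype.val hu
  exact ⟨u, u.2, d, hd, hd1, by rw [← hu']; group⟩

theorem Setup.mem_U_of_fix (h : Setup G a t U) {g : G} (hg : g • a = a)
    (hfix : ∀ c, g • c = c → c = a) : g ∈ U := by
  rcases h.stab_cases hg with hU | ⟨u, hu, d, hd, -, rfl⟩
  · exact hU
  · exfalso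
    refine h.tmov (smul_left_cancel u ((hfix (u • t • a) ?_).trans (Q_fix h.rankOne hu).symm))
    rw [mul_smul, mul_smul, inv_smul_smul, hd.2]

end Cfsg.Agent.SuzukiZ
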