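import Cfsg.Agent.Char.Kernel
import Cfsg.Agent.Char.Orthogonality
import Cfsg.Agent.CharExt.FrobeniusChars

/-!
# Characters of a class two 2-group over a central character with large radical
-/

set_option autoImplicit false
set_option linter.unusedSectionVars false

namespace Cfsg.Agent.SuzukiZ

open scoped ComplexConjugate Classical

universe u

variable {P : Type u} [Group P] [Fintype P]

theorem irr_center_sign (hsq : ∀ z ∈ Subgroup.center P, z * z = 1) {χ : P → ℂ}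
    (hχ : Cfsg.IsIrrCharacter P χ) {z : P} (hz : z ∈ Subgroup.center P) :
    ∃ e : ℂ, (e = 1 ∨ e = -1) ∧ ∀ x, χ (z * x) = e * χ x := by
  obtain ⟨ω, hω, -, hmul⟩ := Char.irr_mul_center hχ hz
  refine ⟨ω, ?_, hmul⟩
  have h2 : ω ^ 2 = 1 := by
    obtain ⟨c, hc⟩ : orderOf z ∣ 2 := orderOf_dvd_of_pow_eq_one (by rw [pow_two]; exact hsq z hz)
    rw [hc, pow_mul, hω, one_pow]
  exact mul_self_eq_one_iff.1 (by rwa [pow_two] at h2)

/-- The irreducible characters over a central character with a radical of at least four cosets. -/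
theorem central_family (hsq : ∀ z ∈ Subgroup.center P, z * z = 1)
    (hcomm : ∀ x y : P, y * x * y⁻¹ * x⁻¹ ∈ Subgroup.center P)
    (hcard : Nat.card P = Nat.card (Subgroup.center P) ^ 2)
    (V : Subgroup P) (hV : V ≤ Subgroup.center P) {z₀ : P} (hz₀ : z₀ ∈ Subgroup.center P)
    (hz₀V : z₀ ∉ V) (g : Fin 4 → P)
    (hg : ∀ i j, i ≠ j → (g i)⁻¹ * g j ∉ Subgroup.center P)
    (hgV : ∀ i y, g i * y * (g i)⁻¹ * y⁻¹ ∈ V) :
    ∃ (μ : P → ℂ) (S : Finset (Cfsg.IrrCharacter P)) (s : ℕ),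
      0 < s ∧ (∀ z ∈ Subgroup.center P, μ z = 1 ∨ μ z = -1) ∧
      (∀ z ∈ Subgroup.center P, ∀ z' ∈ Subgroup.center P, μ (z * z') = μ z * μ z') ∧
      (∃ z ∈ Subgroup.center P, μ z ≠ 1) ∧
      (∀ θ ∈ S, (θ : P → ℂ) 1 = (s : ℂ) ∧
        ∀ z ∈ Subgroup.center P, (θ : P → ℂ) z = (s : ℂ) * μ z) ∧
      S.card * s ^ 2 = Nat.card (Subgroup.center P) ∧ 4 ≤ S.card := by
  set Z := Subgroup.center P with hZ
  haveI hVn : V.Normal := ⟨fun n hn y => by
    rw [Subgroup.mem_center_iff.1 (hV hn) y, mul_inv_cancel_right]; exact hn⟩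
  -- the central character
  obtain ⟨χ, hχ⟩ := Char.exists_irr_ne_degree (g := (z₀ : P ⧸ V))
    fun e => hz₀V ((QuotientGroup.eq_one_iff _).1 e)
  set θ₀ : Cfsg.IrrCharacter P := (Char.irrEquivQuotient V χ).1 with hθ₀
  have hθ₀V : ∀ v ∈ V, (θ₀ : P → ℂ) v = (θ₀ : P → ℂ) 1 := (Char.irrEquivQuotient V χ).2
  have hd₀ : (θ₀ : P → ℂ) 1 ≠ 0 := Char.irr_one_ne_zero θ₀.2
  set μ : P → ℂ := fun z => (θ₀ : P → ℂ) z / (θ₀ : P → ℂ) 1 with hμ
  have hμθ : ∀ z ∈ Z, ∀ x, (θ₀ : P → ℂ) (z * x) = μ z * (θ₀ : P → ℂ) x := by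
    intro z hz x
    obtain ⟨e, -, he⟩ := irr_center_sign hsq θ₀.2 hz
    have h1 := he 1
    rw [mul_one] at h1
    rw [he, hμ]
    simp only [h1, mul_div_cancel_right₀ _ hd₀]
  have hsign : ∀ z ∈ Z, μ z = 1 ∨ μ z = -1 := by
    intro z hz
    obtain ⟨e, he1, he⟩ := irr_center_sign hsq θ₀.2 hz
    have h1 := he 1
    rw [mul_one] at h1
    simp only [hμ, h1, mul_div_cancel_right₀ _ hd₀]
    exact he1
  have hmul : ∀ z ∈ Z, ∀ z' ∈ Z, μ (z * z') = μ z * μ z' := by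
    intro z hz z' _
    simp only [hμ, hμθ z hz z']
    rw [mul_div_assoc]
  have hz₀μ : μ z₀ ≠ 1 := by
    intro e
    refine hχ ?_
    simp only [hμ] at e
    rw [div_eq_one_iff_eq hd₀, hθ₀, Char.irrEquivQuotient_apply, Char.irrEquivQuotient_apply,
      QuotientGroup.mk_one] at e
    exact e
  have hVμ : ∀ v ∈ V, μ v = 1 := fun v hv => by
    simp only [hμ, hθ₀V v hv, div_self hd₀]
  set S := Finset.univ.filter (fun θ : Cfsg.IrrCharacter P =>
    ∀ z ∈ Z, (θ : P → ℂ) z = (θ : P → ℂ) 1 * μ z) with hS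
  -- the degrees over `μ`
  have hdeg : ∑ θ ∈ S, (θ : P → ℂ) 1 ^ 2 = (Nat.card Z : ℂ) := by
    have hμ1 : μ 1 = 1 := hVμ 1 V.one_mem
    have h1 : ∑ z : Z, μ z * ∑ θ : Cfsg.IrrCharacter P, (θ : P → ℂ) 1 * (θ : P → ℂ) z =
        (Nat.card P : ℂ) := by
      simp only [Char.sum_irr_degree_mul]
      rw [Finset.sum_eq_single (1 : Z)]
      · simp [hμ1]
      · intro z _ hz
        rw [if_neg (fun e => hz (Subtype.ext e) : ¬ (z : P) = 1), mul_zero]
      · intro e; exact absurd (Finset.mem_univ _) e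
    simp only [Finset.mul_sum] at h1
    rw [Finset.sum_comm] at h1
    rw [← Finset.sum_filter_add_sum_filter_not Finset.univ (fun θ : Cfsg.IrrCharacter P =>
      ∀ z ∈ Z, (θ : P → ℂ) z = (θ : P → ℂ) 1 * μ z)] at h1
    have h2 : ∀ θ ∈ S, ∑ z : Z, μ z * ((θ : P → ℂ) 1 * (θ : P → ℂ) z) =
        (Nat.card Z : ℂ) * (θ : P → ℂ) 1 ^ 2 := by
      intro θ hθ
      rw [Finset.sum_congr rfl (g := fun _ => (θ : P → ℂ) 1 ^ 2) fun z _ => by
        rw [(Finset.mem_filter.1 hθ).2 z z.2]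
        rcases hsign z z.2 with e | e <;> rw [e] <;> ring, Finset.sum_const, nsmul_eq_mul,
        Finset.card_univ, ← Nat.card_eq_fintype_card]
    have h3 : ∀ θ ∈ Finset.univ.filter (fun θ : Cfsg.IrrCharacter P =>
        ¬ ∀ z ∈ Z, (θ : P → ℂ) z = (θ : P → ℂ) 1 * μ z),
        ∑ z : Z, μ z * ((θ : P → ℂ) 1 * (θ : P → ℂ) z) = 0 := by
      intro θ hθ
      obtain ⟨-, hθ⟩ := Finset.mem_filter.1 hθ
      push Not at hθ
      obtain ⟨w, hw, hne⟩ := hθ
      obtain ⟨e, he1, he⟩ := irr_center_sign hsq θ.2 hw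
      have hew : μ w * e ≠ 1 := by
        intro h1
        apply hne
        have h2 := he 1
        rw [mul_one] at h2
        rw [h2, mul_comm]
        congr 1
        rcases he1 with rfl | rfl <;> rcases hsign w hw with s | s <;> rw [s] at h1 ⊢ <;>
          norm_num at h1
      set T := ∑ z : Z, μ z * ((θ : P → ℂ) 1 * (θ : P → ℂ) z)
      have h4 : μ w * e * T = T := by
        rw [Finset.mul_sum]
        refine Fintype.sum_equiv (Equiv.mulLeft (⟨w, hw⟩ : Z)) _ _ fun z => ?_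
        show _ = μ (w * z) * ((θ : P → ℂ) 1 * (θ : P → ℂ) (w * z))
        rw [hmul w hw z z.2, he]
        ring
      have h5 : (μ w * e - 1) * T = 0 := by rw [sub_mul, h4, one_mul, sub_self]
      exact (mul_eq_zero.1 h5).resolve_left (sub_ne_zero.2 hew)
    rw [Finset.sum_congr rfl h2, Finset.sum_congr rfl h3, Finset.sum_const_zero, add_zero,
      ← Finset.mul_sum, hcard, pow_two, Nat.cast_mul] at h1
    exact mul_left_cancel₀ (Nat.cast_ne_zero.2 Nat.card_pos.ne') h1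
  -- the radical
  set R := Finset.univ.filter (fun x : P => ∀ y, μ (y * x * y⁻¹ * x⁻¹) = 1) with hR
  have hnorm : ∀ θ ∈ S, (θ : P → ℂ) 1 ^ 2 * (R.card : ℂ) = (Nat.card P : ℂ) := by
    intro θ hθ
    have hθZ := (Finset.mem_filter.1 hθ).2
    have hmulθ : ∀ z ∈ Z, ∀ x, (θ : P → ℂ) (z * x) = μ z * (θ : P → ℂ) x := by
      intro z hz x
      obtain ⟨e, -, he⟩ := irr_center_sign hsq θ.2 hz
      have h1 := he 1
      rw [mul_one, hθZ z hz, mul_comm] at h1
      rw [he, mul_right_cancel₀ (Char.irr_one_ne_zero θ.2) h1.symm]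
    have hout : ∀ x ∉ R, (θ : P → ℂ) x = 0 := by
      intro x hx
      simp only [hR, Finset.mem_filter, Finset.mem_univ, true_and, not_forall] at hx
      obtain ⟨y, hy⟩ := hx
      have h1 := Char.irr_isClassFunction θ.2 x y
      rw [show y * x * y⁻¹ = y * x * y⁻¹ * x⁻¹ * x by group, hmulθ _ (hcomm x y)] at h1
      have h2 : (μ (y * x * y⁻¹ * x⁻¹) - 1) * (θ : P → ℂ) x = 0 := by
        rw [sub_mul, h1, one_mul, sub_self]
      exact (mul_eq_zero.1 h2).resolve_left (sub_ne_zero.2 hy)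
    let N₀ : Subgroup P :=
      { carrier := {z | z ∈ Z ∧ μ z = 1}
        one_mem' := ⟨Z.one_mem, hVμ 1 V.one_mem⟩
        mul_mem' := fun {z w} hz hw => ⟨Z.mul_mem hz.1 hw.1, by
          rw [hmul z hz.1 w hw.1, hz.2, hw.2, one_mul]⟩
        inv_mem' := fun {z} hz => by
          rw [inv_eq_of_mul_eq_one_left (hsq z hz.1)]; exact hz }
    haveI : N₀.Normal := ⟨fun n hn y => by
      rw [Subgroup.mem_center_iff.1 hn.1 y, mul_inv_cancel_right]; exact hn⟩
    obtain ⟨ψ, hψ, hψe⟩ := Char.irr_exists_descend θ.2 N₀ fun n hn => by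
      rw [hθZ n hn.1, hn.2, mul_one]
    have hin : ∀ x ∈ R, (θ : P → ℂ) x * conj ((θ : P → ℂ) x) = (θ : P → ℂ) 1 ^ 2 := by
      intro x hx
      have hx' : ∀ y, μ (y * x * y⁻¹ * x⁻¹) = 1 := (Finset.mem_filter.1 hx).2
      have hc : (x : P ⧸ N₀) ∈ Subgroup.center (P ⧸ N₀) := by
        rw [Subgroup.mem_center_iff]
        intro y
        induction y using QuotientGroup.induction_on with
        | H y =>
          rw [← QuotientGroup.mk_mul, ← QuotientGroup.mk_mul, QuotientGroup.eq,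
            show (y * x)⁻¹ * (x * y) = x⁻¹ * (y⁻¹ * x * y⁻¹⁻¹ * x⁻¹) * x by group,
            Subgroup.mem_center_iff.1 (hcomm x y⁻¹) x⁻¹, inv_mul_cancel_right]
          exact ⟨hcomm x y⁻¹, hx' y⁻¹⟩
      obtain ⟨ω, hω, hω1, hωm⟩ := Char.irr_mul_center hψ hc
      have hn : ‖ω‖ = 1 := Complex.norm_eq_one_of_pow_eq_one hω (orderOf_pos _).ne'
      have h1 : (θ : P → ℂ) x = ω * (θ : P → ℂ) 1 := by
        rw [hψe, hψe, QuotientGroup.mk_one]; exact hω1
      obtain ⟨d, -, hd⟩ := Char.irr_one_pos θ.2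
      rw [h1, hd, map_mul, Complex.conj_natCast]
      have h2 : ω * conj ω = 1 := by
        rw [Complex.mul_conj', hn]; norm_num
      linear_combination (d : ℂ) ^ 2 * h2
    have h1 := Char.classInner_irr_self θ.2
    rw [Cfsg.classInner, inv_mul_eq_iff_eq_mul₀ (Nat.cast_ne_zero.2 Nat.card_pos.ne'), mul_one,
      ← Finset.sum_subset (Finset.subset_univ R) (fun x _ hx => by rw [hout x hx, zero_mul]),
      Finset.sum_congr rfl hin, Finset.sum_const, nsmul_eq_mul] at h1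
    rw [← h1, mul_comm]
  obtain ⟨θ₁, hθ₁⟩ : S.Nonempty := by
    rw [Finset.nonempty_iff_ne_empty]
    intro e
    rw [e, Finset.sum_empty] at hdeg
    exact (Nat.cast_ne_zero.2 Nat.card_pos.ne') hdeg.symm
  obtain ⟨s, hs0, hs⟩ := Char.irr_one_pos θ₁.2
  have hsR : s ^ 2 * R.card = Nat.card P := by
    have := hnorm θ₁ hθ₁
    rw [hs] at this
    exact_mod_cast this
  have hR0 : 0 < R.card := by
    rw [Finset.card_pos]
    exact ⟨1, Finset.mem_filter.2 ⟨Finset.mem_univ _, fun y => by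
      rw [mul_one, mul_inv_cancel, inv_one, one_mul]; exact hVμ 1 V.one_mem⟩⟩
  have hsS : ∀ θ ∈ S, (θ : P → ℂ) 1 = (s : ℂ) := by
    intro θ hθ
    obtain ⟨d, -, hd⟩ := Char.irr_one_pos θ.2
    have := hnorm θ hθ
    rw [hd] at this
    have h' : d ^ 2 * R.card = Nat.card P := by exact_mod_cast this
    rw [hd, Nat.pow_left_injective (by norm_num) (Nat.eq_of_mul_eq_mul_right hR0
      (h'.trans hsR.symm))]
  have hSc : S.card * s ^ 2 = Nat.card Z := by
    rw [Finset.sum_congr rfl (g := fun _ => ((s ^ 2 : ℕ) : ℂ)) fun θ hθ => by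
      rw [hsS θ hθ]; push_cast; rfl, Finset.sum_const, nsmul_eq_mul] at hdeg
    exact_mod_cast hdeg
  refine ⟨μ, S, s, hs0, hsign, hmul, ⟨z₀, hz₀, hz₀μ⟩, fun θ hθ => ⟨hsS θ hθ, fun z hz => by
    rw [(Finset.mem_filter.1 hθ).2 z hz, hsS θ hθ]⟩, hSc, ?_⟩
  -- at least four cosets in the radical
  have hR4 : 4 * Nat.card Z ≤ R.card := by
    have := Finset.card_le_card_of_injOn (s := (Finset.univ : Finset (Fin 4 × Z)))
      (t := R) (fun p => g p.1 * (p.2 : P)) (fun p _ => Finset.mem_filter.2 ⟨Finset.mem_univ _, fun y => by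
        have e : y * (g p.1 * (p.2 : P)) * y⁻¹ * (g p.1 * (p.2 : P))⁻¹ =
            (g p.1 * y * (g p.1)⁻¹ * y⁻¹)⁻¹ := by
          have hc := Subgroup.mem_center_iff.1 p.2.2 y⁻¹
          calc y * (g p.1 * (p.2 : P)) * y⁻¹ * (g p.1 * (p.2 : P))⁻¹
              = y * g p.1 * ((p.2 : P) * y⁻¹) * (p.2 : P)⁻¹ * (g p.1)⁻¹ := by group
            _ = _ := by rw [← hc]; group
        rw [e]
        exact hVμ _ (V.inv_mem (hgV _ _))⟩) (by
      rintro ⟨i, z⟩ _ ⟨j, w⟩ _ e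
      change g i * (z : P) = g j * (w : P) at e
      obtain rfl : i = j := by
        by_contra hij
        refine hg i j hij ?_
        rw [show (g i)⁻¹ * g j = (z : P) * (w : P)⁻¹ by
          rw [eq_mul_inv_iff_mul_eq, mul_assoc, ← e, inv_mul_cancel_left]]
        exact Z.mul_mem z.2 (Z.inv_mem w.2)
      rw [Subtype.ext (mul_left_cancel e)])
    rw [Finset.card_univ, Fintype.card_prod, Fintype.card_fin, ← Nat.card_eq_fintype_card] at this
    exact this
  rw [hcard, pow_two] at hsR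
  by_contra hlt
  push Not at hlt
  have hz : 0 < Nat.card Z := Nat.card_pos
  nlinarith [Nat.mul_le_mul_left (s ^ 2) hR4]

end Cfsg.Agent.SuzukiZ
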