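import Cfsg.Agent.SuzukiZ.Basic
import Cfsg.Agent.Suzuki2.TypeA
import Mathlib.GroupTheory.OrderOfElement

/-!
# The kernel of order `q²`
-/

set_option autoImplicit false
set_option linter.unusedSectionVars false

namespace Cfsg.Agent.SuzukiZ

open Subgroup MulAction RankOne Suzuki2

/-- An element fixed by the square of an automorphism of odd order is fixed. -/
theorem fixed_of_sq_fixed {F : Type*} [Field F] [Finite F] {φ : F ≃+* F} (hφ : Odd (orderOf φ))
    {u : F} (h : φ (φ u) = u) : φ u = u := by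
  obtain ⟨m, hm⟩ := hφ
  have h2 : ∀ k : ℕ, (φ ^ (2 * k)) u = u := by
    intro k
    induction k with
    | zero => simp
    | succ k ih =>
      rw [show 2 * (k + 1) = 2 * k + 1 + 1 by ring, pow_succ, pow_succ]
      show (φ ^ (2 * k)) (φ (φ u)) = u
      rw [h, ih]
  have := h2 (m + 1)
  rw [show 2 * (m + 1) = orderOf φ + 1 by omega, pow_succ, pow_orderOf_eq_one] at this
  exact this

theorem charTwo_of_card {F : Type*} [Field F] [Fintype F] {n : ℕ}
    (hn : Fintype.card F = 2 ^ n) : CharP F 2 := by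
  haveI : Fact (Nat.Prime 2) := ⟨Nat.prime_two⟩
  exact charP_of_card_eq_prime_pow hn

section Model

variable {F : Type*} [Field F] [Finite F] [CharP F 2] (φ : F ≃+* F)

theorem typeA_sq_inj (hφ : Odd (orderOf φ)) {x y : Cfsg.suzukiTypeA F (φ : F →+* F)}
    (e : x * x = y * y) : x⁻¹ * y * (x⁻¹ * y) = 1 := by
  have key : ∀ u v : F, φ u * u = φ v * v → u = v := by
    intro u v e
    by_cases hv : v = 0
    · subst hv
      simpa using e
    · have hr : φ (u / v) * (u / v) = 1 := by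
        rw [map_div₀, div_mul_div_comm, e, div_self (by simp [hv])]
      have h1 : φ (φ (u / v)) = u / v := by
        rw [eq_inv_of_mul_eq_one_left hr, map_inv₀, eq_inv_of_mul_eq_one_left hr, inv_inv]
      have h2 := fixed_of_sq_fixed hφ h1
      rw [h2] at hr
      rcases mul_self_eq_one_iff.1 hr with h3 | h3
      · exact (div_eq_one_iff_eq hv).1 h3
      · exact (div_eq_one_iff_eq hv).1 (h3.trans (CharTwo.neg_eq 1))
  rw [typeA_sq, typeA_sq] at e
  have h1 := key _ _ (Multiplicative.ofAdd.injective (typeAIncl_injective _ e))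
  have hz : typeAFst (φ : F →+* F) (x⁻¹ * y) = 1 := by
    rw [map_mul, map_inv, show typeAFst (φ : F →+* F) x = typeAFst (φ : F →+* F) y from
      Multiplicative.toAdd.injective h1, inv_mul_cancel]
  rw [typeA_sq, hz]
  simp

theorem typeA_no_inverse (hφ : Odd (orderOf φ)) {x y : Cfsg.suzukiTypeA F (φ : F →+* F)}
    (hy : y * y ≠ 1) : x * y ≠ y⁻¹ * x := by
  intro e
  obtain ⟨a, c, hx⟩ := (mem_suzukiTypeA _).1 x.2
  obtain ⟨b, d, hy'⟩ := (mem_suzukiTypeA _).1 y.2
  have hb : b ≠ 0 := by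
    rintro rfl
    refine hy (Subtype.ext ?_)
    rw [Subgroup.coe_mul, hy', typeAMat_mul, CharTwo.add_self_eq_zero, CharTwo.add_self_eq_zero,
      map_zero, zero_mul, add_zero, typeAMat_zero, Subgroup.coe_one]
  have hinv : (y : GL (Fin 3) F)⁻¹ = typeAMat (φ : F →+* F) b (d + φ b * b) := by
    rw [inv_eq_iff_mul_eq_one, hy', typeAMat_mul, CharTwo.add_self_eq_zero,
      ← typeAMat_zero (φ : F →+* F)]
    congr 1
    show d + (d + φ b * b) + φ b * b = 0
    linear_combination (d + φ b * b) * CharTwo.two_eq_zero (R := F)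
  have e' := congrArg (fun g : Cfsg.suzukiTypeA F (φ : F →+* F) =>
    ((g : GL (Fin 3) F) : Matrix (Fin 3) (Fin 3) F) 2 0) e
  simp only [Subgroup.coe_mul, Subgroup.coe_inv, hinv] at e'
  rw [hx, hy', typeAMat_mul, typeAMat_mul, typeAMat_val, typeAMat_val] at e'
  simp only [RingHom.coe_coe, Matrix.of_apply, Matrix.cons_val_zero, Matrix.cons_val', Matrix.cons_val] at e'
  have hu : φ (a / b) = 1 + a / b := by
    rw [map_div₀]
    have hφb : φ b ≠ 0 := by simpa using hb
    field_simp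
    linear_combination e'
  have h1 : φ (φ (a / b)) = a / b := by
    rw [hu, map_add, map_one, hu]
    linear_combination (1 : F) * CharTwo.two_eq_zero (R := F)
  have h2 := fixed_of_sq_fixed hφ h1
  rw [h2] at hu
  exact one_ne_zero (by linear_combination -hu)

/-- Commutators with elements over the fixed field lie in a proper central subgroup. -/
theorem typeA_radical {f : Fin 4 → F} (hf : ∀ i, φ (f i) = f i) (hinj : Function.Injective f) :
    ∃ V : Subgroup (Cfsg.suzukiTypeA F (φ : F →+* F)),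
      (∀ v ∈ V, v * v = 1) ∧ (∃ z, z * z = 1 ∧ z ∉ V) ∧
      ∃ g : Fin 4 → Cfsg.suzukiTypeA F (φ : F →+* F),
        (∀ i j, i ≠ j → (g i)⁻¹ * g j * ((g i)⁻¹ * g j) ≠ 1) ∧
        ∀ i y, g i * y * (g i)⁻¹ * y⁻¹ ∈ V := by
  haveI : Fact (Nat.Prime 2) := ⟨Nat.prime_two⟩
  let V' : AddSubgroup F := (AddMonoidHom.id F + (φ : F →+ F)).range
  refine ⟨Subgroup.map (typeAIncl (φ : F →+* F)) (AddSubgroup.toSubgroup V'), ?_, ?_,
    fun i => ⟨typeAMat _ (f i) 0, typeAMat_mem _ _ _⟩, fun i j hij e => ?_, fun i y => ?_⟩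
  · rintro _ ⟨v, -, rfl⟩
    rw [← map_mul, ← ofAdd_toAdd v, ← ofAdd_add, CharTwo.add_self_eq_zero, ofAdd_zero, map_one]
  · obtain ⟨z, hz⟩ : ∃ z, z ∉ V' := by
      by_contra hall
      push Not at hall
      have hs : Function.Surjective fun x : F => x + φ x := fun v => by
        obtain ⟨x, hx⟩ := hall v
        exact ⟨x, hx⟩
      have := (Finite.injective_iff_surjective.2 hs) (a₁ := 1) (a₂ := 0) (by
        simp [CharTwo.add_self_eq_zero])
      exact one_ne_zero this
    refine ⟨typeAIncl _ (Multiplicative.ofAdd z), ?_, ?_⟩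
    · rw [← map_mul, ← ofAdd_add, CharTwo.add_self_eq_zero, ofAdd_zero, map_one]
    · rintro ⟨w, hw, e⟩
      rw [typeAIncl_injective _ e] at hw
      exact hz hw
  · have h1 := congrArg (typeAFst (φ : F →+* F)) e
    rw [typeA_sq] at e
    have h2 := typeAIncl_injective _ (e.trans (map_one _).symm)
    rw [ofAdd_eq_one] at h2
    simp only [map_mul, map_inv, typeAFst, MonoidHom.coe_mk, OneHom.coe_mk, typeAMat_val,
      Matrix.of_apply, Matrix.cons_val_zero, Matrix.cons_val', Matrix.cons_val, ← ofAdd_neg,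
      ← ofAdd_add, toAdd_ofAdd, RingHom.coe_coe, mul_eq_zero, EmbeddingLike.map_eq_zero_iff,
      or_self] at h2
    exact hij (hinj (neg_add_eq_zero.1 h2))
  · obtain ⟨b, d, hy⟩ := (mem_suzukiTypeA _).1 y.2
    refine ⟨Multiplicative.ofAdd (f i * b + φ (f i * b)), ⟨f i * b, rfl⟩, ?_⟩
    rw [eq_mul_inv_iff_mul_eq, eq_mul_inv_iff_mul_eq]
    refine Subtype.ext ?_
    simp only [Subgroup.coe_mul, typeAIncl, MonoidHom.coe_mk, OneHom.coe_mk, hy, toAdd_ofAdd,
      typeAMat_mul, zero_add, map_zero, zero_mul, add_zero, RingHom.coe_coe]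
    congr 1
    · ring
    · rw [map_mul, hf]
      linear_combination (f i * φ b) * CharTwo.two_eq_zero (R := F)

end Model

/-- In a field of order `2^n`, `n` even, four elements are fixed by an automorphism of odd order. -/
theorem exists_four_fixed {F : Type*} [Field F] [Fintype F] {φ : F ≃+* F}
    (hφ : Odd (orderOf φ)) {n : ℕ} (hn : Fintype.card F = 2 ^ n) (he : Even n) :
    ∃ f : Fin 4 → F, (∀ i, φ (f i) = f i) ∧ Function.Injective f := by
  classical
  have hc : 3 ∣ Fintype.card Fˣ := by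
    rw [Fintype.card_units, hn]
    obtain ⟨k, rfl⟩ := he
    rw [← two_mul, pow_mul]
    have := Nat.sub_one_dvd_pow_sub_one (4 : ℕ) k
    simpa using this
  haveI : Fact (Nat.Prime 3) := ⟨Nat.prime_three⟩
  obtain ⟨w, hw⟩ := exists_prime_orderOf_dvd_card 3 hc
  have hw3 : (w : F) ^ 3 = 1 := by
    rw [← Units.val_pow_eq_pow_val, ← hw, pow_orderOf_eq_one, Units.val_one]
  have hw1 : (w : F) ≠ 1 := fun e => by
    rw [show w = 1 from Units.ext e, orderOf_one] at hw
    exact absurd hw (by norm_num)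
  have hw0 : (w : F) ≠ 0 := w.ne_zero
  have hroot : ∀ r : F, r ^ 3 = 1 → r = 1 ∨ r = w ∨ r = w ^ 2 := by
    intro r hr
    have e1 : (w : F) ^ 2 + w + 1 = 0 := by
      have : ((w : F) - 1) * (w ^ 2 + w + 1) = 0 := by linear_combination hw3
      exact (mul_eq_zero.1 this).resolve_left (sub_ne_zero.2 hw1)
    have : (r - 1) * ((r - w) * (r - w ^ 2)) = 0 := by
      linear_combination hr - (r ^ 2 - r * w) * e1 - hw3
    rcases mul_eq_zero.1 this with h | h
    · exact Or.inl (sub_eq_zero.1 h)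
    · rcases mul_eq_zero.1 h with h | h
      · exact Or.inr (Or.inl (sub_eq_zero.1 h))
      · exact Or.inr (Or.inr (sub_eq_zero.1 h))
  have hfix : φ (w : F) = w := by
    refine fixed_of_sq_fixed hφ ?_
    rcases hroot (φ w) (by rw [← map_pow, hw3, map_one]) with h | h | h
    · exact absurd ((map_eq_one_iff φ φ.injective).1 h) hw1
    · rw [h, h]
    · rw [h, map_pow, h, ← pow_mul]
      linear_combination (w : F) * hw3
  refine ⟨![0, 1, w, w ^ 2], ?_, ?_⟩
  · intro i
    fin_cases i <;> simp [hfix]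
  · have h2 : (w : F) ^ 2 ≠ 1 := fun e => hw1 (by linear_combination hw3 - (w : F) * e)
    have h3 : (w : F) ^ 2 ≠ w := fun e => hw1 (mul_left_cancel₀ hw0 (by linear_combination e))
    intro i j e
    fin_cases i <;> fin_cases j <;>
      simp [hw0, hw0.symm, (pow_ne_zero 2 hw0).symm,
        hw1, hw1.symm, h2, h2.symm, h3, h3.symm, -sq_eq_one_iff] at e ⊢

variable {G Ω : Type*} [Group G] [Finite G] [MulAction G Ω] [Finite Ω]
variable {a : Ω} {t : G} {U : Subgroup G}

theorem Setup.exists_model_A (h : Setup G a t U) (hQ : Nat.card U = q G a ^ 2) :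
    ∃ (F : Type) (_ : Field F) (_ : Fintype F) (φ : F ≃+* F),
      Fintype.card F = q G a ∧ φ ≠ RingEquiv.refl F ∧ Odd (orderOf φ) ∧
      Nonempty (U ≃* Cfsg.suzukiTypeA F (φ : F →+* F)) := by
  obtain ⟨σ, hd⟩ := h.exists_suzuki
  rw [q, ← h.card_center] at hQ ⊢
  exact Suzuki2.exists_typeA hd hQ

theorem Setup.sq_inj (h : Setup G a t U) (hQ : Nat.card U = q G a ^ 2) {x y : G} (hx : x ∈ U)
    (hy : y ∈ U) (e : x * x = y * y) : x⁻¹ * y * (x⁻¹ * y) = 1 := by
  obtain ⟨F, _, _, φ, hF, -, hφ, ⟨i⟩⟩ := h.exists_model_A hQ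
  obtain ⟨n, -, hn⟩ := h.exists_q_eq
  haveI := charTwo_of_card (F := F) (hF.trans hn)
  have h1 := typeA_sq_inj φ hφ (x := i ⟨x, hx⟩) (y := i ⟨y, hy⟩)
    (by rw [← map_mul, ← map_mul]; exact congrArg i (Subtype.ext e))
  rw [← map_inv, ← map_mul, ← map_mul, MulEquiv.map_eq_one_iff] at h1
  exact congrArg Subtype.val h1

theorem Setup.no_inverse (h : Setup G a t U) (hQ : Nat.card U = q G a ^ 2) {x y : G} (hx : x ∈ U)
    (hy : y ∈ U) (hy2 : y * y ≠ 1) : x * y ≠ y⁻¹ * x := by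
  obtain ⟨F, _, _, φ, hF, -, hφ, ⟨i⟩⟩ := h.exists_model_A hQ
  obtain ⟨n, -, hn⟩ := h.exists_q_eq
  haveI := charTwo_of_card (F := F) (hF.trans hn)
  intro e
  refine typeA_no_inverse φ hφ (x := i ⟨x, hx⟩) (y := i ⟨y, hy⟩) (fun e' => hy2 ?_) ?_
  · rw [← map_mul, MulEquiv.map_eq_one_iff] at e'
    exact congrArg Subtype.val e'
  · rw [← map_inv, ← map_mul, ← map_mul]
    exact congrArg i (Subtype.ext e)

theorem Setup.radical (h : Setup G a t U) (hQ : Nat.card U = q G a ^ 2) {n : ℕ}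
    (hn : q G a = 2 ^ n) (he : Even n) :
    ∃ V : Subgroup U, V ≤ Subgroup.center U ∧ (∃ z ∈ Subgroup.center U, z ∉ V) ∧
      ∃ g : Fin 4 → U, (∀ i j, i ≠ j → (g i)⁻¹ * g j ∉ Subgroup.center U) ∧
        ∀ i y, g i * y * (g i)⁻¹ * y⁻¹ ∈ V := by
  obtain ⟨F, _, _, φ, hF, -, hφ, ⟨i⟩⟩ := h.exists_model_A hQ
  haveI := charTwo_of_card (F := F) (hF.trans hn)
  obtain ⟨f, hf, hinj⟩ := exists_four_fixed hφ (hF.trans hn) he
  obtain ⟨V, hV, ⟨z, hz, hzV⟩, g, hg, hc⟩ := typeA_radical φ hf hinj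
  have hcen : ∀ x : U, x * x = 1 ↔ x ∈ Subgroup.center U := fun x =>
    ⟨fun e => h.mem_center_iff.2 (congrArg Subtype.val e),
      fun e => Subtype.ext (h.mem_center_iff.1 e)⟩
  refine ⟨V.comap i.toMonoidHom, fun v hv => (hcen v).1 (i.injective ?_),
    ⟨i.symm z, (hcen _).1 (by rw [← map_mul, hz, map_one]), fun e => hzV ?_⟩,
    fun j => i.symm (g j), fun j k hjk e => hg j k hjk ?_, fun j y => ?_⟩
  · rw [map_mul, map_one]; exact hV _ hv
  · simpa using Subgroup.mem_comap.1 e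
  · have := congrArg i ((hcen _).2 e)
    simpa using this
  · rw [Subgroup.mem_comap]
    simpa using hc j (i y)

/-- In `q = 4` the kernel cannot have order `q²`. -/
theorem Setup.n_ne_two (h : Setup G a t U) (hQ : Nat.card U = q G a ^ 2) {n : ℕ}
    (hn : q G a = 2 ^ n) : n ≠ 2 := by
  rintro rfl
  obtain ⟨F, _, _, φ, hF, hne, hφ, -⟩ := h.exists_model_A hQ
  obtain ⟨f, hf, hinj⟩ := exists_four_fixed hφ (hF.trans hn) ⟨1, rfl⟩
  refine hne (RingEquiv.ext fun x => ?_)
  obtain ⟨i, rfl⟩ := ((Fintype.bijective_iff_injective_and_card f).2 ⟨hinj, by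
    rw [Fintype.card_fin, hF, hn]; rfl⟩).2 x
  exact hf i

end Cfsg.Agent.SuzukiZ
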