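import Cfsg.Agent.SuzukiZ.CharMass
import Cfsg.Agent.SuzukiZ.CentralFamily
import Cfsg.Agent.SuzukiZ.TypeA
import Cfsg.Agent.CharInd.Clifford
import Cfsg.Agent.CharInd.Ito
import Cfsg.Agent.Char.Real

/-!
# The characters of the point stabiliser
-/

set_option autoImplicit false
set_option linter.unusedSectionVars false

namespace Cfsg.Agent.SuzukiZ

open Subgroup MulAction RankOne CharExt
open scoped Classical ComplexConjugate

universe u v

variable {G : Type u} {Ω : Type v} [Group G] [Finite G] [MulAction G Ω] [Finite Ω]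
variable {a : Ω} {t : G} {U : Subgroup G}

/-- The centre of `U`, inside the point stabiliser. -/
abbrev KerZ (a : Ω) (U : Subgroup G) : Subgroup (stabilizer G a) :=
  ((Subgroup.center U).map U.subtype).subgroupOf (stabilizer G a)

theorem Setup.mem_kerZ (h : Setup G a t U) {x : stabilizer G a} :
    x ∈ KerZ a U ↔ (x : G) ∈ U ∧ (x : G) * x = 1 := by
  rw [Subgroup.mem_subgroupOf, Subgroup.mem_map]
  constructor
  · rintro ⟨z, hz, e⟩
    rw [← e]
    exact ⟨z.2, h.mem_center_iff.1 hz⟩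
  · exact fun hx => ⟨⟨x, hx.1⟩, h.mem_center_iff.2 hx.2, rfl⟩

theorem Setup.kerZ_normal (h : Setup G a t U) : (KerZ a U).Normal :=
  ⟨fun n hn g => by
    rw [h.mem_kerZ] at hn ⊢
    refine ⟨h.normal g g.2 n hn.1, ?_⟩
    show (g : G) * n * (g : G)⁻¹ * ((g : G) * n * (g : G)⁻¹) = 1
    rw [conj_mul, hn.2, mul_one, mul_inv_cancel]⟩

theorem Setup.kerZ_le (h : Setup G a t U) : KerZ a U ≤ Ker a U := fun _ hx => (h.mem_kerZ.1 hx).1

theorem Setup.card_kerZ (h : Setup G a t U) : Nat.card (KerZ a U) = q G a := by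
  have hle : (Subgroup.center U).map U.subtype ≤ stabilizer G a :=
    (Subgroup.map_subtype_le _).trans h.le
  rw [Nat.card_congr (Subgroup.subgroupOfEquivOfLe hle).toEquiv,
    ← Nat.card_congr ((Subgroup.center U).equivMapOfInjective U.subtype U.subtype_injective).toEquiv,
    h.card_center]
  rfl

theorem Setup.kerZ_kTriv (h : Setup G a t U) {η : IrrCharacter (stabilizer G a)}
    (hη : KTriv (Ker a U) η) : KTriv (KerZ a U) η := fun k hk => hη k (h.kerZ_le hk)

theorem Setup.sum_kerZ (h : Setup G a t U) [Fintype (stabilizer G a)] :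
    ∑ η ∈ Finset.univ.filter (fun η : IrrCharacter (stabilizer G a) => KTriv (KerZ a U) η),
      (η : stabilizer G a → ℂ) 1 ^ 2 * (q G a : ℂ) = (Nat.card (stabilizer G a) : ℂ) := by
  haveI := h.kerZ_normal
  rw [← Finset.sum_mul, sum_kTriv (KerZ a U) (fun η => (η : stabilizer G a → ℂ) 1 ^ 2)]
  simp only [Char.irrEquivQuotient_apply, QuotientGroup.mk_one, Char.sum_irr_degree_sq]
  rw [← Nat.cast_mul, ← h.card_kerZ, ← Subgroup.card_eq_card_quotient_mul_card_subgroup]

theorem Setup.kerZ_degree (h : Setup G a t U) [Fintype G] [Fintype (stabilizer G a)]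
    {η : IrrCharacter (stabilizer G a)} (hη : ¬ KTriv (Ker a U) η) (hηZ : KTriv (KerZ a U) η) :
    (η : stabilizer G a → ℂ) 1 = (q G a : ℂ) - 1 := by
  haveI := h.kerZ_normal
  haveI := h.ker_normal
  obtain ⟨θ, hθ0, hθ⟩ := h.degree_dvd hη
  obtain ⟨ψ, hψ, e⟩ := Char.irr_exists_descend η.2 (KerZ a U) hηZ
  obtain ⟨n, ρ, hρ, rfl⟩ := hψ
  set A := (Ker a U).map (QuotientGroup.mk' (KerZ a U)) with hA
  haveI : A.Normal := Subgroup.Normal.map inferInstance _ (QuotientGroup.mk'_surjective _)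
  have hAc : ∀ x ∈ A, ∀ y ∈ A, x * y = y * x := by
    rintro _ ⟨x, hx, rfl⟩ _ ⟨y, hy, rfl⟩
    rw [QuotientGroup.mk'_apply, QuotientGroup.mk'_apply, ← QuotientGroup.mk_mul,
      ← QuotientGroup.mk_mul, QuotientGroup.eq, h.mem_kerZ]
    have hx' : (x : G) ∈ U := hx
    have hy' : (y : G) ∈ U := hy
    refine ⟨U.mul_mem (U.inv_mem (U.mul_mem hx' hy')) (U.mul_mem hy' hx'), ?_⟩
    have := h.comm_mem hy' hx'
    simpa [mul_assoc] using this
  have hidx : A.index + 1 = q G a := by
    rw [hA, Subgroup.index_map_eq _ (QuotientGroup.mk'_surjective _) (by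
      rw [QuotientGroup.ker_mk']; exact h.kerZ_le)]
    exact h.ker_index
  have hdvd := CharInd.finrank_dvd_index_of_comm_normal ρ A hAc
  have hn : (η : stabilizer G a → ℂ) 1 = (Module.finrank ℂ (Fin n → ℂ) : ℂ) := by
    rw [e, QuotientGroup.mk_one, ρ.char_one]
  rw [hn] at hθ ⊢
  have h1 : (Module.finrank ℂ (Fin n → ℂ) : ℤ) = (θ : ℤ) * ((q G a : ℤ) - 1) := by
    exact_mod_cast hθ
  have := h.two_le_q
  have hpos : 0 < A.index := by omega
  have h2 : Module.finrank ℂ (Fin n → ℂ) ≤ A.index := Nat.le_of_dvd hpos hdvd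
  have h3 : θ = 1 := by
    by_contra hne
    have h4 : (2 : ℤ) ≤ θ := by omega
    have h5 : (Module.finrank ℂ (Fin n → ℂ) : ℤ) ≤ (A.index : ℤ) := by exact_mod_cast h2
    have h6 : (A.index : ℤ) + 1 = q G a := by exact_mod_cast hidx
    nlinarith
  rw [hθ, h3, Nat.cast_one, one_mul]

theorem Setup.card_kerZ_set (h : Setup G a t U) [Fintype G] [Fintype (stabilizer G a)] :
    (Finset.univ.filter (fun η : IrrCharacter (stabilizer G a) =>
        ¬ KTriv (Ker a U) η ∧ KTriv (KerZ a U) η)).card * (q G a - 1) * q G a + q G a =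
      Nat.card U := by
  haveI := h.ker_normal
  have h1 := h.sum_kerZ
  rw [← Finset.sum_filter_add_sum_filter_not _ (fun η => KTriv (Ker a U) η), Finset.filter_filter,
    Finset.filter_filter] at h1
  have h2 : ∑ η ∈ Finset.univ.filter (fun η : IrrCharacter (stabilizer G a) =>
      KTriv (KerZ a U) η ∧ KTriv (Ker a U) η), (η : stabilizer G a → ℂ) 1 ^ 2 * (q G a : ℂ) =
      ((q G a : ℂ) - 1) * q G a := by
    rw [← Finset.sum_mul]
    congr 1
    rw [Finset.filter_congr (fun η _ => ⟨fun e => e.2, fun e => ⟨h.kerZ_kTriv e, e⟩⟩ :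
      ∀ η ∈ Finset.univ, (KTriv (KerZ a U) η ∧ KTriv (Ker a U) η ↔ KTriv (Ker a U) η)),
      sum_kTriv (Ker a U) (fun η => (η : stabilizer G a → ℂ) 1 ^ 2)]
    simp only [Char.irrEquivQuotient_apply, QuotientGroup.mk_one, Char.sum_irr_degree_sq]
    rw [← Subgroup.index_eq_card, ← h.ker_index]
    push_cast; ring
  rw [h2, Finset.sum_congr rfl (g := fun _ => ((q G a : ℂ) - 1) ^ 2 * (q G a : ℂ))
    fun η hη => by rw [h.kerZ_degree (Finset.mem_filter.1 hη).2.2 (Finset.mem_filter.1 hη).2.1],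
    Finset.sum_const, nsmul_eq_mul, h.card_stab] at h1
  rw [Finset.filter_congr (fun η _ => and_comm : ∀ η ∈ Finset.univ,
    (KTriv (KerZ a U) η ∧ ¬ KTriv (Ker a U) η ↔ ¬ KTriv (Ker a U) η ∧ KTriv (KerZ a U) η))] at h1
  have hq := h.two_le_q
  refine Nat.eq_of_mul_eq_mul_right (show 0 < q G a - 1 by omega) ?_
  apply Nat.cast_injective (R := ℂ)
  push_cast at h1 ⊢
  rw [Nat.cast_sub (by omega)] at h1 ⊢
  push_cast at h1 ⊢
  linear_combination h1

/-- The family of characters of the stabiliser nontrivial on the centre, when `|U| = q²` and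
the radical is large. -/
theorem Setup.big_family (h : Setup G a t U) [Fintype G] [Fintype (stabilizer G a)]
    (hQ : Nat.card U = q G a ^ 2) {n : ℕ} (hn : q G a = 2 ^ n) (he : Even n) :
    ∃ s : ℕ, 0 < s ∧
      (∀ η : IrrCharacter (stabilizer G a), ¬ KTriv (KerZ a U) η →
        (η : stabilizer G a → ℂ) 1 = (s : ℂ) * ((q G a : ℂ) - 1)) ∧
      (Finset.univ.filter (fun η : IrrCharacter (stabilizer G a) =>
        ¬ KTriv (KerZ a U) η)).card * s ^ 2 = q G a ∧
      4 ≤ (Finset.univ.filter (fun η : IrrCharacter (stabilizer G a) =>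
        ¬ KTriv (KerZ a U) η)).card := by
  haveI := h.ker_normal
  haveI := h.kerZ_normal
  letI : Fintype U := Fintype.ofFinite U
  letI : Fintype (Ker a U) := Fintype.ofFinite _
  have hcen : Nat.card (Subgroup.center U) = q G a := by rw [h.card_center]; rfl
  obtain ⟨V, hV, ⟨z₀, hz₀, hz₀V⟩, g, hg, hgV⟩ := h.radical hQ hn he
  obtain ⟨μ, S, s, hs0, hsign, hmul, ⟨w, hw, hwμ⟩, hS, hSc, hS4⟩ := central_family
    (fun z hz => Subtype.ext (h.mem_center_iff.1 hz))
    (fun x y => h.mem_center_iff.2 (by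
      have := h.comm_mem (U.inv_mem y.2) (U.inv_mem x.2)
      simpa using this))
    (by rw [hcen, hQ]) V hV hz₀ hz₀V g hg hgV
  rw [hcen] at hSc
  let toU : Ker a U ≃* U :=
    { toFun := fun k => ⟨k.1, k.2⟩
      invFun := fun k => ⟨⟨k, h.le k.2⟩, k.2⟩
      left_inv := fun _ => rfl
      right_inv := fun _ => rfl
      map_mul' := fun _ _ => rfl }
  let tr : IrrCharacter U → IrrCharacter (Ker a U) := fun θ =>
    ⟨(θ : U → ℂ) ∘ toU, Char.isIrrCharacter_comp_mulEquiv θ.2 toU⟩
  have htr_inj : Function.Injective tr := fun θ θ' e => Subtype.ext (funext fun x => by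
    have := congrArg (fun F : IrrCharacter (Ker a U) => (F : Ker a U → ℂ) (toU.symm x)) e
    simpa [tr] using this)
  have hDc : ∀ d, ∀ hd : d ∈ D a t, (∀ z : U, z ∈ Subgroup.center U →
      μ ⟨d * z * d⁻¹, h.normal d hd.1 z z.2⟩ = μ z) → d = 1 := by
    intro d hd hfix
    by_contra hd1
    let f : Subgroup.center U → Subgroup.center U := fun z =>
      ⟨⟨d * (z.1 : G) * d⁻¹, h.normal d hd.1 _ z.1.2⟩ * z.1, (Subgroup.center U).mul_mem
        (h.mem_center_iff.2 (by
          show d * (z.1 : G) * d⁻¹ * (d * (z.1 : G) * d⁻¹) = 1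
          rw [conj_mul, h.mem_center_iff.1 z.2, mul_one, mul_inv_cancel])) z.2⟩
    have hinj : Function.Injective f := by
      intro z z' e
      have e' : d * (z.1 : G) * d⁻¹ * z.1 = d * (z'.1 : G) * d⁻¹ * z'.1 :=
        congrArg (fun v : Subgroup.center U => (v.1 : G)) e
      have hz := h.mem_center_iff.1 z.2
      have h1 := h.D_fpf hd hd1 (U.mul_mem (U.inv_mem z'.1.2) z.1.2) (by
        have e2 : d * ((z'.1 : G)⁻¹ * z.1) * d⁻¹ = (z'.1 : G) * (z.1 : G)⁻¹ := by
          rw [eq_mul_inv_iff_mul_eq]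
          calc d * ((z'.1 : G)⁻¹ * z.1) * d⁻¹ * z.1
              = (d * (z'.1 : G) * d⁻¹)⁻¹ * (d * (z.1 : G) * d⁻¹ * z.1) := by group
            _ = z'.1 := by rw [e']; group
        have hcm : (z'.1 : G) * z.1 = z.1 * z'.1 :=
          (congrArg Subtype.val (Subgroup.mem_center_iff.1 z'.2 z.1)).symm
        rw [inv_eq_self_of_sq hz] at e2
        rw [inv_eq_self_of_sq (h.mem_center_iff.1 z'.2)] at e2 ⊢
        exact mul_inv_eq_iff_eq_mul.1 e2)
      exact Subtype.ext (Subtype.ext (inv_mul_eq_one.1 h1).symm)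
    obtain ⟨z, hz⟩ := Finite.injective_iff_surjective.1 hinj ⟨w, hw⟩
    apply hwμ
    rw [show w = (f z).1 from (congrArg Subtype.val hz).symm, hmul _ (h.mem_center_iff.2 (by
      show d * (z.1 : G) * d⁻¹ * (d * (z.1 : G) * d⁻¹) = 1
      rw [conj_mul, h.mem_center_iff.1 z.2, mul_one, mul_inv_cancel])) _ z.2, hfix z.1 z.2]
    rcases hsign _ z.2 with e | e <;> rw [e] <;> norm_num
  have hinner : ∀ θ ∈ S, ∀ φ ∈ S,
      classInner (indFun (Ker a U) (tr θ : Ker a U → ℂ)) (indFun (Ker a U) (tr φ : Ker a U → ℂ)) =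
        if θ = φ then 1 else 0 := by
    intro θ hθ φ hφ
    refine mul_left_cancel₀ (Nat.cast_ne_zero.2 (Nat.card_pos (α := Ker a U)).ne' :
      (Nat.card (Ker a U) : ℂ) ≠ 0) ?_
    rw [CharInd.card_mul_classInner_indFun_normal]
    have key : ∀ x : stabilizer G a,
        classInner (tr θ : Ker a U → ℂ) (CharInd.conjChar (Ker a U) x (tr φ : Ker a U → ℂ)) =
          if x ∈ Ker a U then (if θ = φ then 1 else 0) else 0 := by
      intro x
      by_cases hx : x ∈ Ker a U
      · rw [if_pos hx,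
          CharInd.conjChar_isClassFunction_mem _ (Char.irr_isClassFunction (tr φ).2) ⟨x, hx⟩]
        split_ifs with e
        · rw [e]; exact Char.classInner_irr_self (tr φ).2
        · exact Char.classInner_irr_ne (tr θ).2 (tr φ).2 fun e' => e (htr_inj (Subtype.ext e'))
      · rw [if_neg hx]
        refine Char.classInner_irr_ne (tr θ).2 (CharInd.conjChar_irr _ x (tr φ).2) fun e => hx ?_
        obtain ⟨v, hv, d, hd, hxv⟩ := decomp h.rankOne x.2
        suffices hd1 : d = 1 by
          show (x : G) ∈ U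
          rw [hxv, hd1, mul_one]; exact hv
        refine hDc d hd fun z hz => ?_
        have hz' : (⟨d * z * d⁻¹, h.normal d hd.1 z z.2⟩ : U) ∈ Subgroup.center U :=
          h.mem_center_iff.2 (by
            show d * (z : G) * d⁻¹ * (d * z * d⁻¹) = 1
            rw [conj_mul, h.mem_center_iff.1 hz, mul_one, mul_inv_cancel])
        have e1 := congrFun e (toU.symm z)
        rw [CharInd.conjChar_apply] at e1
        simp only [tr, Function.comp_apply, MulEquiv.apply_symm_apply] at e1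
        rw [(hS θ hθ).2 z hz] at e1
        have harg : toU ⟨x * (toU.symm z : Ker a U) * x⁻¹,
            h.ker_normal.conj_mem _ (toU.symm z).2 x⟩ = ⟨d * z * d⁻¹, h.normal d hd.1 z z.2⟩ := by
          refine Subtype.ext ?_
          show (x : G) * z * (x : G)⁻¹ = d * z * d⁻¹
          have hc := congrArg Subtype.val (Subgroup.mem_center_iff.1 hz' ⟨v, hv⟩)
          rw [hxv]
          calc v * d * z * (v * d)⁻¹ = v * (d * z * d⁻¹) * v⁻¹ := by group
            _ = d * z * d⁻¹ := by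
              rw [show v * (d * z * d⁻¹) = d * z * d⁻¹ * v from hc]; group
        rw [harg, (hS φ hφ).2 _ hz'] at e1
        exact (mul_left_cancel₀ (Nat.cast_ne_zero.2 hs0.ne' : (s : ℂ) ≠ 0) e1).symm
    simp only [key]
    rw [← Finset.sum_filter, Finset.sum_const, nsmul_eq_mul, ← Fintype.card_subtype,
      ← Nat.card_eq_fintype_card]
  have hirr : ∀ θ ∈ S, IsIrrCharacter (stabilizer G a) (indFun (Ker a U) (tr θ : Ker a U → ℂ)) :=
    fun θ hθ => Char.isIrrCharacter_iff_classInner.mpr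
      ⟨CharInd.isCharacter_indFun _ (Char.isCharacter_of_irr (tr θ).2), by
        rw [hinner θ hθ θ hθ, if_pos rfl]⟩
  let ind : S → IrrCharacter (stabilizer G a) := fun θ => ⟨_, hirr θ.1 θ.2⟩
  have hind_inj : Function.Injective ind := by
    intro θ φ e
    by_contra hne
    have h1 := hinner θ θ.2 φ φ.2
    rw [if_neg fun e' => hne (Subtype.ext e'),
      show indFun (Ker a U) (tr θ.1 : Ker a U → ℂ) = indFun (Ker a U) (tr φ.1 : Ker a U → ℂ) from
        congrArg Subtype.val e, hinner φ φ.2 φ φ.2, if_pos rfl] at h1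
    exact one_ne_zero h1
  have hdeg : ∀ θ : S, (ind θ : stabilizer G a → ℂ) 1 = (s : ℂ) * ((q G a : ℂ) - 1) := by
    intro θ
    show indFun (Ker a U) (tr θ.1 : Ker a U → ℂ) 1 = _
    rw [CharInd.indFun_one_apply, show (tr θ.1 : Ker a U → ℂ) 1 = (s : ℂ) from (hS θ.1 θ.2).1,
      ← h.ker_index]
    push_cast; ring
  set M := Finset.univ.filter (fun η : IrrCharacter (stabilizer G a) => ¬ KTriv (KerZ a U) η)
    with hM
  have hmemM : Finset.univ.image ind ⊆ M := by
    intro η hη
    obtain ⟨θ, -, rfl⟩ := Finset.mem_image.1 hη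
    refine Finset.mem_filter.2 ⟨Finset.mem_univ _, fun hk => hwμ ?_⟩
    have hwU : (⟨(w : G), h.le w.2⟩ : stabilizer G a) ∈ KerZ a U :=
      h.mem_kerZ.2 ⟨w.2, h.mem_center_iff.1 hw⟩
    have e := hk _ hwU
    rw [hdeg] at e
    change indFun (Ker a U) (tr θ.1 : Ker a U → ℂ) ((toU.symm w : Ker a U) : stabilizer G a) = _ at e
    rw [CharInd.indFun_normal_mem] at e
    have hterm : ∀ x : stabilizer G a, ∀ hm, (tr θ.1 : Ker a U → ℂ)
        ⟨x * (toU.symm w : Ker a U) * x⁻¹, hm⟩ =
          (s : ℂ) * μ ⟨(x : G) * w * (x : G)⁻¹, h.normal x x.2 w w.2⟩ := by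
      intro x hm
      exact (hS θ.1 θ.2).2 _ (h.mem_center_iff.2 (by
        show (x : G) * w * (x : G)⁻¹ * ((x : G) * w * (x : G)⁻¹) = 1
        rw [conj_mul, h.mem_center_iff.1 hw, mul_one, mul_inv_cancel]))
    simp only [hterm, ← Finset.mul_sum] at e
    have hcz : (Nat.card (Ker a U) : ℂ) ≠ 0 := Nat.cast_ne_zero.2 Nat.card_pos.ne'
    rw [inv_mul_eq_iff_eq_mul₀ hcz] at e
    have hB : (Nat.card (stabilizer G a) : ℂ) =
        (Nat.card (Ker a U) : ℂ) * ((q G a : ℂ) - 1) := by
      rw [← (Ker a U).card_mul_index, ← h.ker_index]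
      push_cast; ring
    have e2 : ∑ x : stabilizer G a, μ ⟨(x : G) * w * (x : G)⁻¹, h.normal x x.2 w w.2⟩ =
        ∑ _x : stabilizer G a, (1 : ℂ) := by
      rw [Finset.sum_const, nsmul_one, Finset.card_univ, ← Nat.card_eq_fintype_card, hB]
      refine mul_left_cancel₀ (Nat.cast_ne_zero.2 hs0.ne' : (s : ℂ) ≠ 0) ?_
      rw [e]; ring
    have e3 := congrArg Complex.re e2
    rw [Complex.re_sum, Complex.re_sum] at e3
    have hle : ∀ x : stabilizer G a,
        (μ ⟨(x : G) * w * (x : G)⁻¹, h.normal x x.2 w w.2⟩).re ≤ (1 : ℂ).re := fun x => by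
      rcases hsign ⟨(x : G) * w * (x : G)⁻¹, h.normal x x.2 w w.2⟩ (h.mem_center_iff.2 (by
        show (x : G) * w * (x : G)⁻¹ * ((x : G) * w * (x : G)⁻¹) = 1
        rw [conj_mul, h.mem_center_iff.1 hw, mul_one, mul_inv_cancel])) with e | e <;> rw [e] <;>
        norm_num
    have h1 := (Finset.sum_eq_sum_iff_of_le fun x _ => hle x).1 e3 1 (Finset.mem_univ _)
    rcases hsign w hw with e4 | e4
    · exact e4
    · exfalso
      rw [show (⟨((1 : stabilizer G a) : G) * w * ((1 : stabilizer G a) : G)⁻¹,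
        h.normal _ (1 : stabilizer G a).2 w w.2⟩ : U) = w from Subtype.ext (by simp), e4] at h1
      norm_num at h1
  have himg : (Finset.univ.image ind).card = S.card := by
    rw [Finset.card_image_of_injective _ hind_inj, Finset.card_univ, Fintype.card_coe]
  have hq1 : (1 : ℝ) < q G a := by
    have := h.two_le_q; exact_mod_cast (show 1 < q G a by omega)
  have hall : M = Finset.univ.image ind := by
    refine (Finset.eq_of_subset_of_card_le hmemM ?_).symm
    have hsum := Finset.sum_sdiff hmemM (f := fun η : IrrCharacter (stabilizer G a) =>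
      (η : stabilizer G a → ℂ) 1 ^ 2)
    have hMsum : ∑ η ∈ M, (η : stabilizer G a → ℂ) 1 ^ 2 * (q G a : ℂ) =
        (Nat.card (stabilizer G a) : ℂ) * ((q G a : ℂ) - 1) := by
      have h1 := h.sum_kerZ
      have h2 := Finset.sum_filter_add_sum_filter_not Finset.univ
        (fun η : IrrCharacter (stabilizer G a) => KTriv (KerZ a U) η)
        (fun η => (η : stabilizer G a → ℂ) 1 ^ 2 * (q G a : ℂ))
      rw [h1, ← Finset.sum_mul (Finset.univ : Finset (IrrCharacter (stabilizer G a))),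
        Char.sum_irr_degree_sq] at h2
      linear_combination h2
    rw [Finset.sum_image fun x _ y _ e => hind_inj e] at hsum
    simp only [hdeg, Finset.sum_const, Finset.card_univ, Fintype.card_coe, nsmul_eq_mul] at hsum
    rw [← Finset.sum_mul, h.card_stab, hQ, Nat.cast_mul, Nat.cast_pow,
      Nat.cast_sub (by have := h.two_le_q; omega), Nat.cast_one] at hMsum
    have hSc' : (S.card : ℂ) * (s : ℂ) ^ 2 = (q G a : ℂ) := by exact_mod_cast hSc
    have hzero : ∑ η ∈ M \ Finset.univ.image ind, (η : stabilizer G a → ℂ) 1 ^ 2 = 0 := by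
      have hq0 : (q G a : ℂ) ≠ 0 := by
        have := h.two_le_q; exact_mod_cast (show q G a ≠ 0 by omega)
      refine mul_right_cancel₀ hq0 ?_
      linear_combination (q G a : ℂ) * hsum + hMsum -
        (q G a : ℂ) * ((q G a : ℂ) - 1) ^ 2 * hSc'
    have hempty : M \ Finset.univ.image ind = ∅ := by
      by_contra hne
      obtain ⟨η, hη⟩ := Finset.nonempty_iff_ne_empty.2 hne
      choose d hd0 hd using fun χ : IrrCharacter (stabilizer G a) => Char.irr_one_pos χ.2
      simp only [hd] at hzero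
      have hz : ∑ η ∈ M \ Finset.univ.image ind, d η ^ 2 = 0 := by exact_mod_cast hzero
      have := (Finset.sum_eq_zero_iff.1 hz) η hη
      have := pow_pos (hd0 η) 2
      omega
    exact Finset.card_le_card (Finset.sdiff_eq_empty_iff_subset.1 hempty)
  refine ⟨s, hs0, fun η hη => ?_, ?_, ?_⟩
  · have : η ∈ Finset.univ.image ind := hall ▸ Finset.mem_filter.2 ⟨Finset.mem_univ _, hη⟩
    obtain ⟨θ, -, rfl⟩ := Finset.mem_image.1 this
    exact hdeg θ
  · rw [hall, himg]; exact hSc
  · rw [hall, himg]; exact hS4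

theorem Setup.conj_kTriv (h : Setup G a t U) {K : Subgroup (stabilizer G a)}
    {η : IrrCharacter (stabilizer G a)} :
    KTriv K (Char.conjIrr η) ↔ KTriv K η := by
  simp only [KTriv, Char.conjIrr_apply]
  exact forall₂_congr fun k _ => (RingHom.injective (starRingEnd ℂ)).eq_iff

/-- Only the classes of the identity and of an involution are real in the point stabiliser. -/
theorem Setup.real_of_stab (h : Setup G a t U) (hQ : Nat.card U = q G a ^ 2) {g x : G}
    (hg : g • a = a) (hx : x • a = a) (e : g * x * g⁻¹ = x⁻¹) : x ∈ U ∧ x * x = 1 := by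
  obtain ⟨v, hv, d, hd, rfl⟩ := decomp h.rankOne hg
  rcases h.stab_cases hx with hU | ⟨u, hu, d', hd', hd1, rfl⟩
  · refine ⟨hU, ?_⟩
    by_contra hx2
    have hxs := h.sq_mem hU
    have hdx : d * x * d⁻¹ ∈ U := h.normal d hd.1 x hU
    have hd2 : d = 1 := by
      refine h.D_regular hd (s := x * x) ⟨Q_fix h.rankOne (U.mul_mem hU hU), hx2, hxs⟩ ?_
      have hsI : d * (x * x) * d⁻¹ ∈ Ia G a :=
        conj_mem_Ia h.rankOne ⟨Q_fix h.rankOne (U.mul_mem hU hU), hx2, hxs⟩ hd.1
      haveI := h.faithful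
      have hc := Ia_central h.rankOne h.h2 hsI hv
      refine mul_inv_eq_iff_eq_mul.1 ?_
      calc d * (x * x) * d⁻¹ = v⁻¹ * ((v * d) * x * (v * d)⁻¹ * ((v * d) * x * (v * d)⁻¹)) * v := by
            group
        _ = v⁻¹ * (x * x)⁻¹ * v := by rw [e, mul_inv_rev]
        _ = v⁻¹ * (x * x) * v := by rw [inv_eq_self_of_sq hxs]
        _ = x * x := by
            have hc' := Ia_central h.rankOne h.h2
              (show x * x ∈ Ia G a from ⟨Q_fix h.rankOne (U.mul_mem hU hU), hx2, hxs⟩) hv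
            rw [mul_assoc, hc', inv_mul_cancel_left]
    subst hd2
    refine h.no_inverse hQ hv hU hx2 ?_
    rw [mul_one] at e
    exact mul_inv_eq_iff_eq_mul.1 e
  · exfalso
    set w := u⁻¹ * (v * (d * u * d⁻¹)) with hw
    have hwU : w ∈ U := U.mul_mem (U.inv_mem hu) (U.mul_mem hv (h.normal d hd.1 u hu))
    have e1 : w * d' * w⁻¹ = d'⁻¹ := by
      have hdd : d * d' * d⁻¹ = d' := by rw [h.D_comm hd hd', mul_inv_cancel_right]
      calc w * d' * w⁻¹ = w * (d * d' * d⁻¹) * w⁻¹ := by rw [hdd]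
        _ = u⁻¹ * ((v * d) * (u * d' * u⁻¹) * (v * d)⁻¹) * u := by rw [hw]; group
        _ = u⁻¹ * (u * d' * u⁻¹)⁻¹ * u := by rw [e]
        _ = _ := by group
    have h1 : w * (d' * w⁻¹ * d'⁻¹) * (d' * d') = 1 := by
      calc _ = (w * d' * w⁻¹) * d' := by group
        _ = 1 := by rw [e1, inv_mul_cancel]
    have h2 := (decomp_unique h.rankOne (U.mul_mem hwU (h.normal d' hd'.1 _ (U.inv_mem hwU)))
      U.one_mem ((D a t).mul_mem hd' hd') (D a t).one_mem (by rw [h1, one_mul])).2
    exact hd1 (RankOne.eq_one_of_sq h.odd_D hd' h2)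

/-- The characters nontrivial on the centre are not real. -/
theorem Setup.conj_ne (h : Setup G a t U) [Fintype G] [Fintype (stabilizer G a)]
    (hQ : Nat.card U = q G a ^ 2) {η : IrrCharacter (stabilizer G a)}
    (hη : ¬ KTriv (KerZ a U) η) : Char.conjIrr η ≠ η := by
  intro hreal
  haveI := h.ker_normal
  obtain ⟨s, hs, hs1, hs2⟩ := exists_involution_Q h.rankOne
  set σ : stabilizer G a := ⟨s, h.le hs⟩
  haveI : Finite (ConjClasses (stabilizer G a)) :=
    Finite.of_surjective _ ConjClasses.mk_surjective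
  have hle : Nat.card {C : ConjClasses (stabilizer G a) //
      ∀ g, ConjClasses.mk g = C → IsConj g g⁻¹} ≤ 2 := by
    refine le_trans (Nat.card_le_card_of_injective (fun C => decide (C.1 = ConjClasses.mk 1))
      fun C C' e => ?_) (by simp)
    have key : ∀ C : {C : ConjClasses (stabilizer G a) //
        ∀ g, ConjClasses.mk g = C → IsConj g g⁻¹},
        C.1 ≠ ConjClasses.mk 1 → C.1 = ConjClasses.mk σ := by
      rintro ⟨C, hC⟩ hne
      obtain ⟨x, rfl⟩ := ConjClasses.mk_surjective C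
      obtain ⟨g, hg⟩ := isConj_iff.1 (hC x rfl)
      obtain ⟨hxU, hx2⟩ := h.real_of_stab hQ g.2 x.2 (congrArg Subtype.val hg)
      have hx1 : (x : G) ≠ 1 := fun e => hne (congrArg ConjClasses.mk (Subtype.ext e : x = 1))
      obtain ⟨d, hd, hde⟩ := h.conj_transitive (u := (x : G)) (v := s) ⟨x.2, hx1, hx2⟩
        ⟨h.le hs, hs1, hs2⟩
      exact ConjClasses.mk_eq_mk_iff_isConj.2 (isConj_iff.2 ⟨⟨d, hd.1⟩, Subtype.ext hde⟩)
    simp only [decide_eq_decide] at e
    refine Subtype.ext ?_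
    by_cases hC : C.1 = ConjClasses.mk 1
    · rw [hC, e.1 hC]
    · rw [key C hC, key C' fun e' => hC (e.2 e')]
  rw [← Char.card_real_irr_eq_card_real_classes] at hle
  have hc := h.card_kerZ_set
  rw [hQ] at hc
  set E0 := Finset.univ.filter (fun η : IrrCharacter (stabilizer G a) =>
    ¬ KTriv (Ker a U) η ∧ KTriv (KerZ a U) η) with hE0
  have hq := h.two_le_q
  have hc1 : E0.card = 1 := by
    refine Nat.eq_of_mul_eq_mul_right (show 0 < (q G a - 1) * q G a by
      exact Nat.mul_pos (by omega) (by omega)) ?_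
    obtain ⟨m, hm⟩ : ∃ m, q G a = m + 1 := ⟨q G a - 1, by omega⟩
    rw [hm, Nat.add_sub_cancel] at hc ⊢
    linear_combination hc
  obtain ⟨ζ, hζ⟩ := Finset.card_eq_one.1 hc1
  obtain ⟨hζK, hζZ⟩ : ¬ KTriv (Ker a U) ζ ∧ KTriv (KerZ a U) ζ :=
    (Finset.mem_filter.1 (hζ ▸ Finset.mem_singleton_self ζ : ζ ∈ E0)).2
  have hζr : Char.conjIrr ζ = ζ := by
    have hmem : Char.conjIrr ζ ∈ E0 :=
      Finset.mem_filter.2 ⟨Finset.mem_univ _, fun e => hζK (h.conj_kTriv.1 e),
        h.conj_kTriv.2 hζZ⟩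
    rw [hζ] at hmem
    exact Finset.mem_singleton.1 hmem
  set T : IrrCharacter (stabilizer G a) := ⟨fun _ => 1, CharInd.irr_one_const⟩
  have hTK : ∀ K : Subgroup (stabilizer G a), KTriv K T := fun K k _ => rfl
  have hTr : Char.conjIrr T = T := Subtype.ext (funext fun g => by
    rw [Char.conjIrr_apply]; exact map_one _)
  have h3 : ({T, ζ, η} : Finset (IrrCharacter (stabilizer G a))).card = 3 := by
    rw [Finset.card_insert_of_notMem, Finset.card_pair]
    · rintro rfl; exact hη hζZ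
    · simp only [Finset.mem_insert, Finset.mem_singleton, not_or]
      exact ⟨fun e => hζK (e ▸ hTK _), fun e => hη (e ▸ hTK _)⟩
  have h4 := Finset.card_le_card (s := ({T, ζ, η} : Finset (IrrCharacter (stabilizer G a))))
    (t := Finset.univ.filter fun χ : IrrCharacter (stabilizer G a) =>
      ∀ g, ((χ : stabilizer G a → ℂ) g).im = 0) fun χ hχ => by
    refine Finset.mem_filter.2 ⟨Finset.mem_univ _, (Char.conjIrr_eq_self_iff χ).1 ?_⟩
    simp only [Finset.mem_insert, Finset.mem_singleton] at hχ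
    rcases hχ with rfl | rfl | rfl
    · exact hTr
    · exact hζr
    · exact hreal
  rw [h3, ← Fintype.card_subtype, ← Nat.card_eq_fintype_card] at h4
  omega

end Cfsg.Agent.SuzukiZ
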