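import Cfsg.Agent.SuzukiZ.Tori
import Cfsg.Agent.SuzukiZ.Chars

/-!
# The tori against an exceptional character
-/

set_option autoImplicit false
set_option linter.unusedSectionVars false

namespace Cfsg.Agent.SuzukiZ

open Subgroup MulAction RankOne CharExt
open scoped Classical ComplexConjugate

universe u v

theorem sum_sq_ge {ι : Type*} [Fintype ι] (m : ι → ℤ)
    (hdvd : ¬ (Fintype.card ι : ℤ) ∣ ∑ i, m i) :
    (Fintype.card ι : ℤ) - 1 ≤ (Fintype.card ι : ℤ) * ∑ i, m i ^ 2 - (∑ i, m i) ^ 2 := by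
  have hid : ∑ i, ∑ j, (m i - m j) ^ 2 =
      2 * ((Fintype.card ι : ℤ) * ∑ i, m i ^ 2 - (∑ i, m i) ^ 2) := by
    simp only [sub_sq, Finset.sum_add_distrib, Finset.sum_sub_distrib, Finset.sum_const,
      Finset.card_univ, nsmul_eq_mul, ← Finset.mul_sum, ← Finset.sum_mul]
    ring
  obtain ⟨i₀⟩ : Nonempty ι := by
    by_contra he
    rw [not_nonempty_iff] at he
    exact hdvd (by simp)
  set T := Finset.univ.filter (fun i => m i = m i₀) with hT
  have h1 : 1 ≤ T.card := Finset.card_pos.2 ⟨i₀, by simp [hT]⟩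
  have h2 : 1 ≤ Tᶜ.card := by
    rw [Nat.one_le_iff_ne_zero, ne_eq, Finset.card_eq_zero]
    intro he
    refine hdvd ⟨m i₀, ?_⟩
    rw [Finset.sum_congr rfl (g := fun _ => m i₀) fun i _ => ?_, Finset.sum_const,
      Finset.card_univ, nsmul_eq_mul]
    have : i ∉ Tᶜ := by rw [he]; simp
    simpa [hT] using this
  have hne : ∀ i ∈ T, ∀ j ∈ Tᶜ, 1 ≤ (m i - m j) ^ 2 := by
    intro i hi j hj
    simp only [hT, Finset.mem_compl, Finset.mem_filter, Finset.mem_univ, true_and] at hi hj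
    have : m i - m j ≠ 0 := sub_ne_zero.2 (by rw [hi]; exact fun e => hj e.symm)
    have := sq_pos_of_ne_zero this
    omega
  have h3 : (2 * (T.card * Tᶜ.card : ℕ) : ℤ) ≤ ∑ i, ∑ j, (m i - m j) ^ 2 := by
    have hA : ((T.card * Tᶜ.card : ℕ) : ℤ) ≤ ∑ i ∈ T, ∑ j, (m i - m j) ^ 2 := by
      refine le_trans (le_of_eq ?_) (Finset.sum_le_sum fun i hi =>
        le_trans (Finset.sum_le_sum (hne i hi))
          (Finset.sum_le_sum_of_subset_of_nonneg (Finset.subset_univ Tᶜ) fun j _ _ => sq_nonneg _))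
      simp
    have hB : ((T.card * Tᶜ.card : ℕ) : ℤ) ≤ ∑ i ∈ Tᶜ, ∑ j, (m i - m j) ^ 2 := by
      refine le_trans (le_of_eq ?_) (Finset.sum_le_sum fun i hi =>
        le_trans (Finset.sum_le_sum (s := T) (f := fun _ => (1 : ℤ)) fun j hj => by
            rw [show (m i - m j) ^ 2 = (m j - m i) ^ 2 by ring]; exact hne j hj i hi)
          (Finset.sum_le_sum_of_subset_of_nonneg (Finset.subset_univ T) fun j _ _ => sq_nonneg _))
      simp [mul_comm]
    rw [← Finset.sum_add_sum_compl T]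
    linarith
  have h4 := Finset.card_add_card_compl T
  rw [hid] at h3
  push_cast at h3
  rw [← h4]
  push_cast at hid ⊢
  have h1' : (1 : ℤ) ≤ T.card := by exact_mod_cast h1
  have h2' : (1 : ℤ) ≤ Tᶜ.card := by exact_mod_cast h2
  have h5 : (T.card : ℤ) + Tᶜ.card = Fintype.card ι := by exact_mod_cast h4
  rw [← h5] at h3
  nlinarith [mul_nonneg (sub_nonneg.2 h1') (sub_nonneg.2 h2')]

theorem sum_normSq_ge {G : Type u} [Group G] [Fintype G] (A : Subgroup G)
    (hA : ∀ y ∈ A, ∀ z ∈ A, y * z = z * y) {χ : G → ℂ} (hχ : Cfsg.IsCharacter G χ) {d : ℕ}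
    (hd : χ 1 = d) (hdvd : ¬ Nat.card A ∣ d) :
    (Nat.card A : ℝ) - 1 ≤
      ∑ y ∈ Finset.univ.filter (fun y => y ∈ A ∧ y ≠ 1), Complex.normSq (χ y) := by
  letI : Fintype A := Fintype.ofFinite A
  have hc : ∀ y z : A, y * z = z * y := fun y z => Subtype.ext (hA y y.2 z z.2)
  obtain ⟨n, hn⟩ := CharInd.isCharacter_coef (Char.isCharacter_restrict hχ A)
  have hcard : Fintype.card (IrrCharacter A) = Nat.card A := by
    have h := Char.sum_irr_degree_sq (G := A)
    simp only [fun χ : IrrCharacter A => Char.irr_degree_one_of_comm hc χ.2, one_pow,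
      Finset.sum_const, nsmul_one, Finset.card_univ] at h
    exact_mod_cast h
  have hdn : (d : ℤ) = ∑ ξ, (n ξ : ℤ) := by
    have h := congrFun hn 1
    simp only [Finset.sum_apply, Pi.smul_apply, smul_eq_mul,
      fun χ : IrrCharacter A => Char.irr_degree_one_of_comm hc χ.2, mul_one,
      Subgroup.coe_one, hd] at h
    exact_mod_cast h
  have h1 := sum_sq_ge (fun ξ => (n ξ : ℤ)) (by
    rw [← hdn, hcard]; exact fun e => hdvd (Int.natCast_dvd_natCast.1 e))
  rw [← hdn, hcard] at h1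
  have h2 : (Nat.card A : ℝ) * ∑ ξ, (n ξ : ℝ) ^ 2 = ∑ y : A, Complex.normSq (χ y) := by
    have hn' : (fun x : A => χ x) = ∑ ξ, ((n ξ : ℤ) : ℂ) • (ξ : A → ℂ) := by
      rw [hn]; push_cast; rfl
    have e := CharInd.classInner_congr_card (φ := fun x : A => χ x) (ψ := fun x : A => χ x)
    rw [CharInd.genChar_classInner (a := fun ξ => (n ξ : ℤ)) (b := fun ξ => (n ξ : ℤ)) hn' hn'] at e
    simp only [Complex.mul_conj, ← Complex.ofReal_sum] at e
    have e2 := congrArg Complex.re e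
    simp only [Complex.mul_re, Complex.natCast_re, Complex.natCast_im, zero_mul, sub_zero,
      Complex.ofReal_re, Complex.intCast_re] at e2
    rw [← e2]
    push_cast
    simp only [sq]
  rw [show (Finset.univ.filter fun y : G => y ∈ A ∧ y ≠ 1) =
      (Finset.univ.filter fun y : G => y ∈ A).erase 1 by ext y; simp [and_comm],
    Finset.sum_erase_eq_sub (by simp [one_mem]),
    Finset.sum_subtype (Finset.univ.filter fun y : G => y ∈ A) (p := fun y => y ∈ A)
      (fun y => by simp), ← h2, hd, Complex.normSq_natCast]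
  have h1' : (Nat.card A : ℝ) - 1 ≤ (Nat.card A : ℝ) * ∑ ξ, (n ξ : ℝ) ^ 2 - (d : ℝ) ^ 2 := by
    exact_mod_cast h1
  nlinarith

variable {G : Type u} {Ω : Type v} [Group G] [Finite G] [MulAction G Ω] [Finite Ω]
variable {a : Ω} {t : G} {U : Subgroup G}

/-- The numerical data of the tori against a character of degree `L (q-1)`. -/
theorem Setup.exists_torus_data (h : Setup G a t U) [Fintype G] (P : IrrCharacter G) {L : ℕ}
    (hL : (P : G → ℂ) 1 = (L : ℂ) * ((q G a : ℂ) - 1)) :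
    ∃ (n : ℕ) (A w k : Fin n → ℕ),
      2 * ∑ i, k i = q G a ∧
      (∀ i, (w i = 2 ∨ w i = 4 ∨ w i = 8) ∧ 1 ≤ k i ∧ A i = w i * k i + 1 ∧
        A i ∣ Nat.card U + 1 ∧ (Nat.card U = q G a ^ 2 → w i ≤ 4)) ∧
      (∀ J : Finset (Fin n), (∀ i ∈ J, A i ∣ L) → (∏ i ∈ J, A i) ∣ L) ∧
      (∀ J : Finset (Fin n), (∀ i ∈ J, ¬ A i ∣ L) →
        ∑ i ∈ J, (k i : ℝ) / (A i : ℝ) ≤ fpfMass Ω (P : G → ℂ)) ∧
      ∑ i, (Nat.card G : ℝ) * ((k i : ℝ) / (A i : ℝ)) ≤
        ((Finset.univ.filter fun y : G => ∀ c : Ω, y • c ≠ c).card : ℝ) := by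
  obtain ⟨n, A, w, k, hsum, hA, hco, habel, hf⟩ := h.exists_tori
  refine ⟨n, fun i => Nat.card (A i), w, k, hsum, hA, ?_, ?_, ?_⟩
  · intro J hJ
    induction J using Finset.induction_on with
    | empty => simp
    | insert i J hiJ ih =>
      rw [Finset.prod_insert hiJ]
      refine Nat.Coprime.mul_dvd_of_dvd_of_dvd (Nat.Coprime.prod_right fun j hj =>
        hco i j fun e => hiJ (e ▸ hj)) (hJ i (Finset.mem_insert_self i J))
        (ih fun j hj => hJ j (Finset.mem_insert_of_mem hj))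
  all_goals
    have hfac : ∀ i, (Nat.card G : ℝ) / ((Nat.card (A i) : ℝ) * w i) * ((Nat.card (A i) : ℝ) - 1) =
        (Nat.card G : ℝ) * ((k i : ℝ) / (Nat.card (A i) : ℝ)) := by
      intro i
      obtain ⟨hw, -, hA', -, -⟩ := hA i
      have hw0 : (w i : ℝ) ≠ 0 := by
        have : w i ≠ 0 := by omega
        exact_mod_cast this
      have hA0 : (Nat.card (A i) : ℝ) ≠ 0 := Nat.cast_ne_zero.2 Nat.card_pos.ne'
      rw [show (Nat.card (A i) : ℝ) - 1 = (w i : ℝ) * k i by rw [hA']; push_cast; ring]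
      field_simp
  · intro J hJ
    obtain ⟨d, hd0, hd⟩ := Char.irr_one_pos P.2
    have hdL : d = L * (q G a - 1) := by
      have := hd.symm.trans hL
      have hq := h.two_le_q
      apply Nat.cast_injective (R := ℂ)
      push_cast [Nat.cast_sub (show 1 ≤ q G a by omega)]
      exact this
    have hbad : ∀ i ∈ J, ¬ Nat.card (A i) ∣ d := by
      intro i hi e
      refine hJ i hi ?_
      rw [hdL] at e
      refine Nat.Coprime.dvd_of_dvd_mul_right ?_ e
      obtain ⟨hw, -, hA', hdvd, -⟩ := hA i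
      have hqU : q G a - 1 ∣ Nat.card U - 1 := by
        rcases h.card_U with e' | e' <;> rw [e'] <;> exact Nat.sub_one_dvd_pow_sub_one _ _
      refine Nat.coprime_of_dvd' fun p hp hp1 hp2 => ?_
      have h2 : p ∣ 2 := by
        have h3 : p ∣ Nat.card U - 1 := hp2.trans hqU
        have h4 : p ∣ Nat.card U + 1 := hp1.trans hdvd
        have h5 := Nat.dvd_sub h4 h3
        have : 0 < Nat.card U := Nat.card_pos
        rwa [show Nat.card U + 1 - (Nat.card U - 1) = 2 by omega] at h5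
      rw [(Nat.prime_dvd_prime_iff_eq hp Nat.prime_two).1 h2] at hp1
      obtain ⟨c, hc⟩ := hp1
      exfalso
      beta_reduce at hc hA'
      rcases hw with e' | e' | e' <;> rw [e'] at hA' <;> omega
    rw [fpfMass, le_div_iff₀ (Nat.cast_pos.2 Nat.card_pos), Finset.sum_mul]
    refine le_trans ?_ (hf (fun g => Complex.normSq ((P : G → ℂ) g))
      (fun g y => by simp only [Char.irr_isClassFunction P.2 y g]) fun y => Complex.normSq_nonneg _)
    refine le_trans (Finset.sum_le_sum fun i hi => ?_)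
      (Finset.sum_le_sum_of_subset_of_nonneg (Finset.subset_univ J) fun i _ _ =>
        mul_nonneg (by positivity) (Finset.sum_nonneg fun _ _ => Complex.normSq_nonneg _))
    rw [mul_comm, ← hfac]
    refine mul_le_mul_of_nonneg_left ?_ (by positivity)
    exact sum_normSq_ge (A i) (habel i) (Char.isCharacter_of_irr P.2) hd (hbad i hi)
  · have h1 := hf (fun _ => 1) (fun _ _ => rfl) fun _ => zero_le_one
    rw [Finset.sum_const, nsmul_one] at h1
    refine le_trans (le_of_eq (Finset.sum_congr rfl fun i _ => ?_)) h1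
    rw [Finset.sum_const, nsmul_one, ← hfac,
      show (Finset.univ.filter fun y : G => y ∈ A i ∧ y ≠ 1) =
        (Finset.univ.filter fun y : G => y ∈ A i).erase 1 by ext y; simp [and_comm],
      Finset.card_erase_of_mem (by simp [one_mem]), ← Fintype.card_subtype,
      ← Nat.card_eq_fintype_card, Nat.cast_sub Nat.card_pos, Nat.cast_one]

theorem prod_ge_sum {ι : Type*} (J : Finset ι) (A k : ι → ℕ)
    (hA : ∀ i ∈ J, 2 * k i + 1 ≤ A i) : 2 * ∑ i ∈ J, k i + 1 ≤ ∏ i ∈ J, A i := by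
  induction J using Finset.induction_on with
  | empty => simp
  | insert i J hiJ ih =>
    rw [Finset.sum_insert hiJ, Finset.prod_insert hiJ]
    have h1 := hA i (Finset.mem_insert_self i J)
    have h2 := ih fun j hj => hA j (Finset.mem_insert_of_mem hj)
    calc 2 * (k i + ∑ j ∈ J, k j) + 1 ≤ (2 * k i + 1) * (2 * ∑ j ∈ J, k j + 1) := by
          nlinarith [Nat.zero_le (k i * ∑ j ∈ J, k j)]
      _ ≤ _ := Nat.mul_le_mul h1 h2

set_option maxHeartbeats 400000 in
theorem Setup.card_U_sq (h : Setup G a t U) [Fintype G] : Nat.card U = q G a ^ 2 := by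
  refine h.card_U.resolve_right fun hQ => ?_
  letI : Fintype (stabilizer G a) := Fintype.ofFinite _
  haveI := h.ker_normal
  set S := Finset.univ.filter (fun η : IrrCharacter (stabilizer G a) =>
    ¬ KTriv (Ker a U) η ∧ KTriv (KerZ a U) η) with hS
  have hq := h.two_le_q
  have hSc : S.card = q G a + 1 := by
    have h1 := h.card_kerZ_set
    rw [← hS, hQ] at h1
    refine Nat.eq_of_mul_eq_mul_right (show 0 < (q G a - 1) * q G a by
      exact Nat.mul_pos (by omega) (by omega)) ?_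
    obtain ⟨m, hm⟩ : ∃ m, q G a = m + 1 := ⟨q G a - 1, by omega⟩
    rw [hm, Nat.add_sub_cancel] at h1 ⊢
    linear_combination h1
  obtain ⟨ζ, hζ, ζ', hζ', hne⟩ := Finset.one_lt_card.1 (show 1 < S.card by omega)
  choose! θ hθ0 hθ using fun η (hη : ¬ KTriv (Ker a U) η) => h.degree_dvd (η := η) hη
  have hq1 : (q G a : ℂ) - 1 ≠ 0 := by
    rw [sub_ne_zero]; exact_mod_cast (show q G a ≠ 1 by omega)
  have hS1 : ∀ η ∈ S, ¬ KTriv (Ker a U) η ∧ θ η = 1 := by
    intro η hη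
    obtain ⟨h1, h2⟩ := (Finset.mem_filter.1 hη).2
    refine ⟨h1, ?_⟩
    have e := (hθ η h1).symm.trans (h.kerZ_degree h1 h2)
    have e' := mul_right_cancel₀ hq1 (e.trans (one_mul _).symm)
    exact_mod_cast e'
  obtain ⟨hζK, hζZ⟩ := (Finset.mem_filter.1 hζ).2
  obtain ⟨hζ'K, hζ'Z⟩ := (Finset.mem_filter.1 hζ').2
  obtain ⟨P, N, -, -, hN, hNm, h0, hd⟩ := h.exists_pair hζK hζ'K hne
    ((h.kerZ_degree hζK hζZ).trans (h.kerZ_degree hζ'K hζ'Z).symm)
  choose x hx using fun η => exists_int_coef (a := a) P η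
  obtain ⟨L, hL0, hL, hmain⟩ := h.pair_ineq hne P N x θ hx hN hNm h0 hd hθ S ∅ 1 hS1 (by simp)
    (Finset.disjoint_empty_right _) hζ hζ'
  obtain ⟨n, A, w, k, hk, hA, hprod, hbad, hcount⟩ := h.exists_torus_data P hL
  have hqR : (4 : ℝ) ≤ q G a := by exact_mod_cast hq
  have hL0' : (0 : ℝ) < L := Nat.cast_pos.2 hL0
  simp only [Finset.sum_empty, add_zero, Nat.cast_one, mul_one, hSc, hQ] at hmain
  push_cast at hmain
  set x₀ := (q G a : ℝ) with hx₀
  set c := (L : ℝ) * (x₀ - 1) / (x₀ ^ 3 - 1) with hc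
  set δ := |c - round c| with hδ
  set m := fpfMass Ω (P : G → ℂ) with hm
  have hm0 : 0 ≤ m := fpfMass_nonneg _
  have hN0 : (0 : ℝ) < x₀ ^ 2 + x₀ + 1 := by positivity
  have hden : x₀ ^ 3 - 1 = (x₀ - 1) * (x₀ ^ 2 + x₀ + 1) := by ring
  have hcL : c * (x₀ ^ 2 + x₀ + 1) = L := by
    rw [hc, hden]
    have : x₀ - 1 ≠ 0 := by linarith
    field_simp
  have hκ : 2 * (L : ℝ) ^ 2 * (x₀ - 1) / ((x₀ ^ 3) ^ 2 - 1) =
      2 * c ^ 2 * (x₀ ^ 2 + x₀ + 1) / (x₀ ^ 3 + 1) := by
    rw [← hcL, show (x₀ ^ 3) ^ 2 - 1 = (x₀ - 1) * (x₀ ^ 2 + x₀ + 1) * (x₀ ^ 3 + 1) by ring]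
    have : x₀ - 1 ≠ 0 := by linarith
    have : x₀ ^ 3 + 1 ≠ 0 := by positivity
    field_simp
  have hc0 : 0 < c := by
    by_contra hle
    push Not at hle
    nlinarith
  rw [hκ, show (c - (round c : ℝ)) ^ 2 = δ ^ 2 from (sq_abs _).symm] at hmain
  set κ := 2 * c ^ 2 * (x₀ ^ 2 + x₀ + 1) / (x₀ ^ 3 + 1) with hκdef
  have hκ0 : 0 < κ := by positivity
  have hmk : (m + κ) * (x₀ + 1) ≤ 1 := by nlinarith [sq_nonneg ((x₀ + 1) * δ - 1)]
  have hδ2 : δ * (x₀ + 1) ≤ 2 := by
    by_contra hlt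
    push Not at hlt
    have h1 : 0 < δ := by nlinarith
    nlinarith
  -- all torus orders divide `L`
  have hgood : ∀ i, A i ∣ L := by
    intro i
    by_contra hni
    have h1 := hbad {i} (by simpa using hni)
    rw [Finset.sum_singleton] at h1
    obtain ⟨hw, hk1, hAi, hAd, -⟩ := hA i
    have hk1' : (1 : ℝ) ≤ k i := by exact_mod_cast hk1
    rw [hAi] at h1
    push_cast at h1
    rw [div_le_iff₀ (by positivity)] at h1
    have hsmall : w i = 8 → 8 ≤ q G a := by
      intro hw8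
      by_contra hlt
      obtain ⟨e, -, he⟩ := h.exists_q_eq
      have hq4 : q G a = 4 := by
        have he3 : e < 3 := by
          by_contra h3
          have := Nat.pow_le_pow_right (show 1 ≤ 2 by norm_num) (show 3 ≤ e by omega)
          omega
        rw [he] at hq ⊢
        interval_cases e <;> omega
      rw [hQ, hq4] at hAd
      have hki : k i ≤ 2 := by
        have := Finset.single_le_sum (f := k) (fun j _ => Nat.zero_le _) (Finset.mem_univ i)
        omega
      rw [hAi, hw8] at hAd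
      interval_cases hk' : k i <;> norm_num at hAd
    have hm1 : m * (x₀ + 1) < 1 := by nlinarith [mul_pos hκ0 (show (0 : ℝ) < x₀ + 1 by linarith)]
    have h9 : (k i : ℝ) * (x₀ + 1) < (w i : ℝ) * k i + 1 := by
      calc (k i : ℝ) * (x₀ + 1) ≤ m * ((w i : ℝ) * k i + 1) * (x₀ + 1) :=
            mul_le_mul_of_nonneg_right h1 (by linarith)
        _ = (m * (x₀ + 1)) * ((w i : ℝ) * k i + 1) := by ring
        _ < 1 * ((w i : ℝ) * k i + 1) := mul_lt_mul_of_pos_right hm1 (by positivity)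
        _ = _ := one_mul _
    rcases hw with hw' | hw' | hw' <;> rw [hw'] at h9 <;> push_cast at h9
    · linarith [mul_le_mul_of_nonneg_left hqR (show (0 : ℝ) ≤ k i by linarith)]
    · linarith [mul_le_mul_of_nonneg_left hqR (show (0 : ℝ) ≤ k i by linarith)]
    · have h8 : (8 : ℝ) ≤ x₀ := by rw [hx₀]; exact_mod_cast hsmall hw'
      linarith [mul_le_mul_of_nonneg_left h8 (show (0 : ℝ) ≤ k i by linarith)]
  -- `L ≤ 2q`
  have hc2 : c * (x₀ + 1) ≤ 2 := by
    have hround : round c = 0 := by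
      have hr0 : 0 ≤ round c := by
        rw [round_eq]; exact Int.floor_nonneg.2 (by linarith)
      by_contra hne0
      have hr1 : (1 : ℝ) ≤ (round c : ℝ) := by exact_mod_cast (show (1 : ℤ) ≤ round c by omega)
      have h1 : (round c : ℝ) - c ≤ δ := by rw [hδ, abs_sub_comm]; exact le_abs_self _
      have h2 : x₀ - 1 ≤ c * (x₀ + 1) := by nlinarith
      have h3 : κ * (x₀ + 1) ≤ 1 := by nlinarith
      rw [hκdef, div_mul_eq_mul_div, div_le_one (by positivity)] at h3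
      have h4 : (x₀ - 1) ^ 2 ≤ (c * (x₀ + 1)) ^ 2 := pow_le_pow_left₀ (by linarith) h2 2
      have h5 : 2 * ((x₀ - 1) ^ 2) * (x₀ ^ 2 + x₀ + 1) ≤ (x₀ ^ 3 + 1) * (x₀ + 1) := by
        calc 2 * ((x₀ - 1) ^ 2) * (x₀ ^ 2 + x₀ + 1)
            ≤ 2 * ((c * (x₀ + 1)) ^ 2) * (x₀ ^ 2 + x₀ + 1) := by gcongr
          _ = (2 * c ^ 2 * (x₀ ^ 2 + x₀ + 1) * (x₀ + 1)) * (x₀ + 1) := by ring
          _ ≤ _ := by gcongr
      have h6 : 0 ≤ x₀ ^ 3 * (x₀ - 4) := mul_nonneg (by positivity) (by linarith)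
      have h7 : 0 ≤ x₀ * ((x₀ - 4) * (x₀ + 4)) :=
        mul_nonneg (by linarith) (mul_nonneg (by linarith) (by linarith))
      linarith
    rw [hδ, hround, Int.cast_zero, sub_zero, abs_of_pos hc0] at hδ2
    exact hδ2
  have hL2 : L ≤ 2 * q G a := by
    have h1 : (L : ℝ) * (x₀ + 1) ≤ 2 * (x₀ ^ 2 + x₀ + 1) := by rw [← hcL]; nlinarith
    by_contra hlt
    push Not at hlt
    have h2 : 2 * x₀ + 1 ≤ (L : ℝ) := by rw [hx₀]; exact_mod_cast hlt
    nlinarith
  have hall := Nat.le_of_dvd hL0 (hprod Finset.univ fun i _ => hgood i)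
  have hA2 : ∀ i, 2 * k i + 1 ≤ A i := by
    intro i
    obtain ⟨hw, -, hAi, -, -⟩ := hA i
    rcases hw with hw' | hw' | hw' <;> rw [hAi, hw'] <;> omega
  rcases n with _ | _ | n
  · simp at hk; omega
  · -- one class
    rw [Fin.sum_univ_one] at hk
    rw [Fin.prod_univ_one] at hall
    obtain ⟨hw, hk1, hAi, hAd, -⟩ := hA 0
    rcases hw with hw' | hw' | hw'
    · rw [Fin.sum_univ_one] at hcount
      have hA0 : A 0 = q G a + 1 := by rw [hAi, hw']; omega
      have hk0 : (k 0 : ℝ) = x₀ / 2 := by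
        rw [eq_div_iff two_ne_zero, hx₀, ← hk]; push_cast; ring
      have h2 := h.card_fpf
      rw [hQ] at h2
      have h3 : (2 : ℝ) * ((Finset.univ.filter fun y : G => ∀ c : Ω, y • c ≠ c).card : ℝ) =
          x₀ ^ 3 * ((x₀ ^ 3 + 1) * x₀ - 2 * x₀ ^ 3) := by
        rw [hx₀]; exact_mod_cast h2
      rw [hA0, hk0, h.card_G, hQ, Nat.cast_mul, Nat.cast_mul, Nat.cast_sub (by omega)] at hcount
      push_cast at hcount
      rw [← hx₀, ← mul_div_assoc, div_le_iff₀ (by positivity)] at hcount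
      have h6 : x₀ ^ 3 * (x₀ - 1) * (x₀ ^ 3 + 1) * (x₀ / 2) * 2 ≤
          x₀ ^ 3 * ((x₀ ^ 3 + 1) * x₀ - 2 * x₀ ^ 3) * (x₀ + 1) := by
        rw [← h3]; nlinarith
      have h7 : 2 * x₀ ^ 3 * (x₀ + 1) ≤ 2 * x₀ * (x₀ ^ 3 + 1) := by
        have hpos : (0 : ℝ) < x₀ ^ 3 := by positivity
        refine le_of_mul_le_mul_left ?_ hpos
        linarith
      nlinarith
    · rw [hAi, hw'] at hall; omega
    · rw [hAi, hw'] at hall; omega
  · -- several classes
    have h1 := prod_ge_sum (Finset.univ.erase (0 : Fin (n + 2))) A k fun i _ => hA2 i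
    rw [← Finset.mul_prod_erase _ A (Finset.mem_univ (0 : Fin (n + 2)))] at hall
    rw [← Finset.add_sum_erase _ k (Finset.mem_univ (0 : Fin (n + 2)))] at hk
    have hr : 1 ≤ ∑ i ∈ Finset.univ.erase (0 : Fin (n + 2)), k i :=
      le_trans (hA 1).2.1 (Finset.single_le_sum (f := k) (fun j _ => Nat.zero_le _)
        (Finset.mem_erase.2 ⟨by simp, Finset.mem_univ _⟩))
    have hk0 := (hA 0).2.1
    have h2 : (2 * k 0 + 1) * (2 * ∑ i ∈ Finset.univ.erase (0 : Fin (n + 2)), k i + 1) ≤ L :=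
      le_trans (Nat.mul_le_mul (hA2 0) h1) hall
    nlinarith [Nat.mul_le_mul hk0 hr]

end Cfsg.Agent.SuzukiZ
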