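import Cfsg.Agent.SuzukiZ.Count
import Cfsg.Agent.CharExt.FrobeniusChars
import Cfsg.Agent.CharInd.Coherence
import Cfsg.Agent.CharInd.Induced
import Cfsg.Agent.Char.Linear

/-!
# Exceptional differences in a Zassenhaus group with Suzuki kernel
-/

set_option autoImplicit false
set_option linter.unusedSectionVars false

namespace Cfsg.Agent.SuzukiZ

open Subgroup MulAction RankOne CharExt
open scoped Classical ComplexConjugate

universe u v

variable {G : Type u} {Ω : Type v} [Group G] [Finite G] [MulAction G Ω] [Finite Ω]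
variable {a : Ω} {t : G} {U : Subgroup G}

/-- The kernel of a point stabiliser. -/
abbrev Ker (a : Ω) (U : Subgroup G) : Subgroup (stabilizer G a) := U.subgroupOf (stabilizer G a)

theorem Setup.ker_normal (h : Setup G a t U) : (Ker a U).Normal :=
  ⟨fun n hn g => h.normal g g.2 n hn⟩

theorem Setup.ker_cent (h : Setup G a t U) :
    ∀ k ∈ Ker a U, k ≠ 1 → centralizer ({k} : Set (stabilizer G a)) ≤ Ker a U := by
  intro k hk hk1 g hg
  rw [Subgroup.mem_centralizer_singleton_iff] at hg
  have hg' : (g : G) * k = k * g := congrArg Subtype.val hg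
  rcases h.stab_cases g.2 with hU | ⟨u, hu, d, hd, hd1, e⟩
  · exact hU
  · exfalso
    have h1 := h.D_fpf hd hd1 (x := u⁻¹ * k * u)
      (U.mul_mem (U.mul_mem (U.inv_mem hu) hk) hu) (by
        calc d * (u⁻¹ * k * u) = u⁻¹ * ((u * d * u⁻¹) * k) * u := by group
          _ = u⁻¹ * (k * (u * d * u⁻¹)) * u := by rw [← e, hg']
          _ = _ := by group)
    refine hk1 (Subtype.ext ?_)
    calc (k : G) = u * (u⁻¹ * k * u) * u⁻¹ := by group
      _ = 1 := by rw [h1]; group

theorem Setup.ker_ti (h : Setup G a t U) :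
    ∀ g : G, g ∉ stabilizer G a → ∀ x ∈ (U : Set G), g * x * g⁻¹ ∈ (U : Set G) → x = 1 := by
  intro g hg x hx hgx
  by_contra hx1
  refine hg ?_
  show g • a = a
  exact (h.U_fix_iff hgx (by simpa using hx1)).1 (Setup.conj_fix (Q_fix h.rankOne hx))

theorem Setup.card_ker (h : Setup G a t U) : Nat.card (Ker a U) = Nat.card U :=
  Nat.card_congr (Subgroup.subgroupOfEquivOfLe h.le).toEquiv

theorem Setup.ker_index (h : Setup G a t U) : (Ker a U).index + 1 = q G a := by
  have h1 := (Ker a U).card_mul_index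
  rw [h.card_ker, h.card_stab] at h1
  have h2 := Nat.eq_of_mul_eq_mul_left Nat.card_pos h1
  have := h.two_le_q
  omega

theorem Setup.mem_U_D (h : Setup G a t U) {d : G} (hd : d ∈ D a t) (hU : d ∈ U) : d = 1 :=
  h.fix_eq_one hU h.tmov hd.2

/-- The principal constituent and the other linear characters of the point stabiliser do not
meet an exceptional pair. -/
theorem Setup.sum_stab_sub (h : Setup G a t U) [Fintype G] [Fintype (stabilizer G a)]
    (f : stabilizer G a → ℂ) (hf : ∀ g x : stabilizer G a, f (g * x * g⁻¹) = f x) :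
    ∑ x, f x = (∑ x ∈ Finset.univ.filter (fun x : G => x ∈ U), extendByZero _ f x) +
      Nat.card U • ∑ d ∈ Finset.univ.filter (fun d => d ∈ D a t ∧ d ≠ 1), extendByZero _ f d := by
  rw [← h.sum_stab (extendByZero _ f) fun g hg x hx => by
    rw [CharInd.extendByZero_mem _ _ hx,
      CharInd.extendByZero_mem _ _ ((stabilizer G a).mul_mem ((stabilizer G a).mul_mem hg hx)
        ((stabilizer G a).inv_mem hg))]
    exact hf ⟨g, hg⟩ ⟨x, hx⟩]
  rw [Finset.sum_subtype (Finset.univ.filter fun x : G => x • a = a) (p := fun x => x ∈ stabilizer G a)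
    (fun x => by simp)]
  exact Finset.sum_congr rfl fun x _ => (CharInd.extendByZero_mem _ _ x.2).symm

theorem Setup.ind_apply_U (h : Setup G a t U) [Fintype G] [Fintype (stabilizer G a)]
    {f : stabilizer G a → ℂ} (hf : IsClassFunction _ f) {u : G} (hu : u ∈ U) (hu1 : u ≠ 1) :
    indFun (stabilizer G a) f u = f ⟨u, h.le hu⟩ := by
  rw [CharInd.indFun_apply]
  have key : ∀ x : G, extendByZero (stabilizer G a) f (x⁻¹ * u * x) =
      if x ∈ stabilizer G a then f ⟨u, h.le hu⟩ else 0 := by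
    intro x
    split_ifs with hx
    · rw [CharInd.extendByZero_mem _ _ ((stabilizer G a).mul_mem ((stabilizer G a).mul_mem
        ((stabilizer G a).inv_mem hx) (h.le hu)) hx)]
      have := hf ⟨u, h.le hu⟩ ⟨x⁻¹, (stabilizer G a).inv_mem hx⟩
      rw [← this]
      congr 1
      exact Subtype.ext (by simp)
    · refine CharInd.extendByZero_notMem _ _ fun hm => hx ?_
      exact (h.U_fix_iff hu hu1).1 (by
        have : (x⁻¹ * u * x) • a = a := hm
        rwa [mul_smul, mul_smul, inv_smul_eq_iff] at this)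
  simp only [key]
  rw [← Finset.sum_filter, Finset.sum_const, nsmul_eq_mul, ← Fintype.card_subtype,
    ← Nat.card_eq_fintype_card, inv_mul_cancel_left₀ CharInd.natCard_ne_zero]

theorem Setup.ind_apply_D (h : Setup G a t U) [Fintype G] [Fintype (stabilizer G a)]
    {f : stabilizer G a → ℂ} (hf : IsClassFunction _ f) {d : G} (hd : d ∈ D a t) (hd1 : d ≠ 1) :
    indFun (stabilizer G a) f d = f ⟨d, hd.1⟩ + f ⟨d⁻¹, (stabilizer G a).inv_mem hd.1⟩ := by
  rw [CharInd.indFun_apply]
  have key : ∀ x : G, extendByZero (stabilizer G a) f (x⁻¹ * d * x) =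
      (if x ∈ stabilizer G a then f ⟨d, hd.1⟩ else 0) +
        (if t * x ∈ stabilizer G a then f ⟨d⁻¹, (stabilizer G a).inv_mem hd.1⟩ else 0) := by
    intro x
    by_cases hx : x ∈ stabilizer G a
    · have hx' : t * x ∉ stabilizer G a := fun e => h.tmov (by
        have : (t * x) • a = a := e
        rwa [mul_smul, show x • a = a from hx] at this)
      rw [if_pos hx, if_neg hx', add_zero,
        CharInd.extendByZero_mem _ _ ((stabilizer G a).mul_mem ((stabilizer G a).mul_mem
          ((stabilizer G a).inv_mem hx) hd.1) hx)]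
      rw [← hf ⟨d, hd.1⟩ ⟨x⁻¹, (stabilizer G a).inv_mem hx⟩]
      congr 1
      exact Subtype.ext (by simp)
    · rw [if_neg hx, zero_add]
      split_ifs with hx'
      · have e : x⁻¹ * d * x = (t * x)⁻¹ * d⁻¹ * (t * x) := by
          rw [← h.D_conj_t hd]
          simp only [mul_inv_rev, mul_assoc]
          rw [← mul_assoc t⁻¹ t, inv_mul_cancel, one_mul, ← mul_assoc t t, h.tsq, one_mul]
        rw [e, CharInd.extendByZero_mem _ _ ((stabilizer G a).mul_mem ((stabilizer G a).mul_mem
          ((stabilizer G a).inv_mem hx') ((stabilizer G a).inv_mem hd.1)) hx')]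
        rw [← hf ⟨d⁻¹, (stabilizer G a).inv_mem hd.1⟩ ⟨(t * x)⁻¹, (stabilizer G a).inv_mem hx'⟩]
        congr 1
        exact Subtype.ext (by simp)
      · refine CharInd.extendByZero_notMem _ _ fun hm => ?_
        have h1 : d • x • a = x • a := by
          have : (x⁻¹ * d * x) • a = a := hm
          rwa [mul_smul, mul_smul, inv_smul_eq_iff] at this
        rcases (h.D_fix_iff hd hd1).1 h1 with e | e
        · exact hx e
        · exact hx' (show (t * x) • a = a by rw [mul_smul, e, ← mul_smul, h.tsq, one_smul])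
  simp only [key, Finset.sum_add_distrib]
  rw [← Finset.sum_filter, Finset.sum_const, nsmul_eq_mul, ← Fintype.card_subtype,
    ← Nat.card_eq_fintype_card,
    Fintype.sum_equiv (Equiv.mulLeft t) (fun x => if t * x ∈ stabilizer G a then
      f ⟨d⁻¹, (stabilizer G a).inv_mem hd.1⟩ else 0) (fun y => if y ∈ stabilizer G a then
      f ⟨d⁻¹, (stabilizer G a).inv_mem hd.1⟩ else 0) (fun x => rfl),
    ← Finset.sum_filter, Finset.sum_const, nsmul_eq_mul, ← Fintype.card_subtype,
    ← Nat.card_eq_fintype_card, mul_add, inv_mul_cancel_left₀ CharInd.natCard_ne_zero,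
    inv_mul_cancel_left₀ CharInd.natCard_ne_zero]

/-- The norm of a character of `G` induced from a linear character trivial on `U`. -/
theorem Setup.ind_kTriv_norm (h : Setup G a t U) [Fintype G] [Fintype (stabilizer G a)]
    {η : IrrCharacter (stabilizer G a)} (hη : KTriv (Ker a U) η) :
    classInner (indFun (stabilizer G a) (η : stabilizer G a → ℂ))
        (indFun (stabilizer G a) (η : stabilizer G a → ℂ)) = 1 ∨
      ((η : stabilizer G a → ℂ) = (fun _ => 1) ∧
        classInner (indFun (stabilizer G a) (η : stabilizer G a → ℂ))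
          (indFun (stabilizer G a) (η : stabilizer G a → ℂ)) = 2) := by
  haveI := h.ker_normal
  have hη1 : (η : stabilizer G a → ℂ) 1 = 1 := by
    obtain ⟨ψ, hψ, e⟩ := Char.irr_exists_descend η.2 (Ker a U) hη
    have hcomm : ∀ x y : stabilizer G a ⧸ Ker a U, x * y = y * x := by
      intro x y
      induction x using QuotientGroup.induction_on with
      | H x =>
        induction y using QuotientGroup.induction_on with
        | H y =>
          have hrep : ∀ z : stabilizer G a, ∃ d : stabilizer G a, (d : G) ∈ D a t ∧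
              (z : stabilizer G a ⧸ Ker a U) = (d : stabilizer G a ⧸ Ker a U) := by
            intro z
            obtain ⟨v, hv, d, hd, hz⟩ := decomp h.rankOne z.2
            refine ⟨⟨d, hd.1⟩, hd, QuotientGroup.eq.2 ?_⟩
            show (z : G)⁻¹ * d ∈ U
            rw [hz, mul_inv_rev]
            simpa using h.normal d⁻¹ ((stabilizer G a).inv_mem hd.1) _ (U.inv_mem hv)
          obtain ⟨d, hd, e⟩ := hrep x
          obtain ⟨d', hd', e'⟩ := hrep y
          rw [e, e', ← QuotientGroup.mk_mul, ← QuotientGroup.mk_mul]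
          exact congrArg _ (Subtype.ext (h.D_comm hd hd'))
    rw [e, QuotientGroup.mk_one]
    exact Char.irr_degree_one_of_comm hcomm hψ
  obtain ⟨φ, hφ⟩ := Char.exists_monoidHom_of_degree_one (Char.isCharacter_of_irr η.2) hη1
  set f : stabilizer G a → ℂ := (η : stabilizer G a → ℂ) with hfdef
  have hfU : ∀ x : stabilizer G a, (x : G) ∈ U → f x = 1 := fun x hx => (hη x hx).trans hη1
  have hfmul : ∀ x y, f (x * y) = f x * f y := fun x y => by
    rw [hφ, hφ, hφ, map_mul, Units.val_mul]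
  have hcl : IsClassFunction _ f := Char.irr_isClassFunction η.2
  have hinv : ∀ x, conj (f x) = f x⁻¹ := fun x => (Char.irr_inv η.2 x).symm
  have hU1 : Nat.card U = (Finset.univ.filter fun x : G => x ∈ U).card := by
    rw [Nat.card_eq_fintype_card, Fintype.card_subtype]
  -- the norm as a sum over the stabiliser
  have hnorm : (Nat.card (stabilizer G a) : ℂ) *
      classInner (indFun (stabilizer G a) f) (indFun (stabilizer G a) f) =
      2 * (Nat.card U : ℂ) + (Nat.card U : ℂ) *
        ∑ d ∈ Finset.univ.filter (fun d => d ∈ D a t ∧ d ≠ 1),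
          (1 + extendByZero _ f (d * d)) := by
    rw [CharInd.classInner_indFun_left _ f (CharInd.indFun_isClassFunction _ f),
      CharInd.classInner_congr_card,
      h.sum_stab_sub (fun x => f x * conj (indFun (stabilizer G a) f x)) fun g x => by
        rw [hcl x g]
        congr 2
        exact CharInd.indFun_isClassFunction _ f (x : G) (g : G)]
    congr 1
    · rw [Finset.sum_eq_add_sum_sdiff_singleton_of_mem (i := (1 : G)) (by simp [one_mem]),
        Finset.sum_congr rfl (g := fun _ => (1 : ℂ)) fun x hx => ?_]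
      · rw [Finset.sum_const, Finset.card_sdiff, nsmul_one]
        have e1 : extendByZero (stabilizer G a)
            (fun x => f x * conj (indFun (stabilizer G a) f x)) 1 = (Nat.card U : ℂ) + 1 := by
          rw [CharInd.extendByZero_mem _ _ (one_mem _)]
          show f 1 * conj (indFun (stabilizer G a) f 1) = _
          rw [CharInd.indFun_one_apply, show f 1 = 1 from hη1, one_mul, mul_one, map_natCast]
          have h3 := (stabilizer G a).card_mul_index
          rw [h.card_G, h.card_stab] at h3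
          have hpos : 0 < Nat.card U * (q G a - 1) := h.card_stab ▸ Nat.card_pos
          rw [Nat.eq_of_mul_eq_mul_left hpos h3]
          push_cast; ring
        have e2 : ({(1 : G)} ∩ Finset.univ.filter fun x : G => x ∈ U).card = 1 := by
          simp [one_mem]
        rw [e1, e2, ← hU1, Nat.cast_sub Nat.card_pos, Nat.cast_one]
        ring
      · simp only [Finset.mem_sdiff, Finset.mem_filter, Finset.mem_univ, true_and,
          Finset.mem_singleton] at hx
        rw [CharInd.extendByZero_mem _ _ (h.le hx.1)]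
        show f _ * conj (indFun (stabilizer G a) f x) = 1
        rw [h.ind_apply_U hcl hx.1 hx.2, hfU _ hx.1, map_one, mul_one]
    · rw [nsmul_eq_mul]
      congr 1
      refine Finset.sum_congr rfl fun d hd => ?_
      obtain ⟨-, hdD, hd1⟩ := Finset.mem_filter.1 hd
      rw [CharInd.extendByZero_mem _ _ hdD.1,
        CharInd.extendByZero_mem _ _ ((stabilizer G a).mul_mem hdD.1 hdD.1)]
      show f _ * conj (indFun (stabilizer G a) f d) = _
      rw [h.ind_apply_D hcl hdD hd1, map_add, mul_add, hinv, hinv, ← hfmul, ← hfmul,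
        show ((⟨d, hdD.1⟩ : stabilizer G a) * (⟨d, hdD.1⟩ : stabilizer G a)⁻¹) = 1 from
          mul_inv_cancel _, show f 1 = 1 from hη1]
      congr 2
      exact Subtype.ext (by simp)
  have hDc : ((Finset.univ.filter fun d : G => d ∈ D a t ∧ d ≠ 1).card : ℂ) = (q G a : ℂ) - 2 := by
    rw [show (Finset.univ.filter fun d : G => d ∈ D a t ∧ d ≠ 1) =
      (Finset.univ.filter fun d : G => d ∈ D a t).erase 1 by ext d; simp [and_comm],
      Finset.card_erase_of_mem (by simp [one_mem]), ← Fintype.card_subtype,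
      ← Nat.card_eq_fintype_card]
    have h4 := h.card_D_eq
    have h5 : Nat.card (D a t) = (Nat.card (D a t) - 1) + 1 :=
      (Nat.sub_add_cancel Nat.card_pos).symm
    rw [← h4]
    conv_rhs => rw [h5]
    push_cast; ring
  have hcard : (Nat.card (stabilizer G a) : ℂ) = (Nat.card U : ℂ) * ((q G a : ℂ) - 1) := by
    rw [h.card_stab, Nat.cast_mul, Nat.cast_sub (by have := h.two_le_q; omega), Nat.cast_one]
  have hne : (Nat.card (stabilizer G a) : ℂ) ≠ 0 := CharInd.natCard_ne_zero
  by_cases hall : ∀ d, ∀ hd : d ∈ D a t, f ⟨d, hd.1⟩ = 1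
  · refine Or.inr ⟨funext fun x => ?_, ?_⟩
    · obtain ⟨v, hv, d, hd, hx⟩ := decomp h.rankOne x.2
      rw [show x = (⟨v, h.le hv⟩ : stabilizer G a) * ⟨d, hd.1⟩ from Subtype.ext hx, hfmul,
        hfU _ hv, hall d hd, one_mul]
    · refine mul_left_cancel₀ hne ?_
      rw [hnorm, Finset.sum_congr rfl (g := fun _ => (2 : ℂ)) fun d hd => by
        obtain ⟨-, hd, -⟩ := Finset.mem_filter.1 hd
        rw [CharInd.extendByZero_mem _ _ ((D a t).mul_mem hd hd).1,
          hall _ ((D a t).mul_mem hd hd)]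
        norm_num, Finset.sum_const, nsmul_eq_mul, hDc, hcard]
      ring
  · push Not at hall
    obtain ⟨e, he, hne1⟩ := hall
    refine Or.inl (mul_left_cancel₀ hne ?_)
    have hz : ∑ d ∈ Finset.univ.filter (fun d => d ∈ D a t), extendByZero _ f (d * d) = 0 := by
      have hsq : ∑ d ∈ Finset.univ.filter (fun d => d ∈ D a t), extendByZero _ f (d * d) =
          ∑ d ∈ Finset.univ.filter (fun d => d ∈ D a t), extendByZero _ f d := by
        refine Finset.sum_nbij' (fun d => d * d) (fun d => sqr (D a t) d) ?_ ?_ ?_ ?_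
          fun _ _ => rfl
        · intro d hd; simp only [Finset.coe_filter, Finset.mem_coe, Finset.mem_filter, Finset.mem_univ, true_and, Set.mem_setOf_eq] at hd ⊢; exact (D a t).mul_mem hd hd
        · intro d hd; simp only [Finset.coe_filter, Finset.mem_coe, Finset.mem_filter, Finset.mem_univ, true_and, Set.mem_setOf_eq] at hd ⊢; exact sqr_mem hd
        · intro d hd; simp only [Finset.coe_filter, Finset.mem_coe, Finset.mem_filter, Finset.mem_univ, true_and, Set.mem_setOf_eq] at hd ⊢; exact sqr_sq h.odd_D hd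
        · intro d hd; simp only [Finset.coe_filter, Finset.mem_coe, Finset.mem_filter, Finset.mem_univ, true_and, Set.mem_setOf_eq] at hd ⊢; exact sqr_mul_self h.odd_D hd
      rw [hsq]
      set S := ∑ d ∈ Finset.univ.filter (fun d => d ∈ D a t), extendByZero _ f d
      have h1 : f ⟨e, he.1⟩ * S = S := by
        rw [Finset.mul_sum]
        refine Finset.sum_nbij' (fun d => e * d) (fun d => e⁻¹ * d) ?_ ?_ ?_ ?_ ?_
        · intro d hd; simp only [Finset.coe_filter, Finset.mem_coe, Finset.mem_filter, Finset.mem_univ, true_and, Set.mem_setOf_eq] at hd ⊢; exact (D a t).mul_mem he hd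
        · intro d hd; simp only [Finset.coe_filter, Finset.mem_coe, Finset.mem_filter, Finset.mem_univ, true_and, Set.mem_setOf_eq] at hd ⊢; exact (D a t).mul_mem ((D a t).inv_mem he) hd
        · intro d _; simp
        · intro d _; simp
        · intro d hd
          have hd' : d ∈ D a t := (Finset.mem_filter.1 hd).2
          rw [CharInd.extendByZero_mem _ _ hd'.1,
            CharInd.extendByZero_mem _ _ ((stabilizer G a).mul_mem he.1 hd'.1), ← hfmul]
          rfl
      have h2 : (f ⟨e, he.1⟩ - 1) * S = 0 := by rw [sub_mul, h1, one_mul, sub_self]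
      exact (mul_eq_zero.1 h2).resolve_left (sub_ne_zero.2 hne1)
    rw [show (Finset.univ.filter fun d : G => d ∈ D a t) =
      insert 1 (Finset.univ.filter fun d : G => d ∈ D a t ∧ d ≠ 1) by
        ext d; by_cases e : d = 1 <;> simp [e, one_mem],
      Finset.sum_insert (by simp), one_mul, CharInd.extendByZero_mem _ _ (one_mem _),
      show f ⟨1, one_mem _⟩ = 1 from hη1] at hz
    rw [hnorm, Finset.sum_add_distrib, Finset.sum_const, nsmul_one, hDc, hcard]
    linear_combination (Nat.card U : ℂ) * hz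

/-- The coefficients on the point stabiliser of an irreducible character. -/
noncomputable def coef [Fintype (stabilizer G a)] (P : G → ℂ) (η : IrrCharacter (stabilizer G a)) :
    ℂ :=
  classInner (fun x : stabilizer G a => P x) (η : stabilizer G a → ℂ)

theorem Setup.res_sub (h : Setup G a t U) [Fintype G] [Fintype (stabilizer G a)]
    {ψ : stabilizer G a → ℂ} (hψ : IsClassFunction _ ψ)
    (hψU : ∀ x : stabilizer G a, (x : G) ∉ U → ψ x = 0) (hψ1 : ψ 1 = 0) (x : stabilizer G a) :
    indFun (stabilizer G a) ψ x = ψ x := by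
  by_cases hx1 : x = 1
  · subst hx1
    rw [Subgroup.coe_one, CharInd.indFun_one_apply, hψ1, mul_zero]
  by_cases hxU : (x : G) ∈ U
  · exact CharInd.indFun_ti_apply _ (U : Set G) h.ker_ti hψ hψU x hxU hx1
  · rw [hψU x hxU]
    rcases h.stab_cases x.2 with e | ⟨u, hu, d, hd, hd1, e⟩
    · exact absurd e hxU
    rw [e, CharInd.indFun_isClassFunction _ ψ d u, h.ind_apply_D hψ hd hd1,
      hψU _ (fun e' => hd1 (h.mem_U_D hd e')),
      hψU _ (fun e' => hd1 (by simpa using h.mem_U_D ((D a t).inv_mem hd) e')), add_zero]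

theorem Setup.ind_fpf (h : Setup G a t U) [Fintype G] (ψ : stabilizer G a → ℂ) {g : G}
    (hg : ∀ c : Ω, g • c ≠ c) : indFun (stabilizer G a) ψ g = 0 := by
  refine CharInd.indFun_eq_zero_of_forall _ _ fun x hx => hg (x • a) ?_
  have : (x⁻¹ * g * x) • a = a := hx
  rwa [mul_smul, mul_smul, inv_smul_eq_iff] at this

theorem exists_int_coef [Fintype G] [Fintype (stabilizer G a)] (P : IrrCharacter G)
    (η : IrrCharacter (stabilizer G a)) : ∃ n : ℤ, coef (P : G → ℂ) η = n :=
  CharInd.genChar_inner_int (Char.isGeneralizedCharacter_restrict (CharInd.genChar_irr P.2) _) η.2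

theorem Setup.degree_dvd (h : Setup G a t U) [Fintype G] [Fintype (stabilizer G a)]
    {η : IrrCharacter (stabilizer G a)} (hη : ¬ KTriv (Ker a U) η) :
    ∃ θ : ℕ, 0 < θ ∧ (η : stabilizer G a → ℂ) 1 = (θ : ℂ) * ((q G a : ℂ) - 1) := by
  haveI := h.ker_normal
  set D' := (D a t).subgroupOf (stabilizer G a) with hD'
  haveI : Fintype D' := Fintype.ofFinite _
  haveI : Fintype (IrrCharacter D') :=
    @Fintype.ofFinite _ (CharInd.finite_irrCharacter)
  obtain ⟨n, hn⟩ := CharInd.isCharacter_coef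
    (Char.isCharacter_restrict (Char.isCharacter_of_irr η.2) D')
  set T : IrrCharacter D' := ⟨fun _ => 1, CharInd.irr_one_const⟩
  have h1 := congrArg (fun F => (Nat.card D' : ℂ) * classInner F (T : D' → ℂ)) hn
  rw [CharInd.classInner_irrSum (fun ξ => (n ξ : ℂ)) T, CharInd.classInner_congr_card,
    Finset.sum_eq_single (1 : D')] at h1
  · have hc : (Nat.card D' : ℂ) = (q G a : ℂ) - 1 := by
      rw [← h.card_D_eq, Nat.card_congr (Subgroup.subgroupOfEquivOfLe inf_le_left).toEquiv]
      push_cast; ring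
    simp only [T, map_one, mul_one, Subgroup.coe_one, hc] at h1
    refine ⟨n T, Nat.pos_of_ne_zero fun e => Char.irr_one_ne_zero η.2 ?_, by rw [h1, mul_comm]⟩
    rw [h1, e, Nat.cast_zero, mul_zero]
  · intro x _ hx
    rw [eq_zero_of_notMem (Ker a U) h.ker_cent hη (x := (x : stabilizer G a)) fun e =>
      hx (Subtype.ext (Subtype.ext (h.mem_U_D x.2 e))), zero_mul]
  · intro e; exact absurd (Finset.mem_univ _) e

/-- The exceptional difference attached to two characters of equal degree. -/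
theorem Setup.exists_pair (h : Setup G a t U) [Fintype G] [Fintype (stabilizer G a)]
    {ζ ζ' : IrrCharacter (stabilizer G a)} (hζ : ¬ KTriv (Ker a U) ζ)
    (hζ' : ¬ KTriv (Ker a U) ζ') (hne : ζ ≠ ζ')
    (hdeg : (ζ : stabilizer G a → ℂ) 1 = (ζ' : stabilizer G a → ℂ) 1) :
    ∃ P N : IrrCharacter G, P ≠ N ∧
      indFun (stabilizer G a) ((ζ : stabilizer G a → ℂ) - (ζ' : stabilizer G a → ℂ)) =
        (P : G → ℂ) - (N : G → ℂ) ∧
      (P : G → ℂ) 1 = (N : G → ℂ) 1 ∧
      (∀ g : G, (∀ c : Ω, g • c ≠ c) → (P : G → ℂ) g = (N : G → ℂ) g) ∧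
      (∀ η, KTriv (Ker a U) η → coef (P : G → ℂ) η = 0 ∧ coef (N : G → ℂ) η = 0) ∧
      ∀ η, coef (P : G → ℂ) η - coef (N : G → ℂ) η =
        (if η = ζ then 1 else 0) - if η = ζ' then 1 else 0 := by
  haveI := h.ker_normal
  set ψ := (ζ : (stabilizer G a) → ℂ) - (ζ' : (stabilizer G a) → ℂ) with hψdef
  have hψU : ∀ x : (stabilizer G a), (x : G) ∉ U → ψ x = 0 := fun x hx => by
    simp only [hψdef, Pi.sub_apply, eq_zero_of_notMem (Ker a U) h.ker_cent hζ (x := x) hx,
      eq_zero_of_notMem (Ker a U) h.ker_cent hζ' (x := x) hx, sub_self]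
  have hψ1 : ψ 1 = 0 := by simp [hψdef, hdeg]
  have hψc : IsClassFunction (stabilizer G a) ψ := fun g k => by
    simp [hψdef, Char.irr_isClassFunction ζ.2 g k, Char.irr_isClassFunction ζ'.2 g k]
  have hgen : IsGeneralizedCharacter G (indFun (stabilizer G a) ψ) :=
    CharInd.genChar_indFun (stabilizer G a) (CharInd.genChar_sub (CharInd.genChar_irr ζ.2)
      (CharInd.genChar_irr ζ'.2))
  obtain ⟨P, N, hPN, he⟩ := CharInd.genChar_norm_two hgen (CharInd.indFun_one_eq_zero (stabilizer G a) hψ1) (by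
    rw [CharInd.classInner_indFun_ti (stabilizer G a) (U : Set G) h.ker_ti hψc hψU hψU hψ1]
    simp only [hψdef, Char.classInner_sub_left, Char.classInner_sub_right,
      Char.classInner_irr_self ζ.2, Char.classInner_irr_self ζ'.2,
      Char.classInner_irr_ne ζ.2 ζ'.2 (fun e => hne (Subtype.ext e)),
      Char.classInner_irr_ne ζ'.2 ζ.2 (fun e => hne (Subtype.ext e).symm)]
    norm_num)
  have hcoef : ∀ η, coef (P : G → ℂ) η - coef (N : G → ℂ) η =
      (if η = ζ then 1 else 0) - if η = ζ' then 1 else 0 := by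
    intro η
    have e1 : (fun x : (stabilizer G a) => (P : G → ℂ) x) - (fun x : (stabilizer G a) => (N : G → ℂ) x) = ψ := funext fun x => by
      rw [Pi.sub_apply, ← h.res_sub hψc hψU hψ1 x, he]; rfl
    rw [coef, coef, ← Char.classInner_sub_left, e1, hψdef, Char.classInner_sub_left,
      Char.classInner_irrCharacter, Char.classInner_irrCharacter]
    simp only [eq_comm]
  have h1 : (P : G → ℂ) 1 = (N : G → ℂ) 1 := by
    have := congrFun he 1
    rw [CharInd.indFun_one_eq_zero (stabilizer G a) hψ1] at this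
    exact sub_eq_zero.1 this.symm
  have htriv : ∀ X : IrrCharacter G, (X : G → ℂ) 1 = 1 → (X : G → ℂ) = fun _ => 1 := by
    intro X hX
    funext g
    exact Char.linear_eq_one_of_mem_commutator (Char.isCharacter_of_irr X.2) hX
      (by rw [h.perfect]; exact mem_top g)
  refine ⟨P, N, hPN, he, h1, fun g hg => sub_eq_zero.1 ?_, fun η hη => ?_, hcoef⟩
  · have := congrFun he g
    rw [h.ind_fpf ψ hg] at this
    exact this.symm
  have heq : coef (P : G → ℂ) η = coef (N : G → ℂ) η := by
    have := hcoef η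
    rw [if_neg (fun e => hζ (by rwa [← e]) : ¬ η = ζ), if_neg (fun e => hζ' (by rwa [← e]) : ¬ η = ζ'),
      sub_self] at this
    exact sub_eq_zero.1 this
  haveI : Fintype (IrrCharacter G) := @Fintype.ofFinite _ (CharInd.finite_irrCharacter)
  obtain ⟨n, hn⟩ := CharInd.genChar_coef
    (CharInd.genChar_indFun (stabilizer G a) (CharInd.genChar_irr η.2))
  have hco : ∀ X : IrrCharacter G, coef (X : G → ℂ) η = n X := fun X => by
    rw [coef, ← CharInd.classInner_indFun_right (stabilizer G a) _ (Char.irr_isClassFunction X.2),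
      ← CharInd.classInner_swap, hn, CharInd.classInner_irrSum (fun ξ => (n ξ : ℂ)) X,
      map_intCast]
  have hnn : n P = n N := by
    rw [hco, hco] at heq; exact_mod_cast heq
  suffices hP : n P = 0 by
    rw [hco, hco, ← hnn, hP]
    simp
  by_contra hP
  have hsq := CharInd.genChar_classInner hn hn
  have h2P : (1 : ℤ) ≤ n P * n P := by have := mul_self_pos.2 hP; omega
  rcases h.ind_kTriv_norm hη with e | ⟨eη, e⟩ <;> rw [e] at hsq
  · have hsum : ∑ ξ, n ξ * n ξ = 1 := by exact_mod_cast hsq.symm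
    have := Finset.sum_le_sum_of_subset_of_nonneg (Finset.subset_univ ({P, N} : Finset _))
      (f := fun ξ => n ξ * n ξ) fun x _ _ => mul_self_nonneg _
    rw [Finset.sum_pair hPN, hsum, ← hnn] at this
    omega
  · have hsum : ∑ ξ, n ξ * n ξ = 2 := by exact_mod_cast hsq.symm
    set T : IrrCharacter G := ⟨fun _ => 1, CharInd.irr_one_const⟩
    have hT : n T = 1 := by
      have := hco T
      rw [coef, eη] at this
      have hT1 : classInner (fun x : (stabilizer G a) => (T : G → ℂ) x) (fun _ => 1) = 1 :=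
        Char.classInner_irr_self CharInd.irr_one_const
      rw [hT1] at this
      exact_mod_cast this.symm
    by_cases hPT : P = T
    · refine hPN (Subtype.ext ?_)
      rw [hPT, htriv N (by rw [← h1, hPT])]
    by_cases hNT : N = T
    · refine hPN (Subtype.ext ?_)
      rw [hNT, htriv P (by rw [h1, hNT])]
    have := Finset.sum_le_sum_of_subset_of_nonneg (Finset.subset_univ ({P, N, T} : Finset _))
      (f := fun ξ => n ξ * n ξ) fun x _ _ => mul_self_nonneg _
    rw [Finset.sum_insert (by simp [hPN, hPT]), Finset.sum_pair hNT, hsum, ← hnn, hT] at this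
    omega

/-- The weight of a class function on the elements without fixed points. -/
noncomputable def fpfMass (Ω : Type v) [MulAction G Ω] [Fintype G] (P : G → ℂ) : ℝ :=
  (∑ g ∈ Finset.univ.filter (fun g : G => ∀ c : Ω, g • c ≠ c), Complex.normSq (P g)) / Nat.card G

theorem fpfMass_nonneg [Fintype G] (P : G → ℂ) : 0 ≤ fpfMass Ω P :=
  div_nonneg (Finset.sum_nonneg fun _ _ => Complex.normSq_nonneg _) (Nat.cast_nonneg _)

/-- The data of a character whose restriction only involves exceptional characters. -/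
theorem Setup.restrict_data (h : Setup G a t U) [Fintype G] [Fintype (stabilizer G a)]
    (P : IrrCharacter G) (x : IrrCharacter (stabilizer G a) → ℤ)
    (θ : IrrCharacter (stabilizer G a) → ℕ)
    (hx : ∀ η, coef (P : G → ℂ) η = x η) (hP : ∀ η, KTriv (Ker a U) η → x η = 0)
    (hθ : ∀ η, ¬ KTriv (Ker a U) η →
      (η : stabilizer G a → ℂ) 1 = (θ η : ℂ) * ((q G a : ℂ) - 1)) :
    ∃ L : ℕ, 0 < L ∧ (P : G → ℂ) 1 = (L : ℂ) * ((q G a : ℂ) - 1) ∧
      (L : ℤ) = ∑ η ∈ Finset.univ.filter (fun η => ¬ KTriv (Ker a U) η), x η * (θ η : ℤ) ∧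
      fpfMass Ω (P : G → ℂ) =
        1 - ∑ η ∈ Finset.univ.filter (fun η => ¬ KTriv (Ker a U) η), ((x η : ℝ)) ^ 2 +
          (L : ℝ) ^ 2 * ((q G a : ℝ) - 1) / ((Nat.card U : ℝ) + 1) := by
  haveI := h.ker_normal
  have hRc : IsClassFunction (stabilizer G a) (fun z : stabilizer G a => (P : G → ℂ) z) :=
    fun g k => Char.irr_isClassFunction P.2 (g : G) (k : G)
  set E := Finset.univ.filter (fun η => ¬ KTriv (Ker a U) η) with hE
  have hexp : ∀ z : stabilizer G a, (P : G → ℂ) z =
      ∑ η ∈ E, (x η : ℂ) * (η : stabilizer G a → ℂ) z := by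
    intro z
    have e := congrFun (Char.eq_sum_classInner_smul hRc) z
    simp only [Finset.sum_apply, Pi.smul_apply, smul_eq_mul] at e
    rw [e, hE, Finset.sum_filter_of_ne (s := Finset.univ) (p := fun η => ¬ KTriv (Ker a U) η)
      (f := fun η => (x η : ℂ) * (η : stabilizer G a → ℂ) z)
      fun η _ hne hK => hne (by rw [hP η hK]; simp)]
    exact Finset.sum_congr rfl fun η _ => by rw [← hx η]; rfl
  have hoff : ∀ z : stabilizer G a, (z : G) ∉ U → (P : G → ℂ) z = 0 := fun z hz => by
    rw [hexp]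
    refine Finset.sum_eq_zero fun η hη => ?_
    rw [eq_zero_of_notMem (Ker a U) h.ker_cent (Finset.mem_filter.1 hη).2 (x := z) hz, mul_zero]
  have hq1 : (q G a : ℂ) - 1 ≠ 0 := by
    rw [sub_ne_zero]
    have := h.two_le_q
    exact_mod_cast (show q G a ≠ 1 by omega)
  obtain ⟨m, hm0, hm⟩ := Char.irr_one_pos P.2
  have hP1 : (P : G → ℂ) 1 = ((∑ η ∈ E, x η * (θ η : ℤ) : ℤ) : ℂ) * ((q G a : ℂ) - 1) := by
    rw [Int.cast_sum, Finset.sum_mul]
    refine (hexp 1).trans (Finset.sum_congr rfl fun η hη => ?_)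
    rw [hθ η (Finset.mem_filter.1 hη).2]
    push_cast; ring
  have hLpos : 0 < ∑ η ∈ E, x η * (θ η : ℤ) := by
    rw [hm] at hP1
    have e : (m : ℤ) = (∑ η ∈ E, x η * (θ η : ℤ)) * ((q G a : ℤ) - 1) := by exact_mod_cast hP1
    have := h.two_le_q
    nlinarith
  obtain ⟨L, hL⟩ : ∃ L : ℕ, (L : ℤ) = ∑ η ∈ E, x η * (θ η : ℤ) :=
    ⟨(∑ η ∈ E, x η * (θ η : ℤ)).toNat, Int.toNat_of_nonneg hLpos.le⟩
  have hP1' : (P : G → ℂ) 1 = (L : ℂ) * ((q G a : ℂ) - 1) := by
    rw [hP1, ← hL, Int.cast_natCast]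
  refine ⟨L, by omega, hP1', hL, ?_⟩
  -- norms
  have hB : (∑ z : stabilizer G a, Complex.normSq ((P : G → ℂ) z)) =
      (Nat.card (stabilizer G a) : ℝ) * ∑ η ∈ E, (x η : ℝ) ^ 2 := by
    have e := CharInd.classInner_congr_card (φ := fun z : stabilizer G a => (P : G → ℂ) z)
      (ψ := fun z : stabilizer G a => (P : G → ℂ) z)
    rw [Char.classInner_eq_sum_mul_conj hRc] at e
    simp only [Complex.mul_conj, ← Complex.ofReal_sum] at e
    have e2 := congrArg Complex.re e
    simp only [Complex.mul_re, Complex.natCast_re, Complex.natCast_im, zero_mul, sub_zero,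
      Complex.ofReal_re] at e2
    rw [← e2, hE, Finset.sum_filter_of_ne (s := Finset.univ) (p := fun η => ¬ KTriv (Ker a U) η) (f := fun η => (x η : ℝ) ^ 2)
      fun η _ hne hK => hne (by rw [hP η hK]; simp)]
    congr 1
    refine Finset.sum_congr rfl fun η _ => ?_
    rw [show classInner (fun z : stabilizer G a => (P : G → ℂ) z) (η : stabilizer G a → ℂ) =
      (x η : ℂ) from hx η, Complex.normSq_intCast, sq]
  set f : G → ℝ := fun g => Complex.normSq ((P : G → ℂ) g) with hf
  have hfc : ∀ g z : G, f (g * z * g⁻¹) = f z := fun g z => by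
    simp only [hf, Char.irr_isClassFunction P.2 z g]
  have hfD : ∑ d ∈ Finset.univ.filter (fun d => d ∈ D a t ∧ d ≠ 1), f d = 0 :=
    Finset.sum_eq_zero fun d hd => by
      obtain ⟨-, hd, hd1⟩ := Finset.mem_filter.1 hd
      simp only [hf, hoff ⟨d, hd.1⟩ (fun e => hd1 (h.mem_U_D hd e)), map_zero]
  have h1 := h.sum_stab f fun g _ z _ => hfc g z
  rw [hfD, smul_zero, add_zero, Finset.sum_subtype (Finset.univ.filter fun z : G => z • a = a)
    (p := fun z => z ∈ stabilizer G a) (fun z => by simp), hB] at h1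
  have h2 := h.sum_fix f hfc
  rw [hfD, smul_zero, add_zero, nsmul_eq_mul, nsmul_eq_mul, nsmul_eq_mul] at h2
  have hG : ∑ g : G, f g = (Nat.card G : ℝ) := by
    have e := CharInd.classInner_congr_card (φ := (P : G → ℂ)) (ψ := (P : G → ℂ))
    simp only [Char.classInner_irr_self P.2, mul_one, Complex.mul_conj, ← Complex.ofReal_sum] at e
    simpa using (congrArg Complex.re e).symm
  rw [← Finset.sum_filter_add_sum_filter_not Finset.univ (fun g : G => ∀ c : Ω, g • c ≠ c),
    show (Finset.univ.filter fun x : G => ¬ ∀ c : Ω, x • c ≠ c) =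
    Finset.univ.filter (fun x : G => ∃ c : Ω, x • c = c) from
      Finset.filter_congr fun x _ => by push Not; rfl] at hG
  rw [show (Finset.univ.filter fun u : G => u ∈ U) =
    insert 1 (Finset.univ.filter fun u : G => u ∈ U ∧ u ≠ 1) by
      ext u; by_cases e : u = 1 <;> simp [e, one_mem],
    Finset.sum_insert (by simp)] at h1
  have hf1 : f 1 = (L : ℝ) ^ 2 * ((q G a : ℝ) - 1) ^ 2 := by
    simp only [hf, hP1']
    rw [show ((L : ℂ) * ((q G a : ℂ) - 1)) = (((L : ℝ) * ((q G a : ℝ) - 1) : ℝ) : ℂ) by push_cast; rfl,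
      Complex.normSq_ofReal]
    ring
  have hcB : (Nat.card (stabilizer G a) : ℝ) = (Nat.card U : ℝ) * ((q G a : ℝ) - 1) := by
    rw [h.card_stab, Nat.cast_mul, Nat.cast_sub (by have := h.two_le_q; omega), Nat.cast_one]
  have hcG : (Nat.card G : ℝ) = (Nat.card U : ℝ) * ((q G a : ℝ) - 1) * ((Nat.card U : ℝ) + 1) := by
    rw [h.card_G, Nat.cast_mul, Nat.cast_mul, Nat.cast_sub (by have := h.two_le_q; omega)]
    push_cast; ring
  push_cast at h2
  have hfpf : fpfMass Ω (P : G → ℂ) * (Nat.card G : ℝ) =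
      ∑ g ∈ Finset.univ.filter (fun g : G => ∀ c : Ω, g • c ≠ c), f g :=
    div_mul_cancel₀ _ (Nat.cast_ne_zero.2 Nat.card_pos.ne')
  have hG0 : (Nat.card G : ℝ) ≠ 0 := Nat.cast_ne_zero.2 Nat.card_pos.ne'
  refine mul_right_cancel₀ hG0 (hfpf.trans ?_)
  rw [hcB] at h1
  rw [hcG] at hG ⊢
  have hU1 : ((Nat.card U : ℝ) + 1) ≠ 0 := by positivity
  field_simp
  linear_combination hG - (1 / 2 : ℝ) * h2 + ((Nat.card U : ℝ) + 1) * h1 +
    (Nat.card U : ℝ) * hf1

theorem round_consec (r : ℝ) (j : ℤ) :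
    1 - 2 * |r - round r| + 2 * (r - round r) ^ 2 ≤ ((j : ℝ) + 1 - r) ^ 2 + ((j : ℝ) - r) ^ 2 := by
  set m := round r with hm
  have hle : |r - m| ≤ 1 / 2 := abs_sub_round r
  set ρ := r - (m : ℝ) with hρ
  obtain ⟨k, hk⟩ : ∃ k : ℤ, k = j - m := ⟨_, rfl⟩
  have hjk : (j : ℝ) - r = (k : ℝ) - ρ := by rw [hk, hρ]; push_cast; ring
  rw [show (j : ℝ) + 1 - r = ((k : ℝ) - ρ) + 1 by rw [← hjk]; ring, hjk]
  obtain ⟨h1, h2⟩ := abs_le.1 hle
  have h3 := le_abs_self ρ
  have h4 := neg_le_abs ρ
  rcases (show k ≤ -2 ∨ k = -1 ∨ k = 0 ∨ 1 ≤ k by omega) with hk' | rfl | rfl | hk'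
  · have : (k : ℝ) ≤ -2 := by exact_mod_cast hk'
    nlinarith [abs_nonneg ρ, sq_abs ρ]
  · push_cast; nlinarith
  · push_cast; nlinarith
  · have : (1 : ℝ) ≤ (k : ℝ) := by exact_mod_cast hk'
    nlinarith [abs_nonneg ρ, sq_abs ρ]

theorem round_sq_le (r : ℝ) (j : ℤ) : (r - round r) ^ 2 ≤ ((j : ℝ) - r) ^ 2 := by
  rw [show ((j : ℝ) - r) ^ 2 = (r - j) ^ 2 by ring]
  exact sq_le_sq.2 (round_le r j)

/-- The basic inequality for an exceptional pair. -/
theorem Setup.pair_ineq (h : Setup G a t U) [Fintype G] [Fintype (stabilizer G a)]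
    {ζ ζ' : IrrCharacter (stabilizer G a)} (hne : ζ ≠ ζ')
    (P N : IrrCharacter G) (x : IrrCharacter (stabilizer G a) → ℤ)
    (θ : IrrCharacter (stabilizer G a) → ℕ)
    (hx : ∀ η, coef (P : G → ℂ) η = x η)
    (hN : (P : G → ℂ) 1 = (N : G → ℂ) 1)
    (hNm : ∀ g : G, (∀ c : Ω, g • c ≠ c) → (P : G → ℂ) g = (N : G → ℂ) g)
    (h0 : ∀ η, KTriv (Ker a U) η → coef (P : G → ℂ) η = 0 ∧ coef (N : G → ℂ) η = 0)
    (hd : ∀ η, coef (P : G → ℂ) η - coef (N : G → ℂ) η =
        (if η = ζ then 1 else 0) - if η = ζ' then 1 else 0)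
    (hθ : ∀ η, ¬ KTriv (Ker a U) η →
      (η : stabilizer G a → ℂ) 1 = (θ η : ℂ) * ((q G a : ℂ) - 1))
    (S T : Finset (IrrCharacter (stabilizer G a))) (s : ℕ)
    (hS : ∀ η ∈ S, ¬ KTriv (Ker a U) η ∧ θ η = s) (hT : ∀ η ∈ T, ¬ KTriv (Ker a U) η)
    (hST : Disjoint S T) (hζS : ζ ∈ S) (hζ'S : ζ' ∈ S) :
    ∃ L : ℕ, 0 < L ∧ (P : G → ℂ) 1 = (L : ℂ) * ((q G a : ℂ) - 1) ∧
      let c : ℝ := (L : ℝ) * ((q G a : ℝ) - 1) / ((Nat.card U : ℝ) - 1)
      fpfMass Ω (P : G → ℂ) +
          2 * (L : ℝ) ^ 2 * ((q G a : ℝ) - 1) / ((Nat.card U : ℝ) ^ 2 - 1) +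
          (S.card : ℝ) * (c * s - round (c * s)) ^ 2 +
          ∑ η ∈ T, (c * θ η - round (c * θ η)) ^ 2 ≤ 2 * |c * s - round (c * s)| := by
  haveI := h.ker_normal
  have hP0 : ∀ η, KTriv (Ker a U) η → x η = 0 := fun η hη => by
    have := (h0 η hη).1; rw [hx] at this; exact_mod_cast this
  choose y hy using fun η => exists_int_coef (a := a) N η
  have hN0 : ∀ η, KTriv (Ker a U) η → y η = 0 := fun η hη => by
    have := (h0 η hη).2; rw [hy] at this; exact_mod_cast this
  obtain ⟨L, hL0, hL1, hLs, hmass⟩ := h.restrict_data P x θ hx hP0 hθ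
  obtain ⟨L', -, hL1', hLs', hmass'⟩ := h.restrict_data N y θ hy hN0 hθ
  have hq1 : (q G a : ℂ) - 1 ≠ 0 := by
    rw [sub_ne_zero]; have := h.two_le_q; exact_mod_cast (show q G a ≠ 1 by omega)
  obtain rfl : L = L' := by
    exact_mod_cast mul_right_cancel₀ hq1 (hL1.symm.trans (hN.trans hL1'))
  have hmeq : fpfMass Ω (N : G → ℂ) = fpfMass Ω (P : G → ℂ) := by
    unfold fpfMass
    congr 1
    exact Finset.sum_congr rfl fun g hg => by rw [hNm g (Finset.mem_filter.1 hg).2]
  set E := Finset.univ.filter (fun η => ¬ KTriv (Ker a U) η) with hE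
  have hyx : ∀ η, (y η : ℝ) = (x η : ℝ) - ((if η = ζ then 1 else 0) - if η = ζ' then 1 else 0) := by
    intro η
    have := hd η
    rw [hx, hy] at this
    have e : x η - y η = (if η = ζ then 1 else 0) - if η = ζ' then 1 else 0 := by
      apply Int.cast_injective (α := ℂ)
      push_cast; exact this
    have e' : (x η : ℝ) - y η = (if η = ζ then 1 else 0) - if η = ζ' then 1 else 0 := by
      exact_mod_cast e
    linarith
  refine ⟨L, hL0, hL1, ?_⟩
  intro c
  have hN0' : ∑ η ∈ E, (θ η : ℝ) ^ 2 = ((Nat.card U : ℝ) - 1) / ((q G a : ℝ) - 1) := by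
    have e := sum_not_kTriv_mul (Ker a U) (1 : stabilizer G a)
    rw [if_pos rfl, if_pos (one_mem _), Finset.sum_congr rfl (g := fun η => (θ η : ℂ) ^ 2 *
      ((q G a : ℂ) - 1) ^ 2) fun η hη => by rw [hθ η (Finset.mem_filter.1 hη).2]; ring,
      h.card_stab, Nat.cast_mul, Nat.cast_sub (by have := h.two_le_q; omega), Nat.cast_one,
      show ((Ker a U).index : ℂ) = (q G a : ℂ) - 1 by rw [← h.ker_index]; push_cast; ring,
      ← Finset.sum_mul] at e
    have e' : (∑ η ∈ E, (θ η : ℂ) ^ 2) * ((q G a : ℂ) - 1) = (Nat.card U : ℂ) - 1 := by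
      refine mul_right_cancel₀ hq1 ?_
      linear_combination e
    have hq1' : (q G a : ℝ) - 1 ≠ 0 := by
      rw [sub_ne_zero]; have := h.two_le_q; exact_mod_cast (show q G a ≠ 1 by omega)
    rw [eq_div_iff hq1']
    have := congrArg Complex.re e'
    simp only [← Nat.cast_pow, ← Nat.cast_sum, Complex.mul_re, Complex.natCast_re,
      Complex.natCast_im, zero_mul, sub_zero, Complex.sub_re, Complex.one_re] at this
    push_cast at this
    exact this
  set z : IrrCharacter (stabilizer G a) → ℝ := fun η => (x η : ℝ) - c * θ η with hz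
  have hζE : ζ ∈ E := Finset.mem_filter.2 ⟨Finset.mem_univ _, (hS ζ hζS).1⟩
  have hζ'E : ζ' ∈ E := Finset.mem_filter.2 ⟨Finset.mem_univ _, (hS ζ' hζ'S).1⟩
  have hsumN : ∑ η ∈ E, (y η : ℝ) ^ 2 =
      ∑ η ∈ E, (x η : ℝ) ^ 2 - 2 * (x ζ : ℝ) + 2 * (x ζ' : ℝ) + 2 := by
    simp only [hyx]
    rw [Finset.sum_congr rfl (g := fun η => (x η : ℝ) ^ 2 +
      ((if η = ζ then 1 - 2 * (x η : ℝ) else 0) + if η = ζ' then 1 + 2 * (x η : ℝ) else 0))
      fun η _ => by
        split_ifs with e1 e2 e3
        · exact absurd (e1.symm.trans e2) hne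
        all_goals ring]
    rw [Finset.sum_add_distrib, Finset.sum_add_distrib, Finset.sum_ite_eq' E ζ,
      Finset.sum_ite_eq' E ζ', if_pos hζE, if_pos hζ'E]
    ring
  have hxz : (x ζ : ℝ) = (x ζ' : ℝ) + 1 := by
    rw [hmeq, hmass, hsumN] at hmass'
    linarith
  have hLr : (L : ℝ) = ∑ η ∈ E, (x η : ℝ) * θ η := by exact_mod_cast hLs
  have hzsum : ∑ η ∈ E, z η ^ 2 =
      ∑ η ∈ E, (x η : ℝ) ^ 2 - 2 * c * L + c ^ 2 * (((Nat.card U : ℝ) - 1) / ((q G a : ℝ) - 1)) := by
    rw [← hN0', hLr, Finset.mul_sum, Finset.mul_sum, ← Finset.sum_sub_distrib,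
      ← Finset.sum_add_distrib]
    exact Finset.sum_congr rfl fun η _ => by simp only [hz]; ring
  have hU1 : (1 : ℝ) < Nat.card U := by
    have := h.q_lt_card; have := h.two_le_q
    exact_mod_cast (show 1 < Nat.card U by omega)
  have hlow : 1 - 2 * |c * s - round (c * s)| + (S.card : ℝ) * (c * s - round (c * s)) ^ 2 +
      ∑ η ∈ T, (c * θ η - round (c * θ η)) ^ 2 ≤ ∑ η ∈ E, z η ^ 2 := by
    have hsub : S ∪ T ⊆ E := by
      intro η hη
      rcases Finset.mem_union.1 hη with e | e
      · exact Finset.mem_filter.2 ⟨Finset.mem_univ _, (hS η e).1⟩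
      · exact Finset.mem_filter.2 ⟨Finset.mem_univ _, hT η e⟩
    refine le_trans ?_ (Finset.sum_le_sum_of_subset_of_nonneg hsub fun η _ _ => sq_nonneg _)
    rw [Finset.sum_union hST]
    refine add_le_add ?_ (Finset.sum_le_sum fun η _ => round_sq_le _ _)
    rw [← Finset.sum_sdiff (show ({ζ, ζ'} : Finset _) ⊆ S by
      intro η hη; rcases Finset.mem_insert.1 hη with rfl | e
      · exact hζS
      · rw [Finset.mem_singleton.1 e]; exact hζ'S), Finset.sum_pair hne]
    have h2 := round_consec (c * s) (x ζ')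
    have hz1 : z ζ = (x ζ' : ℝ) + 1 - c * s := by simp only [hz, (hS ζ hζS).2, hxz]
    have hz2 : z ζ' = (x ζ' : ℝ) - c * s := by simp only [hz, (hS ζ' hζ'S).2]
    have h3 : ((S \ {ζ, ζ'}).card : ℝ) * (c * s - round (c * s)) ^ 2 ≤
        ∑ η ∈ S \ {ζ, ζ'}, z η ^ 2 := by
      rw [← nsmul_eq_mul, ← Finset.sum_const]
      refine Finset.sum_le_sum fun η hη => ?_
      simp only [hz, (hS η (Finset.mem_sdiff.1 hη).1).2]
      exact round_sq_le _ _
    have h4 : ((S \ {ζ, ζ'}).card : ℝ) + 2 = S.card := by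
      have h5 := Finset.card_sdiff_add_card_eq_card (show ({ζ, ζ'} : Finset _) ⊆ S by
        intro η hη; rcases Finset.mem_insert.1 hη with rfl | e
        · exact hζS
        · rw [Finset.mem_singleton.1 e]; exact hζ'S)
      rw [Finset.card_pair hne] at h5
      exact_mod_cast h5
    rw [hz1, hz2, ← h4]
    linarith
  have hq1' : (q G a : ℝ) - 1 ≠ 0 := by
    rw [sub_ne_zero]; have := h.two_le_q; exact_mod_cast (show q G a ≠ 1 by omega)
  have hid : fpfMass Ω (P : G → ℂ) +
      2 * (L : ℝ) ^ 2 * ((q G a : ℝ) - 1) / ((Nat.card U : ℝ) ^ 2 - 1) =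
      1 - ∑ η ∈ E, z η ^ 2 := by
    rw [hmass, hzsum]
    show _ = 1 - (_ - 2 * ((L : ℝ) * ((q G a : ℝ) - 1) / ((Nat.card U : ℝ) - 1)) * L +
      ((L : ℝ) * ((q G a : ℝ) - 1) / ((Nat.card U : ℝ) - 1)) ^ 2 * _)
    have h6 : (Nat.card U : ℝ) - 1 ≠ 0 := by linarith
    have h7 : (Nat.card U : ℝ) + 1 ≠ 0 := by linarith
    rw [show (Nat.card U : ℝ) ^ 2 - 1 = ((Nat.card U : ℝ) - 1) * ((Nat.card U : ℝ) + 1) by ring]
    field_simp
    ring
  rw [hid]
  linarith

end Cfsg.Agent.SuzukiZ
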