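import Cfsg.Agent.SuzukiZ.Basic
import Cfsg.Agent.Char.Real

/-!
# Counting by the number of fixed points in a Zassenhaus group with Suzuki kernel
-/

set_option autoImplicit false
set_option linter.unusedSectionVars false

namespace Cfsg.Agent.SuzukiZ

open Subgroup MulAction RankOne
open scoped Classical

variable {G Ω : Type*} [Group G] [Finite G] [MulAction G Ω] [Finite Ω]
variable {a : Ω} {t : G} {U : Subgroup G}

theorem Setup.exists_to_a (h : Setup G a t U) (p : Ω) : ∃ g : G, g • p = a :=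
  pretransitive h.rankOne p a

theorem Setup.conj_fix {g x : G} {p : Ω} (hx : x • p = p) :
    (g * x * g⁻¹) • (g • p) = g • p := by
  rw [mul_smul, mul_smul, inv_smul_smul, hx]

theorem Setup.fix_conj {g x : G} {p : Ω} (hx : x • g⁻¹ • p = g⁻¹ • p) :
    (g * x * g⁻¹) • p = p := by
  rw [mul_smul, mul_smul, hx, smul_inv_smul]

theorem Setup.fix_conj_inv {g x : G} {p : Ω} (hx : (g * x * g⁻¹) • p = p) :
    x • g⁻¹ • p = g⁻¹ • p := by
  rw [mul_smul, mul_smul, smul_eq_iff_eq_inv_smul] at hx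
  exact hx

/-- An element with at most two fixed points is trivial if it has three. -/
theorem Setup.D_fix_iff (h : Setup G a t U) {d : G} (hd : d ∈ D a t) (hd1 : d ≠ 1) {c : Ω} :
    d • c = c ↔ c = a ∨ c = t • a := by
  refine ⟨fun e => ?_, ?_⟩
  · by_contra hne
    simp only [not_or] at hne
    exact hd1 (h.D_fix hd hne.1 hne.2 e)
  · rintro (rfl | rfl)
    · exact hd.1
    · exact hd.2

theorem Setup.U_fix_iff (h : Setup G a t U) {u : G} (hu : u ∈ U) (hu1 : u ≠ 1) {c : Ω} :
    u • c = c ↔ c = a :=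
  ⟨fun e => by
    by_contra hne
    exact hu1 (h.fix_eq_one hu hne e), fun e => e ▸ Q_fix h.rankOne hu⟩

/-- The elements fixing exactly one point, indexed by the point. -/
theorem Setup.mem_U_iff (h : Setup G a t U) {g : G} (hg1 : g ≠ 1) :
    g ∈ U ↔ ∀ c, (g • c = c ↔ c = a) :=
  ⟨fun hg _ => h.U_fix_iff hg hg1, fun hg =>
    h.mem_U_of_fix ((hg a).2 rfl) fun c hc => (hg c).1 hc⟩

theorem Setup.two_le_q (h : Setup G a t U) : 4 ≤ q G a := by
  obtain ⟨n, hn, e⟩ := h.exists_q_eq
  rw [e]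
  calc 4 = 2 ^ 2 := by norm_num
    _ ≤ 2 ^ n := Nat.pow_le_pow_right (by norm_num) hn

theorem Setup.q_lt_card (h : Setup G a t U) : q G a < Nat.card U := by
  have := h.two_le_q
  rcases h.card_U with e | e <;> rw [e] <;> nlinarith [Nat.le_mul_self (q G a)]

/-- Summing over a point stabiliser. -/
theorem Setup.sum_stab (h : Setup G a t U) [Fintype G] {M : Type*} [AddCommMonoid M] (f : G → M)
    (hf : ∀ g ∈ stabilizer G a, ∀ x ∈ stabilizer G a, f (g * x * g⁻¹) = f x) :
    ∑ x ∈ Finset.univ.filter (fun x => x • a = a), f x =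
      (∑ x ∈ Finset.univ.filter (fun x => x ∈ U), f x) +
        Nat.card U • ∑ d ∈ Finset.univ.filter (fun d => d ∈ D a t ∧ d ≠ 1), f d := by
  rw [← Finset.sum_filter_add_sum_filter_not (Finset.univ.filter (fun x : G => x • a = a))
    (fun x => x ∈ U)]
  congr 1
  · rw [Finset.filter_filter]
    refine Finset.sum_congr (Finset.filter_congr fun x _ => ?_) fun _ _ => rfl
    exact ⟨fun e => e.2, fun e => ⟨Q_fix h.rankOne e, e⟩⟩
  · rw [Finset.filter_filter]
    have hinj : ∀ u ∈ U, ∀ u' ∈ U, ∀ d ∈ D a t, ∀ d' ∈ D a t, d ≠ 1 →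
        u * d * u⁻¹ = u' * d' * u'⁻¹ → u = u' ∧ d = d' := by
      intro u hu u' hu' d hd d' hd' hd1 e
      obtain ⟨-, rfl⟩ := decomp_unique h.rankOne
        (U.mul_mem hu (show d * u⁻¹ * d⁻¹ ∈ U from h.normal d hd.1 _ (U.inv_mem hu)))
        (U.mul_mem hu' (show d' * u'⁻¹ * d'⁻¹ ∈ U from h.normal d' hd'.1 _ (U.inv_mem hu')))
        hd hd' (by
          calc u * (d * u⁻¹ * d⁻¹) * d = u * d * u⁻¹ := by group
            _ = u' * d' * u'⁻¹ := e
            _ = u' * (d' * u'⁻¹ * d'⁻¹) * d' := by group)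
      refine ⟨?_, rfl⟩
      refine (inv_mul_eq_one.1 (h.D_fpf hd hd1 (U.mul_mem (U.inv_mem hu') hu) ?_)).symm
      calc d * (u'⁻¹ * u) = u'⁻¹ * (u' * d * u'⁻¹) * u := by group
        _ = _ := by rw [← e]; group
    rw [show ∑ x ∈ Finset.univ.filter (fun x => x • a = a ∧ ¬ x ∈ U), f x =
        ∑ p ∈ (Finset.univ.filter (fun u : G => u ∈ U)) ×ˢ
          (Finset.univ.filter (fun d => d ∈ D a t ∧ d ≠ 1)), f (p.1 * p.2 * p.1⁻¹) from ?_]
    · rw [Finset.sum_product]
      rw [Finset.sum_congr rfl (fun u hu => Finset.sum_congr rfl (fun d hd =>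
        hf u (h.le (Finset.mem_filter.1 hu).2) d (Finset.mem_filter.1 hd).2.1.1))]
      rw [Finset.sum_const, Nat.card_eq_fintype_card, Fintype.card_subtype]
    symm
    refine Finset.sum_bij (fun p _ => p.1 * p.2 * p.1⁻¹) ?_ ?_ ?_ fun _ _ => rfl
    · rintro ⟨u, d⟩ hp
      simp only [Finset.mem_product, Finset.mem_filter, Finset.mem_univ, true_and] at hp ⊢
      refine ⟨(stabilizer G a).mul_mem ((stabilizer G a).mul_mem (h.le hp.1) hp.2.1.1)
        ((stabilizer G a).inv_mem (h.le hp.1)), fun e => hp.2.2 ?_⟩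
      have hdU : d ∈ U := by
        have := U.mul_mem (U.mul_mem (U.inv_mem hp.1) e) hp.1
        simpa [mul_assoc] using this
      exact h.fix_eq_one hdU h.tmov hp.2.1.2
    · rintro ⟨u, d⟩ hp ⟨u', d'⟩ hp' e
      simp only [Finset.mem_product, Finset.mem_filter, Finset.mem_univ, true_and] at hp hp'
      obtain ⟨rfl, rfl⟩ := hinj u hp.1 u' hp'.1 d hp.2.1 d' hp'.2.1 hp.2.2 e
      rfl
    · intro x hx
      simp only [Finset.mem_filter, Finset.mem_univ, true_and] at hx
      rcases h.stab_cases hx.1 with hU | ⟨u, hu, d, hd, hd1, rfl⟩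
      · exact absurd hU hx.2
      · exact ⟨(u, d), Finset.mem_product.2 ⟨Finset.mem_filter.2 ⟨Finset.mem_univ _, hu⟩,
          Finset.mem_filter.2 ⟨Finset.mem_univ _, hd, hd1⟩⟩, rfl⟩

/-- Twice a sum over the elements with a fixed point. -/
theorem Setup.sum_fix (h : Setup G a t U) [Fintype G] {M : Type*} [AddCommMonoid M] (f : G → M)
    (hf : ∀ g x : G, f (g * x * g⁻¹) = f x) :
    2 • ∑ x ∈ Finset.univ.filter (fun x => ∃ c : Ω, x • c = c), f x =
      2 • f 1 + ((2 * (Nat.card U + 1)) •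
          ∑ u ∈ Finset.univ.filter (fun u => u ∈ U ∧ u ≠ 1), f u) +
        ((Nat.card U + 1) * Nat.card U) •
          ∑ d ∈ Finset.univ.filter (fun d => d ∈ D a t ∧ d ≠ 1), f d := by
  set X1 := Finset.univ.filter (fun x : G => ∃ c : Ω, ∀ e, (x • e = e ↔ e = c)) with hX1
  set X2 := Finset.univ.filter (fun x : G => x ≠ 1 ∧
    ∃ c c' : Ω, c ≠ c' ∧ x • c = c ∧ x • c' = c') with hX2
  choose g hg using h.exists_to_a
  have hsplit : Finset.univ.filter (fun x : G => ∃ c : Ω, x • c = c) = insert 1 (X1 ∪ X2) := by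
    ext x
    simp only [hX1, hX2, Finset.mem_filter, Finset.mem_univ, true_and, Finset.mem_insert,
      Finset.mem_union]
    constructor
    · rintro ⟨c, hc⟩
      by_cases hx1 : x = 1
      · exact Or.inl hx1
      refine Or.inr ?_
      by_cases hu : ∀ e, x • e = e → e = c
      · exact Or.inl ⟨c, fun e => ⟨hu e, fun e' => e' ▸ hc⟩⟩
      · push Not at hu
        obtain ⟨e, he, hne⟩ := hu
        exact Or.inr ⟨hx1, c, e, hne.symm, hc, he⟩
    · rintro (rfl | ⟨c, hc⟩ | ⟨-, c, -, -, hc, -⟩)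
      · exact ⟨a, one_smul _ _⟩
      · exact ⟨c, (hc c).2 rfl⟩
      · exact ⟨c, hc⟩
  have hne : ∀ x ∈ X1, x ≠ 1 := by
    intro x hx e
    simp only [hX1, Finset.mem_filter, Finset.mem_univ, true_and] at hx
    obtain ⟨c, hc⟩ := hx
    subst e
    exact h.tmov (((hc (t • a)).1 (one_smul _ _)).trans ((hc a).1 (one_smul _ _)).symm)
  have hdisj : Disjoint X1 X2 := by
    rw [Finset.disjoint_left]
    intro x hx hx'
    simp only [hX1, Finset.mem_filter, Finset.mem_univ, true_and] at hx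
    simp only [hX2, Finset.mem_filter, Finset.mem_univ, true_and] at hx'
    obtain ⟨c, hc⟩ := hx
    obtain ⟨-, e, e', hee, he, he'⟩ := hx'
    exact hee (((hc e).1 he).trans ((hc e').1 he').symm)
  rw [hsplit, Finset.sum_insert (by
    rw [Finset.mem_union, not_or]
    exact ⟨fun e => hne 1 e rfl, fun e => (Finset.mem_filter.1 e).2.1 rfl⟩),
    Finset.sum_union hdisj, smul_add, smul_add, add_assoc]
  letI := Fintype.ofFinite Ω
  congr 2
  · rw [mul_smul, show Nat.card U + 1 = (Finset.univ : Finset Ω).card by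
      rw [h.card_omega, Nat.card_eq_fintype_card]; rfl]
    congr 1
    symm
    rw [← Finset.sum_const, ← Finset.sum_product']
    refine Finset.sum_bij (fun p _ => (g p.1)⁻¹ * p.2 * g p.1) ?_ ?_ ?_ ?_
    · rintro ⟨c, u⟩ hp
      simp only [Finset.mem_product, Finset.mem_filter, Finset.mem_univ, true_and] at hp
      simp only [hX1, Finset.mem_filter, Finset.mem_univ, true_and]
      refine ⟨c, fun e => ?_⟩
      rw [mul_smul, mul_smul, inv_smul_eq_iff, h.U_fix_iff hp.1 hp.2, ← hg c,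
        smul_left_cancel_iff]
    · rintro ⟨c, u⟩ hp ⟨c', u'⟩ hp' e
      simp only [Finset.mem_product, Finset.mem_filter, Finset.mem_univ, true_and] at hp hp'
      have e1 : ((g c)⁻¹ * u * g c) • c = c := by
        rw [mul_smul, mul_smul, hg, Q_fix h.rankOne hp.1, inv_smul_eq_iff, hg]
      rw [show (g c)⁻¹ * u * g c = (g c')⁻¹ * u' * g c' from e, mul_smul, mul_smul,
        inv_smul_eq_iff, h.U_fix_iff hp'.1 hp'.2, ← hg c', smul_left_cancel_iff] at e1
      subst e1
      exact Prod.ext rfl (mul_left_cancel (mul_right_cancel e))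
    · intro x hx
      have hx1 := hne x hx
      simp only [hX1, Finset.mem_filter, Finset.mem_univ, true_and] at hx
      obtain ⟨c, hc⟩ := hx
      refine ⟨(c, g c * x * (g c)⁻¹), ?_, by group⟩
      simp only [Finset.mem_product, Finset.mem_filter, Finset.mem_univ, true_and]
      refine ⟨(h.mem_U_iff (by simpa using hx1)).2 fun e => ?_, by simpa using hx1⟩
      rw [mul_smul, mul_smul, smul_eq_iff_eq_inv_smul, hc, inv_smul_eq_iff, hg]
    · intro p _
      simpa using (hf (g p.1)⁻¹ p.2).symm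
  · choose k hk1 hk2 using fun p : {p : Ω × Ω // p.1 ≠ p.2} =>
      two_trans h.rankOne p.2 h.tmov.symm
    have hcard : (Nat.card U + 1) * Nat.card U =
        (Finset.univ : Finset {p : Ω × Ω // p.1 ≠ p.2}).card := by
      rw [Finset.card_univ, Fintype.card_subtype,
        show (Finset.univ.filter fun p : Ω × Ω => p.1 ≠ p.2) = Finset.univ.offDiag by
          ext p; simp,
        Finset.offDiag_card, Finset.card_univ, ← Nat.card_eq_fintype_card, ← h.card_omega,
        Nat.mul_add, Nat.mul_one, Nat.add_sub_cancel]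
    rw [hcard, ← Finset.sum_const, ← Finset.sum_product']
    have hmap : ∀ p ∈ (Finset.univ : Finset {p : Ω × Ω // p.1 ≠ p.2}) ×ˢ
        Finset.univ.filter (fun d => d ∈ D a t ∧ d ≠ 1), (k p.1)⁻¹ * p.2 * k p.1 ∈ X2 := by
      rintro ⟨p, d⟩ hp
      simp only [Finset.mem_product, Finset.mem_filter, Finset.mem_univ, true_and] at hp
      simp only [hX2, Finset.mem_filter, Finset.mem_univ, true_and]
      refine ⟨fun e => hp.2 ?_, p.1.1, p.1.2, p.2, ?_, ?_⟩
      · calc d = k p * ((k p)⁻¹ * d * k p) * (k p)⁻¹ := by group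
          _ = 1 := by rw [e]; group
      · rw [mul_smul, mul_smul, hk1, hp.1.1, inv_smul_eq_iff, hk1]
      · rw [mul_smul, mul_smul, hk2, hp.1.2, inv_smul_eq_iff, hk2]
    rw [← Finset.sum_fiberwise_of_maps_to hmap, Finset.smul_sum]
    refine Finset.sum_congr rfl fun x hx => ?_
    simp only [hX2, Finset.mem_filter, Finset.mem_univ, true_and] at hx
    obtain ⟨hx1, c, c', hcc, hc, hc'⟩ := hx
    set F := (Finset.univ ×ˢ Finset.univ.filter (fun d => d ∈ D a t ∧ d ≠ 1)).filter
      (fun p : {p : Ω × Ω // p.1 ≠ p.2} × G => (k p.1)⁻¹ * p.2 * k p.1 = x) with hF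
    rw [Finset.sum_congr rfl (g := fun _ => f x) (fun p hp => ?_), Finset.sum_const]
    swap
    · rw [← (Finset.mem_filter.1 hp).2]
      simpa using (hf (k p.1)⁻¹ p.2).symm
    congr 1
    have hmem : ∀ (p : {p : Ω × Ω // p.1 ≠ p.2}), x • p.1.1 = p.1.1 → x • p.1.2 = p.1.2 →
        (p, k p * x * (k p)⁻¹) ∈ F := by
      intro p h1 h2
      simp only [hF, Finset.mem_filter, Finset.mem_product, Finset.mem_univ, true_and]
      refine ⟨⟨⟨?_, ?_⟩, by simpa using hx1⟩, by group⟩
      · have := Setup.conj_fix (g := k p) h1; rwa [hk1] at this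
      · have := Setup.conj_fix (g := k p) h2; rwa [hk2] at this
    have hd' : k ⟨(c, c'), hcc⟩ * x * (k ⟨(c, c'), hcc⟩)⁻¹ ∈ D a t :=
      (Finset.mem_product.1 (Finset.mem_filter.1 (hmem ⟨(c, c'), hcc⟩ hc hc')).1).2 |>
        Finset.mem_filter.1 |>.2.1
    have hxfix : ∀ e, x • e = e → e = c ∨ e = c' := by
      intro e he
      set K := k ⟨(c, c'), hcc⟩ with hK
      have hKc : K • c = a := hk1 ⟨(c, c'), hcc⟩
      have hKc' : K • c' = t • a := hk2 ⟨(c, c'), hcc⟩
      have h1 := Setup.conj_fix (g := K) he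
      rcases (h.D_fix_iff hd' (by simpa using hx1)).1 h1 with e1 | e1
      · exact Or.inl (smul_left_cancel K (e1.trans hKc.symm))
      · exact Or.inr (smul_left_cancel K (e1.trans hKc'.symm))
    rw [show F = {((⟨(c, c'), hcc⟩ : {p : Ω × Ω // p.1 ≠ p.2}), k ⟨(c, c'), hcc⟩ * x * (k ⟨(c, c'), hcc⟩)⁻¹),
        ((⟨(c', c), hcc.symm⟩ : {p : Ω × Ω // p.1 ≠ p.2}), k ⟨(c', c), hcc.symm⟩ * x * (k ⟨(c', c), hcc.symm⟩)⁻¹)} from ?_,
      Finset.card_pair (fun e => hcc (congrArg (fun p : {p : Ω × Ω // p.1 ≠ p.2} × G => p.1.1.1) e))]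
    ext ⟨p, d⟩
    constructor
    · intro hp
      simp only [hF, Finset.mem_filter, Finset.mem_product, Finset.mem_univ, true_and] at hp
      have hd : d = k p * x * (k p)⁻¹ := by rw [← hp.2]; group
      have h1 : x • p.1.1 = p.1.1 := by
        rw [← hp.2, mul_smul, mul_smul, hk1, hp.1.1.1, inv_smul_eq_iff, hk1]
      have h2 : x • p.1.2 = p.1.2 := by
        rw [← hp.2, mul_smul, mul_smul, hk2, hp.1.1.2, inv_smul_eq_iff, hk2]
      subst hd
      obtain ⟨⟨e, e'⟩, hee⟩ := p
      have hee' : e ≠ e' := hee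
      simp only [Finset.mem_insert, Finset.mem_singleton]
      rcases hxfix e h1 with rfl | rfl <;> rcases hxfix e' h2 with rfl | rfl
      · exact absurd rfl hee'
      · exact Or.inl rfl
      · exact Or.inr rfl
      · exact absurd rfl hee'
    · intro hp
      simp only [Finset.mem_insert, Finset.mem_singleton] at hp
      rcases hp with hp | hp <;> rw [hp]
      · exact hmem _ hc hc'
      · exact hmem _ hc' hc

theorem Setup.card_fpf (h : Setup G a t U) [Fintype G] :
    (2 * (Finset.univ.filter (fun x : G => ∀ c : Ω, x • c ≠ c)).card : ℤ) =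
      Nat.card U * ((Nat.card U + 1) * q G a - 2 * Nat.card U) := by
  have h1 := h.sum_fix (M := ℤ) (fun _ : G => (1 : ℤ)) fun _ _ => rfl
  simp only [Finset.sum_const, smul_eq_mul, nsmul_eq_mul, mul_one] at h1
  have h2 := Finset.card_filter_add_card_filter_not (s := (Finset.univ : Finset G))
    (fun x : G => ∀ c : Ω, x • c ≠ c)
  rw [show (Finset.univ.filter fun x : G => ¬ ∀ c : Ω, x • c ≠ c) =
    Finset.univ.filter (fun x : G => ∃ c : Ω, x • c = c) from
      Finset.filter_congr fun x _ => by push Not; rfl,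
    Finset.card_univ, ← Nat.card_eq_fintype_card, h.card_G] at h2
  have hU : (Finset.univ.filter (fun u : G => u ∈ U ∧ u ≠ 1)).card + 1 = Nat.card U := by
    rw [Nat.card_eq_fintype_card, Fintype.card_subtype,
      show (Finset.univ.filter fun u : G => u ∈ U ∧ u ≠ 1) =
        (Finset.univ.filter fun u : G => u ∈ U).erase 1 by ext x; simp [and_comm],
      Finset.card_erase_add_one (by simp)]
  have hD : (Finset.univ.filter (fun u : G => u ∈ D a t ∧ u ≠ 1)).card + 2 = q G a := by
    rw [← h.card_D_eq, Nat.card_eq_fintype_card, Fintype.card_subtype,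
      show (Finset.univ.filter fun u : G => u ∈ D a t ∧ u ≠ 1) =
        (Finset.univ.filter fun u : G => u ∈ D a t).erase 1 by ext x; simp [and_comm]]
    have := Finset.card_erase_add_one (s := Finset.univ.filter fun u : G => u ∈ D a t) (a := 1)
      (by simp [one_mem])
    omega
  have hq : (((q G a - 1 : ℕ)) : ℤ) = (q G a : ℤ) - 1 := by
    have := h.two_le_q
    omega
  set A := (Finset.univ.filter (fun u : G => u ∈ U ∧ u ≠ 1)).card
  set B := (Finset.univ.filter (fun u : G => u ∈ D a t ∧ u ≠ 1)).card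
  set C := (Finset.univ.filter (fun x : G => ∃ c : Ω, x • c = c)).card
  zify at h2 hU hD
  push_cast at h1 h2 ⊢
  rw [hq] at h2
  linear_combination 2 * h2 - h1 - 2 * ((Nat.card U : ℤ) + 1) * hU -
    ((Nat.card U : ℤ) + 1) * (Nat.card U : ℤ) * hD

end Cfsg.Agent.SuzukiZ
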