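import Cfsg.Agent.SuzukiZ.Count

/-!
# Strongly real elements of a Zassenhaus group with Suzuki kernel
-/

set_option autoImplicit false
set_option linter.unusedSectionVars false

namespace Cfsg.Agent.SuzukiZ

open Subgroup MulAction RankOne

variable {G Ω : Type*} [Group G] [Finite G] [MulAction G Ω] [Finite Ω]
variable {a : Ω} {t : G} {U : Subgroup G}

/-- A non-involution inverted by an involution. -/
def SR (x : G) : Prop := x * x ≠ 1 ∧ ∃ u : G, u ≠ 1 ∧ u * u = 1 ∧ u * x * u = x⁻¹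

theorem SR.ne_one {x : G} (hx : SR x) : x ≠ 1 := fun e => hx.1 (by rw [e, one_mul])

theorem mem_cent {x y : G} : y ∈ centralizer ({x} : Set G) ↔ y * x = x * y :=
  Subgroup.mem_centralizer_singleton_iff

theorem mem_cent_self (x : G) : x ∈ centralizer ({x} : Set G) := mem_cent.2 rfl

theorem mem_cent_conj {g x y : G} :
    y ∈ centralizer ({g * x * g⁻¹} : Set G) ↔ g⁻¹ * y * g ∈ centralizer ({x} : Set G) := by
  rw [mem_cent, mem_cent]
  constructor
  · intro e
    calc g⁻¹ * y * g * x = g⁻¹ * (y * (g * x * g⁻¹)) * g := by group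
      _ = _ := by rw [e]; group
  · intro e
    calc y * (g * x * g⁻¹) = g * (g⁻¹ * y * g * x) * g⁻¹ := by group
      _ = _ := by rw [e]; group

theorem SR.conj {x : G} (hx : SR x) (g : G) : SR (g * x * g⁻¹) := by
  obtain ⟨hx2, u, hu1, hu, hi⟩ := hx
  refine ⟨fun e => hx2 ?_, g * u * g⁻¹, by simpa using hu1, ?_, ?_⟩
  · calc x * x = g⁻¹ * (g * x * g⁻¹ * (g * x * g⁻¹)) * g := by group
      _ = 1 := by rw [e]; group
  · calc g * u * g⁻¹ * (g * u * g⁻¹) = g * (u * u) * g⁻¹ := by group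
      _ = 1 := by rw [hu]; group
  · calc g * u * g⁻¹ * (g * x * g⁻¹) * (g * u * g⁻¹) = g * (u * x * u) * g⁻¹ := by group
      _ = _ := by rw [hi]; group

theorem sr_conj_iff {g x : G} : SR (g * x * g⁻¹) ↔ SR x :=
  ⟨fun e => by simpa [mul_assoc] using e.conj g⁻¹, fun e => e.conj g⟩

/-- An involution acting without fixed points on a subgroup inverts it. -/
theorem invert_of_fpf {A : Subgroup G} {v : G} (hv : v * v = 1)
    (hA : ∀ y ∈ A, v * y * v ∈ A) (hf : ∀ y ∈ A, v * y * v = y → y = 1) :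
    ∀ y ∈ A, v * y * v = y⁻¹ := by
  let φ : A → A := fun y => ⟨(y : G)⁻¹ * (v * y * v), A.mul_mem (A.inv_mem y.2) (hA y y.2)⟩
  have hinj : Function.Injective φ := by
    intro y z e
    have e' : (y : G)⁻¹ * (v * y * v) = (z : G)⁻¹ * (v * z * v) := congrArg Subtype.val e
    have h1 := hf ((y : G) * (z : G)⁻¹) (A.mul_mem y.2 (A.inv_mem z.2)) (by
      calc v * ((y : G) * (z : G)⁻¹) * v = (v * y * v) * (v * z * v)⁻¹ := by
            rw [mul_inv_rev, mul_inv_rev, inv_eq_self_of_sq hv]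
            simp only [mul_assoc]
            rw [← mul_assoc v v, hv, one_mul]
        _ = (y : G) * ((y : G)⁻¹ * (v * y * v)) * (v * z * v)⁻¹ := by group
        _ = _ := by rw [e']; group)
    exact Subtype.ext (mul_inv_eq_one.1 h1)
  intro y hy
  obtain ⟨z, hz⟩ := Finite.injective_iff_surjective.1 hinj ⟨y, hy⟩
  have hz' : (z : G)⁻¹ * (v * z * v) = y := congrArg Subtype.val hz
  rw [← hz', mul_inv_rev, inv_inv]
  calc v * ((z : G)⁻¹ * (v * z * v)) * v = (v * (z : G)⁻¹ * v) * z * (v * v) := by group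
    _ = _ := by rw [hv, mul_one, ← conj_inv hv]

theorem Setup.sr_of_mul (h : Setup G a t U) {u v : G} (hu1 : u ≠ 1) (hu : u * u = 1)
    (hv : v * v = 1) (hx : u * v * (u * v) ≠ 1) : SR (u * v) :=
  ⟨hx, u, hu1, hu, by
    rw [mul_inv_rev, inv_eq_self_of_sq hu, inv_eq_self_of_sq hv, ← mul_assoc, hu, one_mul]⟩

theorem Setup.inverting_sq (h : Setup G a t U) {x u : G} (hu : u * u = 1)
    (hi : u * x * u = x⁻¹) : u * x * (u * x) = 1 := by
  rw [← mul_assoc, hi, inv_mul_cancel]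

theorem Setup.sr_partner (h : Setup G a t U) {x : G} (hx : SR x) :
    ∃ u v : G, u ≠ 1 ∧ u * u = 1 ∧ v ≠ 1 ∧ v * v = 1 ∧ u * v = x := by
  obtain ⟨hx2, u, hu1, hu, hi⟩ := hx
  refine ⟨u, u * x, hu1, hu, fun e => hx2 ?_, h.inverting_sq hu hi, by
    rw [← mul_assoc, hu, one_mul]⟩
  rw [eq_inv_of_mul_eq_one_right e, inv_eq_self_of_sq hu, hu]

theorem Setup.cent_odd (h : Setup G a t U) {x : G} (hx : SR x) :
    Odd (Nat.card (centralizer ({x} : Set G))) := by
  haveI := h.faithful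
  obtain ⟨u, v, hu1, hu, hv1, hv, rfl⟩ := h.sr_partner hx
  exact (strongly_real h.rankOne h.h2 hu1 hu hv1 hv hx.1).2

theorem Setup.sr_rep (h : Setup G a t U) {x : G} (hx : SR x) :
    ∃ g : G, ∃ s ∈ Ia G a, g * x * g⁻¹ = s * t := by
  haveI := h.faithful
  obtain ⟨u, v, hu1, hu, hv1, hv, rfl⟩ := h.sr_partner hx
  exact (strongly_real h.rankOne h.h2 hu1 hu hv1 hv hx.1).1

theorem Setup.eq_one_of_odd (h : Setup G a t U) {g x : G} (hgU : g ∈ U)
    (hodd : Odd (Nat.card (centralizer ({x} : Set G)))) {k : G}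
    (hg : k * g * k⁻¹ ∈ centralizer ({x} : Set G)) : g = 1 := by
  obtain ⟨n, hn⟩ := h.pgroup ⟨g, hgU⟩
  have h1 : g ^ 2 ^ n = 1 := congrArg Subtype.val hn
  rw [← orderOf_eq_one_iff]
  refine Nat.eq_one_of_dvd_coprimes ((Nat.Coprime.pow_left n hodd.coprime_two_left))
    (orderOf_dvd_of_pow_eq_one h1) ?_
  have h2 := orderOf_dvd_natCard (⟨_, hg⟩ : centralizer ({x} : Set G))
  rwa [← Subgroup.orderOf_coe, show orderOf (k * g * k⁻¹) = orderOf g from
    (MulAut.conj k).orderOf_eq g] at h2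

theorem Setup.cent_fpf_u (h : Setup G a t U) {x u : G} (hx : SR x) (hu1 : u ≠ 1) (hu : u * u = 1)
    {y : G} (hy : y ∈ centralizer ({x} : Set G)) (hc : u * y = y * u) : y = 1 := by
  haveI := h.faithful
  obtain ⟨p, hp⟩ := exists_fix_invol h.rankOne hu
  obtain ⟨g, hg⟩ := h.exists_to_a p
  have hs : g * u * g⁻¹ ∈ Ia G a :=
    ⟨by rw [← hg]; exact Setup.conj_fix hp, conj_invol_props g ⟨hu1, hu⟩⟩
  have hgy : g * y * g⁻¹ ∈ U := h.cent_invol hs (by rw [conj_mul, conj_mul, hc])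
  have := h.eq_one_of_odd hgy (h.cent_odd hx) (k := g⁻¹) (by simpa [mul_assoc] using hy)
  simpa using this

/-- An involution inverting `x` inverts the whole centraliser of `x`. -/
theorem Setup.cent_inverted (h : Setup G a t U) {x u : G} (hx : SR x) (hu1 : u ≠ 1)
    (hu : u * u = 1) (hi : u * x * u = x⁻¹) :
    ∀ y ∈ centralizer ({x} : Set G), u * y * u = y⁻¹ := by
  refine invert_of_fpf hu (fun y hy => ?_) fun y hy e => h.cent_fpf_u hx hu1 hu hy ?_
  · rw [mem_cent] at hy ⊢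
    have hx' : u * x⁻¹ * u = x := by rw [← conj_inv hu, hi, inv_inv]
    have hy' : y * x⁻¹ = x⁻¹ * y :=
      ((Commute.inv_right (show Commute y x from hy))).eq
    calc u * y * u * x = u * y * u * (u * x⁻¹ * u) := by rw [hx']
      _ = u * y * (u * u) * x⁻¹ * u := by group
      _ = u * (y * x⁻¹) * u := by rw [hu]; group
      _ = u * (x⁻¹ * y) * u := by rw [hy']
      _ = u * x⁻¹ * (u * u) * (y * u) := by rw [hu]; group
      _ = u * x⁻¹ * u * (u * y * u) := by group
      _ = x * (u * y * u) := by rw [hx']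
  · calc u * y = u * y * (u * u) := by rw [hu, mul_one]
      _ = (u * y * u) * u := by group
      _ = y * u := by rw [e]

theorem Setup.cent_comm (h : Setup G a t U) {x : G} (hx : SR x) {y z : G}
    (hy : y ∈ centralizer ({x} : Set G)) (hz : z ∈ centralizer ({x} : Set G)) :
    y * z = z * y := by
  obtain ⟨u, hu1, hu, hi⟩ := hx.2
  have h1 := h.cent_inverted hx hu1 hu hi _ ((centralizer _).mul_mem hy hz)
  rw [← conj_mul_conj hu, h.cent_inverted hx hu1 hu hi y hy, h.cent_inverted hx hu1 hu hi z hz,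
    mul_inv_rev] at h1
  simpa using (congrArg Inv.inv h1).symm

theorem Setup.sr_of_mem_cent (h : Setup G a t U) {x : G} (hx : SR x) {y : G}
    (hy : y ∈ centralizer ({x} : Set G)) (hy1 : y ≠ 1) : SR y := by
  obtain ⟨u, hu1, hu, hi⟩ := hx.2
  refine ⟨fun e => hy1 ?_, u, hu1, hu, h.cent_inverted hx hu1 hu hi y hy⟩
  exact RankOne.eq_one_of_sq (h.cent_odd hx) hy e

theorem Setup.cent_eq (h : Setup G a t U) {x : G} (hx : SR x) {y : G}
    (hy : y ∈ centralizer ({x} : Set G)) (hy1 : y ≠ 1) :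
    centralizer ({y} : Set G) = centralizer ({x} : Set G) := by
  refine le_antisymm (fun z hz => ?_) fun z hz => mem_cent.2 (h.cent_comm hx hz hy)
  refine mem_cent.2 ((h.cent_comm (h.sr_of_mem_cent hx hy hy1) hz ?_))
  exact mem_cent.2 (mem_cent.1 hy).symm

theorem Setup.sr_D (h : Setup G a t U) {d : G} (hd : d ∈ D a t) (hd1 : d ≠ 1) : SR d :=
  ⟨fun e => hd1 (RankOne.eq_one_of_sq h.odd_D hd e), t, h.tne, h.tsq, h.D_conj_t hd⟩

theorem Setup.cent_D (h : Setup G a t U) {d : G} (hd : d ∈ D a t) (hd1 : d ≠ 1) :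
    centralizer ({d} : Set G) = D a t := by
  refine le_antisymm (fun g hg => ?_) fun g hg => mem_cent.2 (h.D_comm hg hd)
  have hmap : ∀ k : G, k ∈ centralizer ({d} : Set G) → ∀ c, (c = a ∨ c = t • a) →
      (k • c = a ∨ k • c = t • a) := by
    intro k hk c hc
    refine (h.D_fix_iff hd hd1).1 ?_
    rw [← mul_smul, ← mem_cent.1 hk, mul_smul, (h.D_fix_iff hd hd1).2 hc]
  have hodd := h.cent_odd (h.sr_D hd hd1)
  have hord : Odd (orderOf g) := by
    have h2 := orderOf_dvd_natCard (⟨g, hg⟩ : centralizer ({d} : Set G))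
    rw [← Subgroup.orderOf_coe] at h2
    exact hodd.of_dvd_nat h2
  have hga : g • a = a := by
    by_contra hne
    have h1 := (hmap g hg a (Or.inl rfl)).resolve_left hne
    have h2 : g • t • a = a := by
      refine (hmap g hg (t • a) (Or.inr rfl)).resolve_right fun e => h.tmov ?_
      exact (smul_left_cancel g (h1.trans e.symm)).symm
    have h3 : ∀ m : ℕ, ((g * g) ^ m) • a = a := by
      intro m
      induction m with
      | zero => simp
      | succ m ih => rw [pow_succ, mul_smul, mul_smul, h1, h2, ih]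
    obtain ⟨m, hm⟩ := hord
    refine hne ?_
    have e : g = (g * g) ^ (m + 1) := by
      rw [← sq, ← pow_mul, show 2 * (m + 1) = (2 * m + 1) + 1 from rfl, pow_succ, ← hm,
        pow_orderOf_eq_one, one_mul]
    rw [e]; exact h3 _
  refine ⟨hga, ?_⟩
  refine (hmap g hg (t • a) (Or.inr rfl)).resolve_left fun e => h.tmov ?_
  exact smul_left_cancel g (e.trans hga.symm)

/-- A strongly real element with a fixed point is conjugate into `D`. -/
theorem Setup.sr_fix (h : Setup G a t U) {x : G} (hx : SR x) {p : Ω} (hp : x • p = p) :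
    ∃ g : G, g * x * g⁻¹ ∈ D a t := by
  haveI := h.faithful
  obtain ⟨k, hk⟩ := h.exists_to_a p
  have hka : (k * x * k⁻¹) • a = a := by rw [← hk]; exact Setup.conj_fix hp
  rcases h.stab_cases hka with hU | ⟨u, -, d, hd, -, e⟩
  · exfalso
    obtain ⟨s, hs, hs1, hs2⟩ := exists_involution_Q h.rankOne
    have hc := Ia_central h.rankOne h.h2 (show s ∈ Ia G a from ⟨h.le hs, hs1, hs2⟩) hU
    refine hs1 (h.eq_one_of_odd hs (h.cent_odd hx) (k := k⁻¹) ?_)
    rw [inv_inv, mem_cent]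
    calc k⁻¹ * s * k * x = k⁻¹ * (s * (k * x * k⁻¹)) * k := by group
      _ = _ := by rw [hc]; group
  · exact ⟨u⁻¹ * k, by
      rw [show u⁻¹ * k * x * (u⁻¹ * k)⁻¹ = u⁻¹ * (k * x * k⁻¹) * u by group, e]
      simpa [mul_assoc] using hd⟩

theorem Setup.cent_card_fix (h : Setup G a t U) {x : G} (hx : SR x) {p : Ω} (hp : x • p = p) :
    Nat.card (centralizer ({x} : Set G)) + 1 = q G a := by
  obtain ⟨g, hg⟩ := h.sr_fix hx hp
  rw [← h.card_D_eq, ← h.cent_D hg (by simpa using hx.ne_one)]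
  congr 1
  refine Nat.card_congr
    { toFun := fun y => ⟨g * y * g⁻¹, mem_cent_conj.2 (by simpa [mul_assoc] using y.2)⟩
      invFun := fun y => ⟨g⁻¹ * y * g, mem_cent_conj.1 y.2⟩
      left_inv := fun y => Subtype.ext (by simp [mul_assoc])
      right_inv := fun y => Subtype.ext (by simp [mul_assoc]) }

theorem Setup.cent_fpf (h : Setup G a t U) {x : G} (hx : SR x) (hf : ∀ c : Ω, x • c ≠ c) {y : G}
    (hy : y ∈ centralizer ({x} : Set G)) (hy1 : y ≠ 1) (c : Ω) : y • c ≠ c := by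
  intro hc
  obtain ⟨g, hg⟩ := h.sr_fix (h.sr_of_mem_cent hx hy hy1) hc
  have hgx : g * x * g⁻¹ ∈ D a t := by
    rw [← h.cent_D hg (by simpa using hy1), mem_cent, conj_mul, conj_mul, mem_cent.1 hy]
  refine hf (g⁻¹ • a) ?_
  calc x • g⁻¹ • a = g⁻¹ • (g * x * g⁻¹) • a := by
        simp only [← mul_smul]; congr 1; group
    _ = g⁻¹ • a := by rw [hgx.1]

theorem card_dvd_of_free {H X : Type*} [Group H] [Finite H] [MulAction H X] [Finite X]
    (hf : ∀ (g : H) (x : X), g • x = x → g = 1) : Nat.card H ∣ Nat.card X := by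
  rw [Nat.card_congr (MulAction.selfEquivSigmaOrbitsQuotientStabilizer H X)]
  haveI : Finite (Quotient (MulAction.orbitRel H X)) := Quotient.finite _
  letI := Fintype.ofFinite (Quotient (MulAction.orbitRel H X))
  rw [Nat.card_sigma]
  refine Finset.dvd_sum fun ω _ => ?_
  have h1 : stabilizer H ω.out = ⊥ :=
    (Subgroup.eq_bot_iff_forall _).2 fun g hg => hf g _ hg
  rw [h1, ← Subgroup.index_eq_card, Subgroup.index_bot]

theorem Setup.cent_dvd (h : Setup G a t U) {x : G} (hx : SR x) (hf : ∀ c : Ω, x • c ≠ c) :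
    Nat.card (centralizer ({x} : Set G)) ∣ Nat.card U + 1 := by
  rw [h.card_omega]
  refine card_dvd_of_free fun g c e => ?_
  by_contra hne
  exact h.cent_fpf hx hf g.2 (fun e' => hne (Subtype.ext e')) c e

open scoped Classical

/-- The number of ordered pairs of noncommuting involutions, counted by their products. -/
theorem Setup.sum_cent_sr (h : Setup G a t U) [Fintype G] :
    ∑ x ∈ Finset.univ.filter (fun x : G => SR x), Nat.card (centralizer ({x} : Set G)) =
      (Nat.card U + 1) * Nat.card U * ((q G a - 1) * (q G a - 1)) := by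
  haveI := h.faithful
  letI := Fintype.ofFinite Ω
  set I := Finset.univ.filter (fun u : G => u ≠ 1 ∧ u * u = 1) with hI
  have hmemI : ∀ {u}, u ∈ I ↔ u ≠ 1 ∧ u * u = 1 := by simp [hI]
  choose g hg using h.exists_to_a
  set P := (I ×ˢ I).filter (fun p : G × G => p.1 * p.2 * (p.1 * p.2) ≠ 1) with hP
  have hmemP : ∀ {p : G × G}, p ∈ P ↔ ((p.1 ≠ 1 ∧ p.1 * p.1 = 1) ∧ (p.2 ≠ 1 ∧ p.2 * p.2 = 1)) ∧
      p.1 * p.2 * (p.1 * p.2) ≠ 1 := by simp [hP, hmemI]
  have h1 : ∑ x ∈ Finset.univ.filter (fun x : G => SR x),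
      Nat.card (centralizer ({x} : Set G)) = P.card := by
    rw [Finset.card_eq_sum_card_fiberwise (s := P) (f := fun p => p.1 * p.2)
      (t := Finset.univ.filter (fun x : G => SR x)) fun p hp => by
        obtain ⟨⟨⟨h1, h2⟩, -, h4⟩, h5⟩ := hmemP.1 hp
        exact Finset.mem_filter.2 ⟨Finset.mem_univ _, h.sr_of_mul h1 h2 h4 h5⟩]
    refine Finset.sum_congr rfl fun x hx => ?_
    have hx' : SR x := (Finset.mem_filter.1 hx).2
    obtain ⟨u, v, hu1, hu, -, hv, rfl⟩ := h.sr_partner hx'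
    have hi : u * (u * v) * u = (u * v)⁻¹ := by
      rw [← mul_assoc u u, hu, one_mul, mul_inv_rev, inv_eq_self_of_sq hu, inv_eq_self_of_sq hv]
    rw [Nat.card_eq_fintype_card, Fintype.card_subtype]
    refine Finset.card_bij (fun y _ => (u * y, y⁻¹ * v)) ?_ ?_ ?_
    · intro y hy
      have hy' : y ∈ centralizer ({u * v} : Set G) := (Finset.mem_filter.1 hy).2
      have hiy := h.cent_inverted hx' hu1 hu hi y hy'
      have hu' : u * y * (u * y) = 1 := by rw [← mul_assoc, hiy, inv_mul_cancel]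
      have hprod : u * y * (y⁻¹ * v) = u * v := by group
      have hv' : y⁻¹ * v * (y⁻¹ * v) = 1 := by
        have e1 : y⁻¹ * v = (u * y)⁻¹ * (u * v) := by group
        have h2 : u * v * y⁻¹ = y⁻¹ * (u * v) :=
          ((Commute.inv_left (show Commute y (u * v) from mem_cent.1 hy'))).eq.symm
        calc y⁻¹ * v * (y⁻¹ * v) = y⁻¹ * (u * u) * v * y⁻¹ * v := by rw [hu]; group
          _ = y⁻¹ * u * (u * v * y⁻¹) * v := by group
          _ = y⁻¹ * (u * y⁻¹ * u) * (v * v) := by rw [h2]; group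
          _ = y⁻¹ * y := by
              rw [show u * y⁻¹ * u = y by rw [← conj_inv hu, hiy, inv_inv], hv, mul_one]
          _ = 1 := inv_mul_cancel _
      refine Finset.mem_filter.2 ⟨hmemP.2 ⟨⟨⟨fun e => ?_, hu'⟩, ⟨fun e => ?_, hv'⟩⟩, ?_⟩, hprod⟩
      · change u * y = 1 at e
        apply hx'.1
        rw [← hprod, e, one_mul, hv']
      · change y⁻¹ * v = 1 at e
        apply hx'.1
        rw [← hprod, e, mul_one, hu']
      · show u * y * (y⁻¹ * v) * (u * y * (y⁻¹ * v)) ≠ 1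
        rw [hprod]; exact hx'.1
    · intro y _ y' _ e
      exact mul_left_cancel (congrArg Prod.fst e)
    · rintro ⟨r, s⟩ hp
      obtain ⟨hp1, hp2⟩ := Finset.mem_filter.1 hp
      obtain ⟨⟨⟨hr1, hr⟩, -, hs⟩, -⟩ := hmemP.1 hp1
      change r * s = u * v at hp2
      have hir : r * (u * v) * r = (u * v)⁻¹ := by
        rw [← hp2, ← mul_assoc, hr, one_mul, mul_inv_rev, inv_eq_self_of_sq hr,
          inv_eq_self_of_sq hs]
      refine ⟨u * r, Finset.mem_filter.2 ⟨Finset.mem_univ _, mem_cent.2 ?_⟩, Prod.ext ?_ ?_⟩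
      · calc u * r * (u * v) = u * (r * (u * v) * r) * r := by
              simp only [mul_assoc]; rw [hr, mul_one]
          _ = u * (u * (u * v) * u) * r := by rw [hir, hi]
          _ = u * v * (u * r) := by simp only [← mul_assoc]; rw [hu, one_mul]
      · show u * (u * r) = r
        rw [← mul_assoc, hu, one_mul]
      · show (u * r)⁻¹ * v = s
        rw [mul_inv_rev, inv_eq_self_of_sq hr, inv_eq_self_of_sq hu, mul_assoc, ← hp2,
          ← mul_assoc, hr, one_mul]
  rw [h1]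
  have hu' : ∀ p : Ω, ∀ s : G, s ∈ Ia G a → (g p)⁻¹ * s * g p ≠ 1 ∧
      (g p)⁻¹ * s * g p * ((g p)⁻¹ * s * g p) = 1 ∧ ((g p)⁻¹ * s * g p) • p = p := by
    intro p s hs
    refine ⟨by simpa using (conj_invol_props (g p)⁻¹ hs.2).1,
      by simpa using (conj_invol_props (g p)⁻¹ hs.2).2, ?_⟩
    rw [mul_smul, mul_smul, hg, hs.1, inv_smul_eq_iff, hg]
  have hIa : Nat.card (Ia G a) = q G a - 1 := by simp [q]
  rw [h.card_omega, Nat.card_eq_fintype_card (α := Ω), ← hIa,
    Nat.card_eq_fintype_card (α := Ia G a)]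
  rw [show Fintype.card Ω * Nat.card U = (Finset.univ : Finset Ω).offDiag.card by
      rw [Finset.offDiag_card, Finset.card_univ, ← Nat.card_eq_fintype_card, ← h.card_omega,
        Nat.mul_add, Nat.mul_one, Nat.add_sub_cancel],
    show Fintype.card (Ia G a) * Fintype.card (Ia G a) =
      ((Finset.univ : Finset (Ia G a)) ×ˢ (Finset.univ : Finset (Ia G a))).card by simp,
    ← Finset.card_product]
  symm
  refine Finset.card_bij
    (fun x _ => ((g x.1.1)⁻¹ * (x.2.1 : G) * g x.1.1, (g x.1.2)⁻¹ * (x.2.2 : G) * g x.1.2))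
    ?_ ?_ ?_
  · rintro ⟨⟨p, p'⟩, s, s'⟩ hx
    have hne : p ≠ p' := by simpa using hx
    obtain ⟨h1, h2, h3⟩ := hu' p s s.2
    obtain ⟨h1', h2', h3'⟩ := hu' p' s' s'.2
    refine hmemP.2 ⟨⟨⟨h1, h2⟩, h1', h2'⟩, fun e => hne ?_⟩
    refine fix_unique h.rankOne h1 h2 h3 (fix_of_commute h.rankOne h1' h2' ?_ h3')
    have e' := eq_inv_of_mul_eq_one_left e
    rw [mul_inv_rev, inv_eq_self_of_sq h2, inv_eq_self_of_sq h2'] at e'
    exact e'.symm
  · rintro ⟨⟨p, p'⟩, s, s'⟩ _ ⟨⟨r, r'⟩, w, w'⟩ _ e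
    obtain ⟨e1, e2⟩ := Prod.ext_iff.1 e
    simp only at e1 e2
    obtain rfl : p = r := by
      obtain ⟨h1, h2, h3⟩ := hu' p s s.2
      refine fix_unique h.rankOne h1 h2 h3 ?_
      rw [e1]; exact (hu' r w w.2).2.2
    obtain rfl : p' = r' := by
      obtain ⟨h1, h2, h3⟩ := hu' p' s' s'.2
      refine fix_unique h.rankOne h1 h2 h3 ?_
      rw [e2]; exact (hu' r' w' w'.2).2.2
    rw [show s = w from Subtype.ext (mul_left_cancel (mul_right_cancel e1)),
      show s' = w' from Subtype.ext (mul_left_cancel (mul_right_cancel e2))]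
  · rintro ⟨u, v⟩ hp
    obtain ⟨⟨⟨hu1, hu⟩, hv1, hv⟩, hne⟩ := hmemP.1 hp
    change u * v * (u * v) ≠ 1 at hne
    obtain ⟨p, hp⟩ := exists_fix_invol h.rankOne hu
    obtain ⟨p', hp'⟩ := exists_fix_invol h.rankOne hv
    refine ⟨((p, p'), ⟨g p * u * (g p)⁻¹, ?_⟩, ⟨g p' * v * (g p')⁻¹, ?_⟩), ?_, ?_⟩
    · exact ⟨by rw [← hg p]; exact (Setup.conj_fix hp).trans (by rw [hg]),
        conj_invol_props _ ⟨hu1, hu⟩⟩
    · exact ⟨by rw [← hg p']; exact (Setup.conj_fix hp').trans (by rw [hg]),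
        conj_invol_props _ ⟨hv1, hv⟩⟩
    · simp only [Finset.mem_product, Finset.mem_offDiag, Finset.mem_univ, true_and, and_true]
      rintro rfl
      refine hne ?_
      have hc := commute_of_fix h.rankOne h.h2 hu1 hu hv1 hv hp hp'
      calc u * v * (u * v) = u * v * (v * u) := by rw [← hc]
        _ = 1 := by rw [mul_assoc, ← mul_assoc v, hv, one_mul, hu]
    · simp [mul_assoc]

/-- The fixed-point-free strongly real classes number `q/2`. -/
theorem Setup.sum_cent_fpf (h : Setup G a t U) [Fintype G] :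
    2 * ∑ x ∈ Finset.univ.filter (fun x : G => SR x ∧ ∀ c : Ω, x • c ≠ c),
      Nat.card (centralizer ({x} : Set G)) = Nat.card G * q G a := by
  set f : G → ℕ := fun x => if SR x then Nat.card (centralizer ({x} : Set G)) else 0 with hf
  have h1 := h.sum_cent_sr
  rw [Finset.sum_filter, ← Finset.sum_filter_add_sum_filter_not Finset.univ
    (fun x : G => ∀ c : Ω, x • c ≠ c)] at h1
  have hfc : ∀ g x : G, f (g * x * g⁻¹) = f x := by
    intro g x
    simp only [hf, sr_conj_iff]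
    split_ifs with hx
    · exact (Nat.card_congr
        { toFun := fun y : centralizer ({x} : Set G) =>
            (⟨g * y * g⁻¹, mem_cent_conj.2 (by simpa [mul_assoc] using y.2)⟩ :
              centralizer ({g * x * g⁻¹} : Set G))
          invFun := fun y => ⟨g⁻¹ * y * g, mem_cent_conj.1 y.2⟩
          left_inv := fun y => Subtype.ext (by simp [mul_assoc])
          right_inv := fun y => Subtype.ext (by simp [mul_assoc]) }).symm
    · rfl
  have h2 := h.sum_fix f hfc
  have hf1 : f 1 = 0 := if_neg fun e => e.ne_one rfl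
  have hfU : ∑ u ∈ Finset.univ.filter (fun u => u ∈ U ∧ u ≠ 1), f u = 0 := by
    refine Finset.sum_eq_zero fun u hu => if_neg fun e => ?_
    obtain ⟨-, hu, hu1⟩ := Finset.mem_filter.1 hu
    obtain ⟨g, hg⟩ := h.sr_fix e (Q_fix h.rankOne hu)
    refine h.tmov (smul_left_cancel g⁻¹ ?_)
    rw [(h.U_fix_iff hu hu1).1 (Setup.fix_conj_inv hg.2), (h.U_fix_iff hu hu1).1
      (Setup.fix_conj_inv hg.1)]
  have hfD : ∑ u ∈ Finset.univ.filter (fun u => u ∈ D a t ∧ u ≠ 1), f u =
      (q G a - 2) * (q G a - 1) := by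
    rw [Finset.sum_congr rfl (g := fun _ => q G a - 1) fun d hd => by
      obtain ⟨-, hd, hd1⟩ := Finset.mem_filter.1 hd
      rw [show f d = _ from if_pos (h.sr_D hd hd1), h.cent_D hd hd1, ← h.card_D_eq,
        Nat.add_sub_cancel]]
    rw [Finset.sum_const, smul_eq_mul]
    congr 1
    rw [← h.card_D_eq, Nat.card_eq_fintype_card, Fintype.card_subtype,
      show (Finset.univ.filter fun u : G => u ∈ D a t ∧ u ≠ 1) =
        (Finset.univ.filter fun u : G => u ∈ D a t).erase 1 by ext x; simp [and_comm],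
      Finset.card_erase_of_mem (by simp [one_mem])]
    omega
  rw [hf1, hfU, hfD, smul_zero, smul_zero, add_zero, zero_add, smul_eq_mul, smul_eq_mul] at h2
  rw [show (Finset.univ.filter fun x : G => ¬ ∀ c : Ω, x • c ≠ c) =
    Finset.univ.filter (fun x : G => ∃ c : Ω, x • c = c) from
      Finset.filter_congr fun x _ => by push Not; rfl] at h1
  rw [show (Finset.univ.filter fun x : G => SR x ∧ ∀ c : Ω, x • c ≠ c) =
      (Finset.univ.filter fun x : G => ∀ c : Ω, x • c ≠ c).filter SR by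
        rw [Finset.filter_filter]; exact Finset.filter_congr fun x _ => and_comm,
    Finset.sum_filter, h.card_G]
  simp only [hf] at h2
  obtain ⟨m, hm⟩ : ∃ m, q G a = m + 2 := ⟨q G a - 2, by have := h.two_le_q; omega⟩
  rw [hm, show m + 2 - 1 = m + 1 from rfl] at h1 h2 ⊢
  rw [Nat.add_sub_cancel] at h2
  zify at h1 h2 ⊢
  push_cast at h1 h2 ⊢
  linear_combination 2 * h1 - h2

end Cfsg.Agent.SuzukiZ
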