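import Cfsg.Agent.SuzukiZ.SR
import Cfsg.Agent.SuzukiZ.TypeA

/-!
# The fixed-point-free tori of a Zassenhaus group with Suzuki kernel
-/

set_option autoImplicit false
set_option linter.unusedSectionVars false

namespace Cfsg.Agent.SuzukiZ

open Subgroup MulAction RankOne
open scoped Classical

variable {G Ω : Type*} [Group G] [Finite G] [MulAction G Ω] [Finite Ω]
variable {a : Ω} {t : G} {U : Subgroup G}

theorem Setup.norm_mem (h : Setup G a t U) {x : G} (hx : SR x) {n y : G}
    (hn : n * x * n⁻¹ ∈ centralizer ({x} : Set G)) (hy : y ∈ centralizer ({x} : Set G)) :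
    n * y * n⁻¹ ∈ centralizer ({x} : Set G) := by
  rw [← h.cent_eq hx hn (by simpa using hx.ne_one), mem_cent_conj]
  simpa [mul_assoc] using hy

/-- The part of the normaliser of a torus commuting with an inverting involution. -/
def torusW (h : Setup G a t U) {x : G} (hx : SR x) (u : G) : Subgroup G where
  carrier := {v | v * x * v⁻¹ ∈ centralizer ({x} : Set G) ∧ v * u = u * v}
  one_mem' := ⟨by simp [mem_cent], by simp⟩
  mul_mem' := fun {v w} hv hw => ⟨by
      have := h.norm_mem hx hv.1 hw.1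
      simpa [mul_assoc] using this,
    by rw [mul_assoc, hw.2, ← mul_assoc, hv.2, mul_assoc]⟩
  inv_mem' := fun {v} hv => ⟨by
      rw [mem_cent, inv_inv]
      have h1 := mem_cent.1 hv.1
      calc v⁻¹ * x * v * x = v⁻¹ * (x * (v * x * v⁻¹)) * v := by group
        _ = v⁻¹ * ((v * x * v⁻¹) * x) * v := by rw [h1]
        _ = x * (v⁻¹ * x * v) := by group,
    by rw [inv_mul_eq_iff_eq_mul, ← mul_assoc, hv.2, mul_inv_cancel_right]⟩

variable {x u : G}

theorem mem_torusW {h : Setup G a t U} {hx : SR x} {v : G} :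
    v ∈ torusW h hx u ↔ v * x * v⁻¹ ∈ centralizer ({x} : Set G) ∧ v * u = u * v := Iff.rfl

theorem Setup.torusW_props (h : Setup G a t U) (hx : SR x) (hu1 : u ≠ 1) (hu : u * u = 1)
    (hi : u * x * u = x⁻¹) (hf : ∀ c : Ω, x • c ≠ c) :
    u ∈ torusW h hx u ∧
    (∀ v ∈ torusW h hx u, ∀ y ∈ centralizer ({x} : Set G), v * y * v⁻¹ = y → y ≠ 1 → v = 1) ∧
    (∃ g : G, ∀ v ∈ torusW h hx u, g * v * g⁻¹ ∈ U) := by
  haveI := h.faithful
  refine ⟨⟨?_, rfl⟩, fun v hv y hy e hy1 => ?_, ?_⟩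
  · rw [inv_eq_self_of_sq hu, hi]
    exact (centralizer _).inv_mem (mem_cent_self x)
  · refine h.cent_fpf_u hx hu1 hu ?_ hv.2.symm
    rw [← h.cent_eq hx hy hy1, mem_cent]
    exact mul_inv_eq_iff_eq_mul.1 e
  · obtain ⟨p, hp⟩ := exists_fix_invol h.rankOne hu
    obtain ⟨g, hg⟩ := h.exists_to_a p
    exact ⟨g, fun v hv => h.cent_invol
      (⟨by rw [← hg]; exact Setup.conj_fix hp, conj_invol_props g ⟨hu1, hu⟩⟩ : g * u * g⁻¹ ∈ Ia G a)
      (by rw [conj_mul, conj_mul, hv.2])⟩

theorem Setup.torusW_card (h : Setup G a t U) (hx : SR x) (hu1 : u ≠ 1) (hu : u * u = 1)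
    (hi : u * x * u = x⁻¹) (hf : ∀ c : Ω, x • c ≠ c) :
    (Nat.card (torusW h hx u) = 2 ∨ Nat.card (torusW h hx u) = 4 ∨
        Nat.card (torusW h hx u) = 8) ∧
      (Nat.card U = q G a ^ 2 → Nat.card (torusW h hx u) ≤ 4) ∧
      Nat.card (torusW h hx u) ∣ Nat.card (centralizer ({x} : Set G)) - 1 := by
  letI := Fintype.ofFinite G
  obtain ⟨huW, hfpf, g, hgU⟩ := h.torusW_props hx hu1 hu hi hf
  set W := torusW h hx u with hW
  have hinvo : ∀ v ∈ W, v * v = 1 → v = 1 ∨ v = u := by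
    intro v hv hv2
    by_cases hv1 : v = 1
    · exact Or.inl hv1
    refine Or.inr ?_
    have hinv : ∀ y ∈ centralizer ({x} : Set G), v * y * v = y⁻¹ := by
      refine invert_of_fpf hv2 (fun y hy => ?_) fun y hy e => ?_
      · have := h.norm_mem hx hv.1 hy
        rwa [inv_eq_self_of_sq hv2] at this
      · by_contra hy1
        exact hv1 (hfpf v hv y hy (by rwa [inv_eq_self_of_sq hv2]) hy1)
    have hvx := hinv x (mem_cent_self x)
    have hmem : u * v ∈ centralizer ({x} : Set G) := by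
      rw [mem_cent]
      calc u * v * x = u * (v * x * v) * v := by simp only [mul_assoc]; rw [hv2, mul_one]
        _ = u * (u * x * u) * v := by rw [hvx, hi]
        _ = x * (u * v) := by simp only [← mul_assoc]; rw [hu, one_mul]
    have h1 := h.cent_fpf_u hx hu1 hu hmem (by rw [mul_assoc u v u, hv.2])
    rw [eq_inv_of_mul_eq_one_right h1, inv_eq_self_of_sq hu]
  have hsq : ∀ v ∈ W, v = 1 ∨ v = u ∨ v * v = u := by
    intro v hv
    have h4 := h.sq_mem (hgU v hv)
    rw [conj_mul, conj_mul, conj_eq_one_iff] at h4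
    rcases hinvo _ (W.mul_mem hv hv) h4 with e | e
    · rcases hinvo v hv e with e' | e'
      · exact Or.inl e'
      · exact Or.inr (Or.inl e')
    · exact Or.inr (Or.inr e)
  have hcomm : ∀ v ∈ W, ∀ y ∈ W, y * v * y⁻¹ = v ∨ y * v * y⁻¹ = u * v := by
    intro v hv y hy
    have h2 := h.comm_mem (U.inv_mem (hgU y hy)) (U.inv_mem (hgU v hv))
    rw [show (g * y * g⁻¹)⁻¹⁻¹ * (g * v * g⁻¹)⁻¹⁻¹ * (g * y * g⁻¹)⁻¹ * (g * v * g⁻¹)⁻¹ =
      g * (y * v * y⁻¹ * v⁻¹) * g⁻¹ by group, conj_mul, conj_eq_one_iff] at h2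
    rcases hinvo _ (W.mul_mem (W.mul_mem (W.mul_mem hy hv) (W.inv_mem hy)) (W.inv_mem hv)) h2
      with e | e
    · exact Or.inl (mul_inv_eq_one.1 e)
    · exact Or.inr (mul_inv_eq_iff_eq_mul.1 e)
  have hcent : ∀ v ∈ W, v ≠ 1 → v ≠ u → ∀ y ∈ W, y * v = v * y →
      y ∈ ({1, u, v, u * v} : Finset G) := by
    intro v hv hv1 hvu y hy hc
    have hv2 : v * v = u := ((hsq v hv).resolve_left hv1).resolve_left hvu
    simp only [Finset.mem_insert, Finset.mem_singleton]
    rcases hsq y hy with e | e | e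
    · exact Or.inl e
    · exact Or.inr (Or.inl e)
    · have hc' : Commute y v⁻¹ := Commute.inv_right hc
      rcases hinvo (y * v⁻¹) (W.mul_mem hy (W.inv_mem hv)) (by
        calc y * v⁻¹ * (y * v⁻¹) = y * (v⁻¹ * y) * v⁻¹ := by group
          _ = y * (y * v⁻¹) * v⁻¹ := by rw [hc'.eq]
          _ = (y * y) * (v * v)⁻¹ := by group
          _ = 1 := by rw [e, hv2, mul_inv_cancel]) with e' | e'
      · exact Or.inr (Or.inr (Or.inl (mul_inv_eq_one.1 e')))
      · exact Or.inr (Or.inr (Or.inr (mul_inv_eq_iff_eq_mul.1 e')))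
  have hfour : ∀ v ∈ W, v ≠ 1 → v ≠ u → (∀ y ∈ W, y * v = v * y) → Nat.card W ≤ 4 := by
    intro v hv hv1 hvu hall
    rw [Nat.card_eq_fintype_card, Fintype.card_subtype]
    exact (Finset.card_le_card fun y hy => hcent v hv hv1 hvu y (Finset.mem_filter.1 hy).2
      (hall y (Finset.mem_filter.1 hy).2)).trans Finset.card_le_four
  have h8 : Nat.card W ≤ 8 := by
    by_cases hsmall : ∀ v ∈ W, v = 1 ∨ v = u
    · rw [Nat.card_eq_fintype_card, Fintype.card_subtype]
      refine (Finset.card_le_card (t := ({1, u} : Finset G)) fun y hy => ?_).trans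
        (Finset.card_le_two.trans (by norm_num))
      simpa using hsmall y (Finset.mem_filter.1 hy).2
    · push Not at hsmall
      obtain ⟨v, hv, hv1, hvu⟩ := hsmall
      by_cases hall : ∀ y ∈ W, y * v = v * y
      · exact (hfour v hv hv1 hvu hall).trans (by norm_num)
      push Not at hall
      obtain ⟨y, hy, hne⟩ := hall
      have hyv : y * v * y⁻¹ = u * v :=
        (hcomm v hv y hy).resolve_left fun e => hne (mul_inv_eq_iff_eq_mul.1 e)
      rw [Nat.card_eq_fintype_card, Fintype.card_subtype]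
      refine (Finset.card_le_card (t := ({1, u, v, u * v} : Finset G) ∪
        ({1, u, v, u * v} : Finset G).image (y * ·)) fun z hz => ?_).trans ?_
      · have hz' : z ∈ W := (Finset.mem_filter.1 hz).2
        rw [Finset.mem_union]
        rcases hcomm v hv z hz' with e | e
        · exact Or.inl (hcent v hv hv1 hvu z hz' (mul_inv_eq_iff_eq_mul.1 e))
        · refine Or.inr (Finset.mem_image.2 ⟨y⁻¹ * z,
            hcent v hv hv1 hvu _ (W.mul_mem (W.inv_mem hy) hz') ?_, mul_inv_cancel_left _ _⟩)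
          calc y⁻¹ * z * v = y⁻¹ * (z * v * z⁻¹) * z := by group
            _ = y⁻¹ * (y * v * y⁻¹) * z := by rw [e, hyv]
            _ = v * (y⁻¹ * z) := by group
      · refine (Finset.card_union_le _ _).trans ?_
        have := Finset.card_le_four (a := (1 : G)) (b := u) (c := v) (d := u * v)
        have := Finset.card_image_le (s := ({1, u, v, u * v} : Finset G)) (f := (y * ·))
        omega
  refine ⟨?_, fun hQ => ?_, ?_⟩
  · obtain ⟨m, hm⟩ := IsPGroup.iff_card.1 h.pgroup
    have hdvd : Nat.card W ∣ 2 ^ m := by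
      rw [← hm, Nat.card_congr (W.equivMapOfInjective (MulAut.conj g).toMonoidHom
        (MulAut.conj g).injective).toEquiv]
      refine Subgroup.card_dvd_of_le ?_
      rintro _ ⟨v, hv, rfl⟩
      exact hgU v hv
    obtain ⟨j, -, hj⟩ := (Nat.dvd_prime_pow Nat.prime_two).1 hdvd
    haveI : Nontrivial W := ⟨⟨⟨u, huW⟩, 1, fun e => hu1 (congrArg Subtype.val e)⟩⟩
    have h1 := Finite.one_lt_card (α := W)
    rw [hj] at h1 h8 ⊢
    have hj1 : j ≤ 3 := by
      by_contra hlt
      have := Nat.pow_le_pow_right (show 1 ≤ 2 by norm_num) (show 4 ≤ j by omega)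
      omega
    clear hj hdvd hm
    interval_cases j <;> first | (norm_num; done) | omega
  · by_cases hsmall : ∀ v ∈ W, v = 1 ∨ v = u
    · rw [Nat.card_eq_fintype_card, Fintype.card_subtype]
      refine (Finset.card_le_card (t := ({1, u} : Finset G)) fun y hy => ?_).trans
        (Finset.card_le_two.trans (by norm_num))
      simpa using hsmall y (Finset.mem_filter.1 hy).2
    · push Not at hsmall
      obtain ⟨v, hv, hv1, hvu⟩ := hsmall
      refine hfour v hv hv1 hvu fun y hy => ?_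
      have hv2 : v * v = u := ((hsq v hv).resolve_left hv1).resolve_left hvu
      rcases hsq y hy with rfl | rfl | e
      · simp
      · exact hv.2.symm
      · have h3 := h.sq_inj hQ (hgU v hv) (hgU y hy) (by rw [conj_mul, conj_mul, hv2, e])
        rw [show (g * v * g⁻¹)⁻¹ = g * v⁻¹ * g⁻¹ by group, conj_mul, conj_mul, conj_eq_one_iff] at h3
        rcases hinvo _ (W.mul_mem (W.inv_mem hv) hy) h3 with e' | e'
        · rw [inv_mul_eq_one.1 e']
        · rw [inv_mul_eq_iff_eq_mul.1 e', mul_assoc, ← hv.2]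
  · letI : MulAction W {y : G // y ∈ centralizer ({x} : Set G) ∧ y ≠ 1} :=
      { smul := fun v y => ⟨(v : G) * y * (v : G)⁻¹, h.norm_mem hx v.2.1 y.2.1,
          by simpa using y.2.2⟩
        one_smul := fun y => Subtype.ext (by show (1 : G) * _ * (1 : G)⁻¹ = _; simp)
        mul_smul := fun v w y => Subtype.ext (by
          show ((v : G) * w) * _ * ((v : G) * w)⁻¹ = (v : G) * ((w : G) * _ * (w : G)⁻¹) * (v : G)⁻¹
          group) }
    refine (card_dvd_of_free (H := W) (X := {y : G // y ∈ centralizer ({x} : Set G) ∧ y ≠ 1})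
      fun v y e => Subtype.ext (hfpf v v.2 y y.2.1 (congrArg Subtype.val e) y.2.2)).trans ?_
    rw [Nat.card_eq_fintype_card, Fintype.card_subtype, Nat.card_eq_fintype_card,
      Fintype.card_subtype,
      show (Finset.univ.filter fun y : G => y ∈ centralizer ({x} : Set G) ∧ y ≠ 1) =
        (Finset.univ.filter fun y : G => y ∈ centralizer ({x} : Set G)).erase 1 by
          ext y; simp [and_comm],
      Finset.card_erase_of_mem (by simp [mem_cent])]

theorem Setup.card_norm (h : Setup G a t U) [Fintype G] (hx : SR x) (hu1 : u ≠ 1)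
    (hu : u * u = 1) (hi : u * x * u = x⁻¹) :
    (Finset.univ.filter fun n : G => n * x * n⁻¹ ∈ centralizer ({x} : Set G)).card =
      Nat.card (centralizer ({x} : Set G)) * Nat.card (torusW h hx u) := by
  have hodd := h.cent_odd hx
  rw [Nat.card_eq_fintype_card, Fintype.card_subtype, Nat.card_eq_fintype_card,
    Fintype.card_subtype, ← Finset.card_product]
  symm
  refine Finset.card_bij (fun p _ => p.1 * p.2) ?_ ?_ ?_
  · rintro ⟨y, v⟩ hp
    simp only [Finset.mem_product, Finset.mem_filter, Finset.mem_univ, true_and] at hp ⊢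
    have h1 := (mem_torusW.1 hp.2).1
    rw [show y * v * x * (y * v)⁻¹ = y * (v * x * v⁻¹) * y⁻¹ by group]
    exact (centralizer _).mul_mem ((centralizer _).mul_mem hp.1 h1) ((centralizer _).inv_mem hp.1)
  · rintro ⟨y, v⟩ hp ⟨y', v'⟩ hp' e
    simp only [Finset.mem_product, Finset.mem_filter, Finset.mem_univ, true_and] at hp hp'
    change y * v = y' * v' at e
    have h1 : y'⁻¹ * y = v' * v⁻¹ := by
      rw [eq_mul_inv_iff_mul_eq, mul_assoc, e, inv_mul_cancel_left]
    have h2 := h.cent_fpf_u hx hu1 hu ((centralizer _).mul_mem ((centralizer _).inv_mem hp'.1) hp.1)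
      (by rw [h1]; exact ((mem_torusW.1 ((torusW h hx u).mul_mem hp'.2
        ((torusW h hx u).inv_mem hp.2))).2).symm)
    obtain rfl := (inv_mul_eq_one.1 h2).symm
    exact Prod.ext rfl (mul_left_cancel e)
  · intro n hn
    have hn' : n * x * n⁻¹ ∈ centralizer ({x} : Set G) := (Finset.mem_filter.1 hn).2
    have hinv : ∀ y ∈ centralizer ({x} : Set G), n * u * n⁻¹ * y * (n * u * n⁻¹) = y⁻¹ := by
      intro y hy
      refine h.cent_inverted hx (by simpa using hu1) (by rw [conj_mul, hu]; group) ?_ y hy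
      have h1 : u * (n⁻¹ * x * n) * u = (n⁻¹ * x * n)⁻¹ := by
        refine h.cent_inverted hx hu1 hu hi _ ?_
        rw [mem_cent]
        calc n⁻¹ * x * n * x = n⁻¹ * (x * (n * x * n⁻¹)) * n := by group
          _ = n⁻¹ * ((n * x * n⁻¹) * x) * n := by rw [mem_cent.1 hn']
          _ = x * (n⁻¹ * x * n) := by group
      calc n * u * n⁻¹ * x * (n * u * n⁻¹) = n * (u * (n⁻¹ * x * n) * u) * n⁻¹ := by group
        _ = _ := by rw [h1]; group
    have hmem : u * (n * u * n⁻¹) ∈ centralizer ({x} : Set G) := by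
      rw [mem_cent]
      calc u * (n * u * n⁻¹) * x
          = u * (n * u * n⁻¹ * x * (n * u * n⁻¹)) * (n * u * n⁻¹) := by
            simp only [mul_assoc]
            congr 2
            rw [show n * (u * (n⁻¹ * (n * (u * n⁻¹)))) = 1 by
              rw [inv_mul_cancel_left, ← mul_assoc u, hu]; group]
            group
        _ = u * (u * x * u) * (n * u * n⁻¹) := by rw [hinv x (mem_cent_self x), hi]
        _ = x * (u * (n * u * n⁻¹)) := by simp only [← mul_assoc]; rw [hu, one_mul]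
    set c := sqr (centralizer ({x} : Set G)) (u * (n * u * n⁻¹)) with hc
    have hcc := sqr_mem (x := u * (n * u * n⁻¹)) hmem
    rw [← hc] at hcc
    have hsq : c * c = u * (n * u * n⁻¹) := sqr_mul_self hodd hmem
    refine ⟨(c⁻¹, c * n), ?_, by simp⟩
    refine Finset.mem_product.2 ⟨Finset.mem_filter.2 ⟨Finset.mem_univ _, (centralizer _).inv_mem hcc⟩,
      Finset.mem_filter.2 ⟨Finset.mem_univ _, mem_torusW.2 ⟨?_, ?_⟩⟩⟩
    · rw [show c * n * x * (c * n)⁻¹ = c * (n * x * n⁻¹) * c⁻¹ by group]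
      exact (centralizer _).mul_mem ((centralizer _).mul_mem hcc hn') ((centralizer _).inv_mem hcc)
    · have h1 : n * u * n⁻¹ = u * (c * c) := by rw [hsq, ← mul_assoc, hu, one_mul]
      have h2 := h.cent_inverted hx hu1 hu hi c hcc
      calc c * n * u = c * (n * u * n⁻¹) * n := by group
        _ = c * u * c * (c * n) := by rw [h1]; group
        _ = u * (u * c * u) * c * (c * n) := by simp only [← mul_assoc]; rw [hu, one_mul]
        _ = u * (c * n) := by rw [h2]; group

/-- Representatives of the classes of fixed-point-free tori. -/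
theorem Setup.exists_tori (h : Setup G a t U) [Fintype G] :
    ∃ (n : ℕ) (A : Fin n → Subgroup G) (w k : Fin n → ℕ),
      2 * ∑ i, k i = q G a ∧
      (∀ i, (w i = 2 ∨ w i = 4 ∨ w i = 8) ∧ 1 ≤ k i ∧ Nat.card (A i) = w i * k i + 1 ∧
        Nat.card (A i) ∣ Nat.card U + 1 ∧ (Nat.card U = q G a ^ 2 → w i ≤ 4)) ∧
      (∀ i j, i ≠ j → Nat.Coprime (Nat.card (A i)) (Nat.card (A j))) ∧
      (∀ i, ∀ y ∈ A i, ∀ z ∈ A i, y * z = z * y) ∧
      (∀ f : G → ℝ, (∀ g y, f (g * y * g⁻¹) = f y) → (∀ y, 0 ≤ f y) →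
        ∑ i, (Nat.card G : ℝ) / (Nat.card (A i) * w i) *
            ∑ y ∈ Finset.univ.filter (fun y => y ∈ A i ∧ y ≠ 1), f y ≤
          ∑ y ∈ Finset.univ.filter (fun y : G => ∀ c : Ω, y • c ≠ c), f y) := by
  let P := {x : G // SR x ∧ ∀ c : Ω, x • c ≠ c}
  let rel : P → P → Prop := fun x y => ∃ g : G, g * x.1 * g⁻¹ ∈ centralizer ({y.1} : Set G)
  have hconj : ∀ {x y : P} {g : G}, g * x.1 * g⁻¹ ∈ centralizer ({y.1} : Set G) →
      centralizer ({g * x.1 * g⁻¹} : Set G) = centralizer ({y.1} : Set G) := fun {x y g} hg =>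
    h.cent_eq y.2.1 hg (by simpa using x.2.1.ne_one)
  letI s : Setoid P := ⟨rel, fun x => ⟨1, by simp [mem_cent]⟩, fun {x y} ⟨g, hg⟩ => ⟨g⁻¹, by
      have h1 : y.1 ∈ centralizer ({g * x.1 * g⁻¹} : Set G) := by
        rw [hconj hg]; exact mem_cent_self _
      simpa [mul_assoc] using mem_cent_conj.1 h1⟩,
    fun {x y z} ⟨g, hg⟩ ⟨k, hk⟩ => ⟨k * g, by
      have h1 : k * (g * x.1 * g⁻¹) * k⁻¹ ∈ centralizer ({k * y.1 * k⁻¹} : Set G) :=
        mem_cent_conj.2 (by simpa [mul_assoc] using hg)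
      rw [hconj hk] at h1
      simpa [mul_assoc] using h1⟩⟩
  haveI : Finite (Quotient s) := Quotient.finite _
  obtain ⟨n, ⟨e⟩⟩ := Finite.exists_equiv_fin (Quotient s)
  let r : Fin n → P := fun i => (e.symm i).out
  have hr_inj : ∀ i j, (∃ g : G, g * (r i).1 * g⁻¹ ∈ centralizer ({(r j).1} : Set G)) → i = j := by
    intro i j hij
    have : Quotient.mk s (r i) = Quotient.mk s (r j) := Quotient.sound hij
    simpa [r] using this
  have hr_surj : ∀ x : P, ∃ i, ∃ g : G, g * x.1 * g⁻¹ ∈ centralizer ({(r i).1} : Set G) :=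
    fun x => ⟨e (Quotient.mk s x), Quotient.exact (s := s)
      (show Quotient.mk s x = Quotient.mk s _ by simp [r])⟩
  choose u hu1 hu hi using fun i => (r i).2.1.2
  let A : Fin n → Subgroup G := fun i => centralizer ({(r i).1} : Set G)
  let w : Fin n → ℕ := fun i => Nat.card (torusW h (r i).2.1 (u i))
  let k : Fin n → ℕ := fun i => (Nat.card (A i) - 1) / w i
  have hW := fun i => h.torusW_card (r i).2.1 (hu1 i) (hu i) (hi i) (r i).2.2
  have hA : ∀ i, 1 < Nat.card (A i) := fun i => by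
    haveI : Nontrivial (A i) := ⟨⟨⟨(r i).1, mem_cent_self _⟩, 1,
      fun e => (r i).2.1.ne_one (congrArg Subtype.val e)⟩⟩
    exact Finite.one_lt_card
  have hk : ∀ i, Nat.card (A i) = w i * k i + 1 := fun i => by
    have := Nat.mul_div_cancel' (hW i).2.2
    have := hA i
    show _ = w i * ((Nat.card (A i) - 1) / w i) + 1
    simp only [w, A] at *
    omega
  -- the conjugates of the representatives
  set X := fun i => Finset.univ.filter (fun z : G => ∃ g : G, g⁻¹ * z * g ∈ A i ∧ z ≠ 1) with hX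
  have hXP : ∀ i, ∀ z ∈ X i, SR z ∧ ∀ c : Ω, z • c ≠ c := by
    intro i z hz
    obtain ⟨g, hg, hz1⟩ := (Finset.mem_filter.1 hz).2
    have hne : g⁻¹ * z * g ≠ 1 := fun e => hz1 (by
      calc z = g * (g⁻¹ * z * g) * g⁻¹ := by group
        _ = 1 := by rw [e]; group)
    refine ⟨?_, fun c hc => ?_⟩
    · have := (h.sr_of_mem_cent (r i).2.1 hg hne).conj g
      simpa [mul_assoc] using this
    · exact h.cent_fpf (r i).2.1 (r i).2.2 hg hne (g⁻¹ • c)
        (by rw [mul_smul, mul_smul, smul_inv_smul, hc])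
  have hdisj : ((Finset.univ : Finset (Fin n)) : Set (Fin n)).PairwiseDisjoint X := by
    intro i _ j _ hij
    rw [Function.onFun, Finset.disjoint_left]
    intro z hzi hzj
    obtain ⟨g, hg, hz1⟩ := (Finset.mem_filter.1 hzi).2
    obtain ⟨g', hg', -⟩ := (Finset.mem_filter.1 hzj).2
    refine hij (hr_inj i j ⟨g'⁻¹ * g, ?_⟩)
    have hne : g'⁻¹ * z * g' ≠ 1 := fun e => hz1 (by
      calc z = g' * (g'⁻¹ * z * g') * g'⁻¹ := by group
        _ = 1 := by rw [e]; group)
    rw [← h.cent_eq (r j).2.1 hg' hne,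
      show g'⁻¹ * z * g' = g'⁻¹ * g * (g⁻¹ * z * g) * (g'⁻¹ * g)⁻¹ by group, mem_cent_conj]
    have h3 : (g⁻¹ * z * g) * (r i).1 = (r i).1 * (g⁻¹ * z * g) := mem_cent.1 hg
    rw [mem_cent]
    calc (g'⁻¹ * g)⁻¹ * (g'⁻¹ * g * (r i).1 * (g'⁻¹ * g)⁻¹) * (g'⁻¹ * g) * (g⁻¹ * z * g)
        = (r i).1 * (g⁻¹ * z * g) := by group
      _ = (g⁻¹ * z * g) * (r i).1 := h3.symm
      _ = _ := by group
  have hunion : Finset.univ.biUnion X =
      Finset.univ.filter (fun z : G => SR z ∧ ∀ c : Ω, z • c ≠ c) := by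
    ext z
    refine ⟨fun hz => ?_, fun hz => ?_⟩
    · obtain ⟨i, -, hi'⟩ := Finset.mem_biUnion.1 hz
      exact Finset.mem_filter.2 ⟨Finset.mem_univ _, hXP i z hi'⟩
    · obtain ⟨i, g, hg⟩ := hr_surj ⟨z, (Finset.mem_filter.1 hz).2⟩
      exact Finset.mem_biUnion.2 ⟨i, Finset.mem_univ _, Finset.mem_filter.2 ⟨Finset.mem_univ _,
        g⁻¹, by simpa using hg, (Finset.mem_filter.1 hz).2.1.ne_one⟩⟩
  have hfib : ∀ (i : Fin n) (f : G → ℝ), (∀ g y, f (g * y * g⁻¹) = f y) →
      (Nat.card G : ℝ) / (Nat.card (A i) * w i) *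
          ∑ y ∈ Finset.univ.filter (fun y => y ∈ A i ∧ y ≠ 1), f y = ∑ z ∈ X i, f z := by
    intro i f hf
    have hpos : (0 : ℝ) < (Nat.card (A i) : ℝ) * w i := by
      have := Nat.card_pos (α := A i)
      have := Nat.card_pos (α := torusW h (r i).2.1 (u i))
      positivity
    rw [div_mul_eq_mul_div, div_eq_iff hpos.ne']
    rw [Nat.card_eq_fintype_card, ← Finset.card_univ, ← nsmul_eq_mul, ← Finset.sum_const,
      ← Finset.sum_product']
    have hmap : ∀ p ∈ (Finset.univ : Finset G) ×ˢ Finset.univ.filter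
        (fun y => y ∈ A i ∧ y ≠ 1), p.1 * p.2 * p.1⁻¹ ∈ X i := by
      rintro ⟨g, y⟩ hp
      simp only [Finset.mem_product, Finset.mem_filter, Finset.mem_univ, true_and] at hp
      exact Finset.mem_filter.2 ⟨Finset.mem_univ _, g, by simpa [mul_assoc] using hp.1,
        by simpa using hp.2⟩
    rw [← Finset.sum_fiberwise_of_maps_to hmap, Finset.sum_mul]
    refine Finset.sum_congr rfl fun z hz => ?_
    rw [Finset.sum_congr rfl (g := fun _ => f z) fun p hp => by
      rw [← (Finset.mem_filter.1 hp).2, hf], Finset.sum_const, nsmul_eq_mul, mul_comm (f z)]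
    congr 1
    rw [← Nat.cast_mul]
    congr 1
    show _ = Nat.card (A i) * Nat.card (torusW h (r i).2.1 (u i))
    rw [← h.card_norm (r i).2.1 (hu1 i) (hu i) (hi i)]
    obtain ⟨g₀, hg₀, hz1⟩ := (Finset.mem_filter.1 hz).2
    set y₀ := g₀⁻¹ * z * g₀ with hy₀
    have hy1 : y₀ ≠ 1 := fun e => hz1 (by
      calc z = g₀ * y₀ * g₀⁻¹ := by rw [hy₀]; group
        _ = 1 := by rw [e]; group)
    refine Finset.card_bij (fun p _ => g₀⁻¹ * p.1) ?_ ?_ ?_
    · rintro ⟨g, y⟩ hp
      simp only [Finset.mem_product, Finset.mem_filter, Finset.mem_univ, true_and] at hp ⊢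
      rw [← h.cent_eq (r i).2.1 hg₀ hy1]
      have hy' : y₀ = g₀⁻¹ * g * y * (g₀⁻¹ * g)⁻¹ := by rw [hy₀, ← hp.2]; group
      rw [hy', mem_cent_conj]
      rw [mem_cent]
      have h3 : y * (r i).1 = (r i).1 * y := mem_cent.1 hp.1.1
      calc (g₀⁻¹ * g)⁻¹ * (g₀⁻¹ * g * (r i).1 * (g₀⁻¹ * g)⁻¹) * (g₀⁻¹ * g) * y
          = (r i).1 * y := by group
        _ = y * (r i).1 := h3.symm
        _ = _ := by group
    · rintro ⟨g, y⟩ hp ⟨g', y'⟩ hp' e
      obtain rfl : g = g' := mul_left_cancel e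
      simp only [Finset.mem_filter] at hp hp'
      have e2 : g * y * g⁻¹ = g * y' * g⁻¹ := hp.2.trans hp'.2.symm
      rw [mul_left_cancel (mul_right_cancel e2)]
    · intro m hm
      have hm' : m * (r i).1 * m⁻¹ ∈ A i := (Finset.mem_filter.1 hm).2
      refine ⟨(g₀ * m, m⁻¹ * y₀ * m), ?_, by simp⟩
      simp only [Finset.mem_product, Finset.mem_filter, Finset.mem_univ, true_and]
      refine ⟨⟨?_, fun e => hy1 ?_⟩, by rw [hy₀]; group⟩
      · have h3 : y₀ * (m * (r i).1 * m⁻¹) = m * (r i).1 * m⁻¹ * y₀ :=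
          h.cent_comm (r i).2.1 hg₀ hm'
        rw [mem_cent]
        calc m⁻¹ * y₀ * m * (r i).1 = m⁻¹ * (y₀ * (m * (r i).1 * m⁻¹)) * m := by group
          _ = _ := by rw [h3]; group
      · calc y₀ = m * (m⁻¹ * y₀ * m) * m⁻¹ := by group
          _ = 1 := by rw [e]; group
  have hsum : ∀ f : G → ℝ, (∀ g y, f (g * y * g⁻¹) = f y) →
      ∑ i, (Nat.card G : ℝ) / (Nat.card (A i) * w i) *
          ∑ y ∈ Finset.univ.filter (fun y => y ∈ A i ∧ y ≠ 1), f y =
        ∑ z ∈ Finset.univ.filter (fun z : G => SR z ∧ ∀ c : Ω, z • c ≠ c), f z := by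
    intro f hf
    rw [← hunion, Finset.sum_biUnion hdisj]
    exact Finset.sum_congr rfl fun i _ => hfib i f hf
  refine ⟨n, A, w, k, ?_, fun i => ⟨(hW i).1, ?_, hk i, h.cent_dvd (r i).2.1 (r i).2.2,
    (hW i).2.1⟩, fun i j hij => ?_, fun i y hy z hz => h.cent_comm (r i).2.1 hy hz,
    fun f hf hf0 => ?_⟩
  · have h1 := hsum (fun z => (Nat.card (centralizer ({z} : Set G)) : ℝ)) fun g y => by
      congr 1
      exact Nat.card_congr
        { toFun := fun z => ⟨g⁻¹ * z * g, mem_cent_conj.1 z.2⟩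
          invFun := fun z => ⟨g * z * g⁻¹, mem_cent_conj.2 (by simpa [mul_assoc] using z.2)⟩
          left_inv := fun z => Subtype.ext (by simp [mul_assoc])
          right_inv := fun z => Subtype.ext (by simp [mul_assoc]) }
    have h2 := h.sum_cent_fpf
    rw [Finset.sum_congr rfl (g := fun i => (Nat.card G : ℝ) * k i) fun i _ => ?_] at h1
    · rw [← Finset.mul_sum, ← Nat.cast_sum, ← Nat.cast_sum, ← Nat.cast_mul, Nat.cast_inj] at h1
      rw [← h1] at h2
      refine Nat.eq_of_mul_eq_mul_left (Nat.card_pos (α := G)) ?_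
      rw [← h2]; ring
    rw [Finset.sum_congr rfl (g := fun _ => (Nat.card (A i) : ℝ)) fun y hy => by
      obtain ⟨-, hy, hy1⟩ := Finset.mem_filter.1 hy
      rw [h.cent_eq (r i).2.1 hy hy1], Finset.sum_const, nsmul_eq_mul]
    have hc : ((Finset.univ.filter fun y => y ∈ A i ∧ y ≠ 1).card : ℝ) = w i * k i := by
      rw [← Nat.cast_mul, Nat.cast_inj,
        show (Finset.univ.filter fun y : G => y ∈ A i ∧ y ≠ 1) =
          (Finset.univ.filter fun y : G => y ∈ A i).erase 1 by ext y; simp [and_comm],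
        Finset.card_erase_of_mem (by simp [one_mem]), ← Fintype.card_subtype,
        ← Nat.card_eq_fintype_card]
      have := hk i
      omega
    rw [hc]
    have hw0 : (w i : ℝ) ≠ 0 := by
      have := Nat.card_pos (α := torusW h (r i).2.1 (u i))
      positivity
    have hA0 : (Nat.card (A i) : ℝ) ≠ 0 := by
      have := hA i
      positivity
    field_simp
  · by_contra hk0
    have := hk i
    have := hA i
    have e : w i * k i = 0 := by rw [show k i = 0 by omega, mul_zero]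
    omega
  · by_contra hnc
    obtain ⟨p, hp, hpi, hpj⟩ := Nat.Prime.not_coprime_iff_dvd.1 hnc
    haveI : Fact p.Prime := ⟨hp⟩
    have hsyl : ∀ l, p ∣ Nat.card (A l) → ∃ P : Sylow p G, (P : Subgroup G) ≤ A l ∧
        ∃ y ∈ P, y ≠ 1 := by
      intro l hl
      obtain ⟨y, hy⟩ := exists_prime_orderOf_dvd_card' (G := A l) p hl
      have hy1 : (y : G) ≠ 1 := fun e => hp.ne_one (by
        rw [← hy, show y = 1 from Subtype.ext e, orderOf_one])
      obtain ⟨P, hP⟩ := (IsPGroup.of_card (n := 1) (by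
        rw [Nat.card_zpowers, Subgroup.orderOf_coe, hy, pow_one]) : IsPGroup p (zpowers (y : G))).exists_le_sylow
      have hyP : (y : G) ∈ P := hP (mem_zpowers _)
      haveI : Nontrivial P := ⟨⟨⟨y, hyP⟩, 1, fun e => hy1 (congrArg Subtype.val e)⟩⟩
      haveI := P.isPGroup'.center_nontrivial
      obtain ⟨z, hz⟩ := exists_ne (1 : Subgroup.center P)
      have hz1 : ((z : P) : G) ≠ 1 := fun e => hz (Subtype.ext (Subtype.ext e))
      have hzA : ((z : P) : G) ∈ A l := by
        show _ ∈ centralizer _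
        rw [← h.cent_eq (r l).2.1 y.2 hy1, mem_cent]
        exact (congrArg Subtype.val (Subgroup.mem_center_iff.1 z.2 ⟨y, hyP⟩)).symm
      refine ⟨P, fun v hv => ?_, y, hyP, hy1⟩
      show v ∈ centralizer _
      rw [← h.cent_eq (r l).2.1 hzA hz1, mem_cent]
      exact congrArg Subtype.val (Subgroup.mem_center_iff.1 z.2 ⟨v, hv⟩)
    obtain ⟨P, hP, y, hy, hy1⟩ := hsyl i hpi
    obtain ⟨P', hP', -⟩ := hsyl j hpj
    obtain ⟨g, hg⟩ := MulAction.exists_smul_eq G P P'
    have hgy : g * y * g⁻¹ ∈ A j := hP' (by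
      rw [← hg, Sylow.coe_subgroup_smul]
      exact Subgroup.mem_pointwise_smul_iff_inv_smul_mem.2 (by
        rw [← map_inv, MulAut.smul_def, MulAut.conj_apply]
        simpa [mul_assoc] using (show y ∈ (P : Subgroup G) from hy)))
    refine hij (hr_inj i j ⟨g, ?_⟩)
    show _ ∈ centralizer _
    rw [← h.cent_eq (r j).2.1 hgy (by simpa using hy1), mem_cent_conj]
    have : y * (r i).1 = (r i).1 * y := mem_cent.1 (hP hy)
    simpa [mem_cent, mul_assoc] using this.symm
  · rw [hsum f hf]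
    exact Finset.sum_le_sum_of_subset_of_nonneg
      (fun z hz => Finset.mem_filter.2 ⟨Finset.mem_univ _, (Finset.mem_filter.1 hz).2.2⟩)
      fun z _ _ => hf0 z

end Cfsg.Agent.SuzukiZ
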